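import Groth.Agent.FF.LR.Hasse
import Mathlib.RingTheory.PowerSeries.Derivative

/-! Existence of Laurent expansions at separable places. -/

set_option autoImplicit false
set_option linter.style.haveILetI false
set_option linter.unusedSectionVars false

open FunFld WithZero Polynomial

namespace Groth.Agent.FF

universe u v w

variable {k : Type u} {K : Type v} [Field k] [Field K] [Algebra k K]

/-- data for a digit expansion at `P` -/
structure Digit (P : Place k K) (F : Type w) [Field F] [Algebra k F] where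
  a : K
  c : F
  π : k[X]
  a_int : P.1 a ≤ 1
  π_monic : π.Monic
  π_irr : Irreducible π
  π_c : aeval c π = 0
  π_sep : aeval c (derivative π) ≠ 0
  π_a : P.1 (aeval a π) = exp (-1 : ℤ)
  full : ∀ y : K, P.1 y ≤ 1 → ∃ R : k[X], P.1 (y - aeval a R) < 1
  zero : ∀ R : k[X], P.1 (aeval a R) < 1 → aeval c R = 0
  surj : ∀ f : F, ∃ R : k[X], aeval c R = f

namespace Digit

variable {P : Place k K} {F : Type w} [Field F] [Algebra k F] (D : Digit P F)
include D

lemma int (R : k[X]) : P.1 (aeval D.a R) ≤ 1 := by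
  rw [Polynomial.aeval_eq_sum_range]
  refine Valuation.map_sum_le _ fun i _ => (val_smul_le P _ _).trans ?_
  rw [map_pow]; exact pow_le_one₀ zero_le D.a_int

lemma dvd_pow_of_le {R : k[X]} (N : ℕ) (h : P.1 (aeval D.a R) ≤ exp (-(N : ℤ))) : D.π ^ N ∣ R := by
  induction N generalizing R with
  | zero => simp
  | succ N ih =>
    obtain ⟨S, rfl⟩ := ih (h.trans (exp_le_exp.2 (by omega)))
    rw [map_mul, map_mul, map_pow, map_pow, D.π_a, ← exp_nsmul] at h
    have hS : P.1 (aeval D.a S) < 1 := by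
      by_contra hge
      rw [not_lt] at hge
      have := (mul_le_mul' le_rfl hge).trans h
      rw [mul_one, exp_le_exp] at this
      simp at this
    have : minpoly k D.c ∣ S := minpoly.dvd k D.c (D.zero S hS)
    rw [← minpoly.eq_of_irreducible_of_monic D.π_irr D.π_c D.π_monic] at this
    rw [pow_succ]
    exact mul_dvd_mul_left _ this

lemma approxR {y : K} (hy : P.1 y ≤ 1) (N : ℕ) :
    ∃ R : k[X], P.1 (y - aeval D.a R) ≤ exp (-(N : ℤ)) := by
  induction N with
  | zero => exact ⟨0, by simpa using hy⟩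
  | succ N ih =>
    obtain ⟨R, hR⟩ := ih
    have hs0 := ne_zero_of_val_eq_exp P D.π_a
    obtain ⟨S, hS⟩ := D.full ((y - aeval D.a R) / aeval D.a D.π ^ N) (by
      rw [map_div₀, map_pow, D.π_a, ← exp_nsmul, div_le_one₀ (exp_pos)]
      simpa using hR)
    refine ⟨R + D.π ^ N * S, ?_⟩
    have hsN : aeval D.a D.π ^ N ≠ 0 := pow_ne_zero _ hs0
    have e : y - aeval D.a (R + D.π ^ N * S) =
        aeval D.a D.π ^ N * ((y - aeval D.a R) / aeval D.a D.π ^ N - aeval D.a S) := by
      rw [map_add, map_mul, map_pow, mul_sub, mul_div_cancel₀ _ hsN]; ring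
    rw [e, map_mul, map_pow, D.π_a, ← exp_nsmul]
    refine (mul_le_mul' le_rfl ((lt_exp_iff _ 0).1 (hS.trans_eq exp_zero.symm))).trans_eq ?_
    rw [← exp_add]; congr 1; simp; ring

/-- image of a polynomial in `a` -/
noncomputable def T : k[X] →ₐ[k] PowerSeries F := aeval (PowerSeries.C D.c + PowerSeries.X)

lemma constantCoeff_T (R : k[X]) : PowerSeries.constantCoeff (D.T R) = aeval D.c R := by
  rw [T, Polynomial.aeval_def, Polynomial.hom_eval₂, Polynomial.aeval_def]
  congr 1 <;> first | (ext c; simp) | simp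

lemma coeff_one_T (R : k[X]) : PowerSeries.coeff 1 (D.T R) = aeval D.c (derivative R) := by
  induction R using Polynomial.induction_on' with
  | add p q hp hq => rw [map_add, map_add, hp, hq, derivative_add, map_add]
  | monomial n r =>
    rw [T, aeval_monomial, derivative_monomial, aeval_monomial, PowerSeries.algebraMap_apply, PowerSeries.coeff_C_mul,
      map_mul, map_natCast, mul_assoc]
    congr 1
    induction n with
    | zero => simp [PowerSeries.coeff_one]
    | succ n ih =>
      rw [pow_succ, mul_add, map_add, PowerSeries.coeff_mul_C, ih, PowerSeries.coeff_succ_mul_X,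
        PowerSeries.coeff_zero_eq_constantCoeff_apply, map_pow, map_add, PowerSeries.constantCoeff_C,
        PowerSeries.constantCoeff_X, add_zero]
      cases n with
      | zero => simp
      | succ m => simp; ring

lemma T_pi : ∃ u : PowerSeries F, PowerSeries.constantCoeff u ≠ 0 ∧ D.T D.π = PowerSeries.X * u := by
  obtain ⟨u, hu⟩ := PowerSeries.X_dvd_iff.2 ((D.constantCoeff_T D.π).trans D.π_c)
  refine ⟨u, fun h => D.π_sep ?_, hu⟩
  rw [← D.coeff_one_T, hu, PowerSeries.coeff_succ_X_mul, PowerSeries.coeff_zero_eq_constantCoeff_apply, h]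

lemma coeff_eq_of_le {R S : k[X]} {N n : ℕ} (hn : n < N)
    (h : P.1 (aeval D.a R - aeval D.a S) ≤ exp (-(N : ℤ))) :
    PowerSeries.coeff n (D.T R) = PowerSeries.coeff n (D.T S) := by
  rw [← map_sub] at h
  obtain ⟨Q, hQ⟩ := D.dvd_pow_of_le N h
  rw [← sub_eq_zero, ← map_sub, ← map_sub, hQ, map_mul, map_pow]
  obtain ⟨u, -, hu⟩ := D.T_pi
  rw [hu, mul_pow, mul_assoc]
  exact PowerSeries.X_pow_dvd_iff.1 (dvd_mul_right _ _) n hn

/-- the expansion of an integral element -/
noncomputable def expO (y : P.O) : PowerSeries F :=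
  PowerSeries.mk fun n => PowerSeries.coeff n (D.T (D.approxR ((mem_O P).1 y.2) (n + 1)).choose)

lemma coeff_expO (y : P.O) {R : k[X]} {N n : ℕ} (hn : n < N)
    (h : P.1 ((y : K) - aeval D.a R) ≤ exp (-(N : ℤ))) :
    PowerSeries.coeff n (D.expO y) = PowerSeries.coeff n (D.T R) := by
  rw [expO, PowerSeries.coeff_mk]
  refine D.coeff_eq_of_le (Nat.lt_succ_self n) ?_
  have h1 := (D.approxR ((mem_O P).1 y.2) (n + 1)).choose_spec
  rw [show aeval D.a (D.approxR ((mem_O P).1 y.2) (n + 1)).choose - aeval D.a R =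
    ((y : K) - aeval D.a R) - ((y : K) - aeval D.a (D.approxR ((mem_O P).1 y.2) (n + 1)).choose) by ring]
  exact (Valuation.map_sub _ _ _).trans (max_le (h.trans (exp_le_exp.2 (by omega))) h1)

lemma expO_aeval (R : k[X]) : D.expO ⟨aeval D.a R, (mem_O P).2 (D.int R)⟩ = D.T R :=
  PowerSeries.ext fun n => D.coeff_expO _ (Nat.lt_succ_self n) (by simp)

/-- the expansion as a homomorphism -/
noncomputable def expHom : P.O →ₐ[k] PowerSeries F where
  toFun := D.expO
  map_one' := (congrArg D.expO (Subtype.ext (map_one (aeval D.a)).symm)).trans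
    ((D.expO_aeval 1).trans (map_one _))
  map_mul' x y := by
    ext n
    obtain ⟨R, hR⟩ := D.approxR ((mem_O P).1 x.2) (n + 1)
    obtain ⟨S, hS⟩ := D.approxR ((mem_O P).1 y.2) (n + 1)
    have hxy : P.1 (((x * y : P.O) : K) - aeval D.a (R * S)) ≤ exp (-((n + 1 : ℕ) : ℤ)) := by
      rw [map_mul, show (((x * y : P.O) : K)) - aeval D.a R * aeval D.a S =
        (x : K) * ((y : K) - aeval D.a S) + ((x : K) - aeval D.a R) * aeval D.a S by push_cast; ring]
      refine Valuation.map_add_le _ ?_ ?_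
      · rw [map_mul]; exact (mul_le_mul' ((mem_O P).1 x.2) hS).trans_eq (one_mul _)
      · rw [map_mul]; exact (mul_le_mul' hR (D.int S)).trans_eq (mul_one _)
    rw [D.coeff_expO _ (Nat.lt_succ_self n) hxy, map_mul, PowerSeries.coeff_mul, PowerSeries.coeff_mul]
    refine Finset.sum_congr rfl fun ij hij => ?_
    rw [Finset.HasAntidiagonal.mem_antidiagonal] at hij
    rw [D.coeff_expO x (show ij.1 < n + 1 by omega) hR, D.coeff_expO y (show ij.2 < n + 1 by omega) hS]
  map_zero' := (congrArg D.expO (Subtype.ext (map_zero (aeval D.a)).symm)).trans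
    ((D.expO_aeval 0).trans (map_zero _))
  map_add' x y := by
    ext n
    obtain ⟨R, hR⟩ := D.approxR ((mem_O P).1 x.2) (n + 1)
    obtain ⟨S, hS⟩ := D.approxR ((mem_O P).1 y.2) (n + 1)
    have hxy : P.1 (((x + y : P.O) : K) - aeval D.a (R + S)) ≤ exp (-((n + 1 : ℕ) : ℤ)) := by
      rw [map_add, show (((x + y : P.O) : K)) - (aeval D.a R + aeval D.a S) =
        ((x : K) - aeval D.a R) + ((y : K) - aeval D.a S) by push_cast; ring]
      exact Valuation.map_add_le _ hR hS
    rw [D.coeff_expO _ (Nat.lt_succ_self n) hxy, map_add, map_add, map_add,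
      D.coeff_expO x (Nat.lt_succ_self n) hR, D.coeff_expO y (Nat.lt_succ_self n) hS]
  commutes' r := by
    ext n
    rw [D.coeff_expO (algebraMap k P.O r) (R := Polynomial.C r) (Nat.lt_succ_self n)
      (by rw [coe_algebraMap_O, Polynomial.aeval_C, sub_self, map_zero]; exact zero_le), T, Polynomial.aeval_C]

lemma expHom_val (y : P.O) : Valued.v ((D.expHom y : LaurentSeries F)) = P.1 (y : K) := by
  have hu : ∀ w : P.O, P.1 (w : K) = 1 → Valued.v ((D.expHom w : LaurentSeries F)) = (1 : ℤᵐ⁰) := by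
    intro w hw
    refine LR.v_coe_of_constantCoeff fun h0 => ?_
    obtain ⟨R, hR⟩ := D.approxR hw.le 1
    have h1 := D.coeff_expO w (n := 0) one_pos hR
    rw [PowerSeries.coeff_zero_eq_constantCoeff_apply, PowerSeries.coeff_zero_eq_constantCoeff_apply,
      show PowerSeries.constantCoeff (D.expO w) = 0 from h0, D.constantCoeff_T] at h1
    have h2 : P.1 (aeval D.a R) = 1 := by
      rw [show aeval D.a R = (w : K) - ((w : K) - aeval D.a R) by ring, Valuation.map_sub_eq_of_lt_left, hw]
      rw [hw]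
      exact hR.trans_lt (by rw [← exp_zero, exp_lt_exp]; norm_num)
    obtain ⟨Q, hQ⟩ : D.π ∣ R := by
      have := minpoly.dvd k D.c h1.symm
      rwa [← minpoly.eq_of_irreducible_of_monic D.π_irr D.π_c D.π_monic] at this
    have h3 : P.1 (aeval D.a R) < 1 := by
      rw [hQ, map_mul, map_mul, D.π_a]
      exact (mul_le_mul' le_rfl (D.int Q)).trans_lt (by rw [mul_one, ← exp_zero, exp_lt_exp]; norm_num)
    exact h3.ne h2
  rcases eq_or_ne (y : K) 0 with h0 | h0
  · rw [show y = 0 from Subtype.ext h0, map_zero, map_zero]; simp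
  obtain ⟨w, hw, hy⟩ := exists_unit_mul_zpow P D.π_a h0
  obtain ⟨m, hm⟩ := Int.eq_ofNat_of_zero_le ((val_le_one_iff P _).1 ((mem_O P).1 y.2))
  rw [hm, zpow_natCast, ← map_pow] at hy
  have e : y = ⟨w, (mem_O P).2 hw.le⟩ * (⟨aeval D.a (D.π ^ m), (mem_O P).2 (D.int _)⟩ : P.O) := Subtype.ext hy
  obtain ⟨u, hu0, hu'⟩ := D.T_pi
  rw [e, map_mul, map_mul, map_mul, hu _ hw, one_mul,
    show D.expHom ⟨aeval D.a (D.π ^ m), (mem_O P).2 (D.int _)⟩ = D.T (D.π ^ m) from D.expO_aeval _,
    ← e, map_pow, hu', mul_pow, map_mul, map_mul, map_pow, map_pow, map_pow, HahnSeries.ofPowerSeries_X,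
    LaurentSeries.valuation_single_zpow, map_pow, LR.v_coe_of_constantCoeff hu0, one_pow, mul_one, ← exp_nsmul,
    val_eq_exp_ord P h0, hm]
  congr 1; simp

instance isScalarTower_O (P : Place k K) : IsScalarTower k P.O K :=
  IsScalarTower.of_algebraMap_eq fun c => (coe_algebraMap_O P c).symm

/-- the expansion on `K` -/
noncomputable def exp' : K →ₐ[k] LaurentSeries F :=
  IsLocalization.liftAlgHom (M := nonZeroDivisors P.O)
    (f := ({ (HahnSeries.ofPowerSeries ℤ F).comp D.expHom.toRingHom with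
      commutes' := fun r => by
        show HahnSeries.ofPowerSeries ℤ F (D.expHom (algebraMap k P.O r)) = _
        rw [D.expHom.commutes, PowerSeries.algebraMap_apply, HahnSeries.ofPowerSeries_C,
          HahnSeries.algebraMap_apply', PowerSeries.algebraMap_apply, HahnSeries.ofPowerSeries_C] } :
        P.O →ₐ[k] LaurentSeries F))
    (fun y => isUnit_iff_ne_zero.2 fun h => by
      have h1 := D.expHom_val (y : P.O)
      rw [show ((D.expHom (y : P.O) : LaurentSeries F)) = 0 from h, map_zero] at h1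
      exact nonZeroDivisors.ne_zero y.2 (Subtype.ext (by simpa using h1.symm)))

lemma exp'_coe (y : P.O) : D.exp' (y : K) = (D.expHom y : LaurentSeries F) := by
  rw [exp', IsLocalization.liftAlgHom_apply]
  exact IsLocalization.lift_eq _ y

theorem isExpansionAt : LocRes.IsExpansionAt P.1 D.exp' := by
  refine ⟨fun f => ?_, fun f => ?_, ⟨_, D.π_a⟩⟩
  · rcases le_or_gt (P.1 f) 1 with h | h
    · rw [show f = ((⟨f, (mem_O P).2 h⟩ : P.O) : K) from rfl, D.exp'_coe, D.expHom_val]
    · have h' : P.1 f⁻¹ ≤ 1 := by rw [map_inv₀]; exact (inv_lt_one_of_one_lt₀ h).le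
      have := D.expHom_val ⟨f⁻¹, (mem_O P).2 h'⟩
      rw [← D.exp'_coe] at this
      simpa [map_inv₀] using this
  · obtain ⟨R, rfl⟩ := D.surj f
    refine ⟨aeval D.a R, D.int R, ?_⟩
    rw [show aeval D.a R = ((⟨aeval D.a R, (mem_O P).2 (D.int R)⟩ : P.O) : K) from rfl, D.exp'_coe,
      show D.expHom _ = D.T R from D.expO_aeval R, show (0 : ℤ) = ((0 : ℕ) : ℤ) from rfl,
      LaurentSeries.coeff_coe_powerSeries, PowerSeries.coeff_zero_eq_constantCoeff_apply, D.constantCoeff_T]

end Digit

lemma exists_digit (hK : IsFF k K) (P : Place k K) [Algebra.IsSeparable k (IsLocalRing.ResidueField P.O)]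
    {F : Type w} [Field F] [Algebra k F] (ι : IsLocalRing.ResidueField P.O ≃ₐ[k] F) :
    Nonempty (Digit P F) := by
  haveI : @FiniteDimensional k (IsLocalRing.ResidueField P.O) _ _ Algebra.toModule :=
    finiteDimensional_residueField hK P
  obtain ⟨r, hr⟩ := Field.exists_primitive_element k (IsLocalRing.ResidueField P.O)
  haveI : Algebra.IsIntegral k (IsLocalRing.ResidueField P.O) :=
    @Algebra.IsIntegral.of_finite k _ _ _ _ (finiteDimensional_residueField hK P)
  have hint : IsIntegral k r := Algebra.IsIntegral.isIntegral r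
  set π := minpoly k r with hπ
  obtain ⟨a₀, ha₀⟩ := resHom_surjective P r
  obtain ⟨t, ht⟩ := exists_uniformizer P
  have ht1 : P.1 t ≤ 1 := by rw [ht, ← exp_zero, exp_le_exp]; norm_num
  have hres : ∀ (a : P.O) (R : k[X]), resHom P (aeval a R) = aeval (resHom P a) R := fun a R =>
    (Polynomial.aeval_algHom_apply (resHom P) a R).symm
  have hcoe : ∀ (a : P.O) (R : k[X]), ((aeval a R : P.O) : K) = aeval (a : K) R := fun a R => by
    induction R using Polynomial.induction_on' with
    | add p q hp hq => rw [map_add, map_add, ← hp, ← hq]; rfl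
    | monomial n c => rw [aeval_monomial, aeval_monomial]; push_cast; rw [coe_algebraMap_O]
  obtain ⟨a, har, haπ⟩ : ∃ a : P.O, resHom P a = r ∧ P.1 (aeval (a : K) π) = exp (-1 : ℤ) := by
    have h1 : P.1 ((aeval a₀ π : P.O) : K) < 1 := by
      rw [← resHom_eq_zero_iff, hres, ha₀, minpoly.aeval]
    by_cases hu : P.1 ((aeval a₀ π : P.O) : K) = exp (-1 : ℤ)
    · exact ⟨a₀, ha₀, by rw [← hcoe]; exact hu⟩
    · set tO : P.O := ⟨t, (mem_O P).2 ht1⟩
      have ht0 : resHom P tO = 0 := (resHom_eq_zero_iff P).2 (by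
        show P.1 t < 1
        rw [ht, ← exp_zero, exp_lt_exp]; norm_num)
      refine ⟨a₀ + tO, by rw [map_add, ha₀, ht0, add_zero], ?_⟩
      rw [← hcoe]
      obtain ⟨z, hz⟩ := Polynomial.binomExpansion (π.map (algebraMap k P.O)) a₀ tO
      rw [Polynomial.derivative_map, Polynomial.eval_map, Polynomial.eval_map, Polynomial.eval_map,
        ← Polynomial.aeval_def, ← Polynomial.aeval_def, ← Polynomial.aeval_def] at hz
      rw [hz]
      have hd : P.1 ((aeval a₀ (derivative π) : P.O) : K) = 1 := by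
        refine le_antisymm ((mem_O P).1 (aeval a₀ (derivative π)).2) (not_lt.1 fun h => ?_)
        rw [← resHom_eq_zero_iff, hres, ha₀] at h
        exact (Algebra.IsSeparable.isSeparable k r).aeval_derivative_ne_zero (minpoly.aeval _ _) h
      have h2 : P.1 (((aeval a₀ (derivative π) : P.O) : K) * t) = exp (-1 : ℤ) := by rw [map_mul, hd, ht, one_mul]
      have h3 : P.1 ((aeval a₀ π : P.O) : K) ≤ exp (-2 : ℤ) := by
        have h4 := (lt_exp_iff (P.1 ((aeval a₀ π : P.O) : K)) 0).1 (h1.trans_eq exp_zero.symm)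
        have h5 := (lt_exp_iff _ _).1 (lt_of_le_of_ne h4 (by simpa using hu))
        simpa using h5
      have h4 : P.1 ((z : K) * t ^ 2) ≤ exp (-2 : ℤ) := by
        rw [map_mul, map_pow, ht, ← exp_nsmul]
        exact (mul_le_mul' ((mem_O P).1 z.2) le_rfl).trans_eq (by rw [one_mul]; simp)
      push_cast
      rw [show ((tO : P.O) : K) = t from rfl, add_right_comm, Valuation.map_add_eq_of_lt_right, h2]
      rw [h2]
      exact (Valuation.map_add_le _ h3 h4).trans_lt (exp_lt_exp.2 (by norm_num))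
  refine ⟨⟨(a : K), ι r, π, (mem_O P).1 a.2, minpoly.monic hint, minpoly.irreducible hint, ?_, ?_, haπ,
    fun y hy => ?_, fun R hR => ?_, fun f => ?_⟩⟩
  · show aeval (ι.toAlgHom r) π = 0
    rw [Polynomial.aeval_algHom_apply, minpoly.aeval, map_zero]
  · show aeval (ι.toAlgHom r) (derivative π) ≠ 0
    rw [Polynomial.aeval_algHom_apply]
    exact (map_ne_zero_iff _ ι.injective).2 ((Algebra.IsSeparable.isSeparable k r).aeval_derivative_ne_zero (minpoly.aeval _ _))
  · obtain ⟨R, hR⟩ : ∃ R : k[X], aeval r R = resHom P ⟨y, (mem_O P).2 hy⟩ := by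
      have : resHom P ⟨y, (mem_O P).2 hy⟩ ∈ Algebra.adjoin k {r} := by
        rw [← IntermediateField.adjoin_simple_toSubalgebra_of_isAlgebraic hint.isAlgebraic, hr]; trivial
      rwa [Algebra.adjoin_singleton_eq_range_aeval] at this
    refine ⟨R, ?_⟩
    have h0 : resHom P (⟨y, (mem_O P).2 hy⟩ - aeval a R) = 0 := by rw [map_sub, hres, har, hR, sub_self]
    have := (resHom_eq_zero_iff P).1 h0
    rwa [AddSubgroupClass.coe_sub, hcoe] at this
  · show aeval (ι.toAlgHom r) R = 0
    rw [Polynomial.aeval_algHom_apply, ← har, ← hres,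
      (resHom_eq_zero_iff P).2 (by rw [hcoe]; exact hR), map_zero]
  · obtain ⟨R, hR⟩ : ∃ R : k[X], aeval r R = ι.symm f := by
      have : ι.symm f ∈ Algebra.adjoin k {r} := by
        rw [← IntermediateField.adjoin_simple_toSubalgebra_of_isAlgebraic hint.isAlgebraic, hr]; trivial
      rwa [Algebra.adjoin_singleton_eq_range_aeval] at this
    exact ⟨R, by show aeval (ι.toAlgHom r) R = f; rw [Polynomial.aeval_algHom_apply, hR]; exact ι.apply_symm_apply f⟩

theorem exists_expansion (hK : IsFF k K) (P : Place k K) [Algebra.IsSeparable k (IsLocalRing.ResidueField P.O)] :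
    ∃ φ : K →ₐ[k] LaurentSeries (IsLocalRing.ResidueField P.O), LocRes.IsExpansionAt P.1 φ := by
  obtain ⟨D⟩ := exists_digit hK P (AlgEquiv.refl (R := k) (A₁ := IsLocalRing.ResidueField P.O))
  exact ⟨D.exp', D.isExpansionAt⟩

theorem exists_expansion_of_isAlgClosed [IsAlgClosed k] (hK : IsFunctionField k K) (P : Place k K) :
    ∃ φ : K →ₐ[k] LaurentSeries k, LocRes.IsExpansionAt P.1 φ := by
  haveI : FiniteDimensional k (IsLocalRing.ResidueField P.O) := finiteDimensional_residueField hK.1 P
  haveI : Algebra.IsIntegral k (IsLocalRing.ResidueField P.O) :=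
    @Algebra.IsIntegral.of_finite k _ _ _ _ (finiteDimensional_residueField hK.1 P)
  haveI : Algebra.IsAlgebraic k (IsLocalRing.ResidueField P.O) := Algebra.IsIntegral.isAlgebraic
  haveI : Algebra.IsSeparable k (IsLocalRing.ResidueField P.O) := inferInstance
  let ι := (AlgEquiv.ofBijective (Algebra.ofId k (IsLocalRing.ResidueField P.O))
    (IsAlgClosed.algebraMap_bijective_of_isIntegral (k := k))).symm
  obtain ⟨D⟩ := exists_digit hK.1 P ι
  exact ⟨D.exp', D.isExpansionAt⟩

end Groth.Agent.FF
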