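import Groth.Agent.FF.LR.Different2
import Groth.Agent.FF.GalField
import Groth.Agent.FF.GalRam

/-! The different exponent in a Galois extension. -/

set_option autoImplicit false
set_option linter.style.haveILetI false
set_option linter.unusedSectionVars false

open FunFld WithZero LaurentSeries IntermediateField

namespace Groth.Agent.FF

variable {k K K' : Type*} [Field k] [Field K] [Field K'] [Algebra k K] [Algebra K K'] [Algebra k K']
  [IsScalarTower k K K'] [FiniteDimensional K K'] {F F' : Type*} [Field F] [Algebra k F] [Field F'] [Algebra k F']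
  {P : Place k K} {Q : Place k K'} {φ : K →ₐ[k] F⸨X⸩} {ψ : K' →ₐ[k] F'⸨X⸩} {e : ℕ}

lemma isSepVar_ext [Algebra.IsSeparable K K'] (hK : IsFF k K) {x : K} (hx : IsSepVar k x) :
    IsSepVar k (algebraMap K K' x) := by
  haveI := hx.finite
  haveI := hx.separable
  have hxt : Transcendental k (algebraMap K K' x) :=
    (transcendental_algebraMap_iff (algebraMap K K').injective).2 hx.transcendental
  haveI hsep : Algebra.IsSeparable k⟮x⟯ K' := Algebra.IsSeparable.trans k⟮x⟯ K K'
  refine ⟨hxt, finite_adjoin (isFF_ext hK) hxt, ⟨fun y => ?_⟩⟩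
  have hmem : ∀ z : k⟮x⟯, algebraMap K K' (z : K) ∈ k⟮algebraMap K K' x⟯ := by
    intro z
    rw [← Set.image_singleton (f := algebraMap K K')]
    exact (IntermediateField.adjoin_map k ({x} : Set K) (IsScalarTower.toAlgHom k K K')).le ⟨_, z.2, rfl⟩
  let ι : k⟮x⟯ →+* k⟮algebraMap K K' x⟯ :=
    ((algebraMap K K').comp (algebraMap k⟮x⟯ K)).codRestrict k⟮algebraMap K K' x⟯.toSubfield hmem
  have hy := Algebra.IsSeparable.isSeparable k⟮x⟯ y
  refine Polynomial.Separable.of_dvd (Polynomial.Separable.map (f := ι) hy) (minpoly.dvd _ _ ?_)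
  rw [Polynomial.aeval_def, Polynomial.eval₂_map]
  exact minpoly.aeval k⟮x⟯ y

theorem diffExp_eq_sum_card [IsGalois K K'] (hK : IsFunctionField k K) (hG : Good k K)
    (he : IsOverWith Q P e) (hφ : LocRes.IsExpansionAt P.1 φ) (hψ : LocRes.IsExpansionAt Q.1 ψ)
    {x : K} (hx : LocRes.vDiff φ 1 x ≠ 0) (hx' : LocRes.vDiff ψ 1 (algebraMap K K' x) ≠ 0) :
    (Function.support fun i : ℕ => (Nat.card {σ : K' ≃ₐ[K] K' //
        ∀ z : K', Q.1 z ≤ 1 → Q.1 (σ z - z) ≤ exp (-(i : ℤ))} : ℤ) - 1).Finite ∧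
    LocRes.diffExp φ ψ e x = ∑ᶠ i : ℕ, if 1 ≤ i then
      (Nat.card {σ : K' ≃ₐ[K] K' // ∀ z : K', Q.1 z ≤ 1 → Q.1 (σ z - z) ≤ exp (-(i : ℤ))} : ℤ) - 1
      else 0 := by
  classical
  have hK' : IsFF k K' := isFF_ext hK.1
  -- separable residue fields
  have hvx : KaehlerDifferential.D k K x ≠ 0 := D_ne_zero_of_D_exp φ fun h => hx (by
    rw [LocRes.vDiff, h, mul_zero, map_zero])
  have hxs' : IsSepVar k (algebraMap K K' x) := isSepVar_ext hK.1 ((isSepVar_iff_D_ne_zero hK hG).2 hvx)
  haveI := finiteDimensional_coeffField hK' hψ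
  haveI : Algebra.IsSeparable k F' := isSeparable_coeffField_of_sepVar hψ hxs' fun h => hx' (by
    rw [LocRes.vDiff, h, mul_zero, map_zero])
  obtain ⟨ιQ⟩ := nonempty_residueEquiv hψ
  haveI : Algebra.IsSeparable k (IsLocalRing.ResidueField Q.O) := AlgEquiv.Algebra.isSeparable ιQ.symm
  -- the inertia field
  set H := inertiaG (K := K) Q
  set L := IntermediateField.fixedField H
  have hL : IsFF k L := isFF_ext hK.1
  haveI : IsScalarTower k L K' := IsScalarTower.of_algebraMap_eq fun c => rfl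
  obtain ⟨R, hR⟩ := totally_ramified_inertia hK.1 Q
  obtain ⟨P', e1, he1⟩ := exists_below (K := K) hK.1 R
  have hcomp : IsOverWith Q P' (e1 * Module.finrank L K') := fun z => by
    rw [IsScalarTower.algebraMap_apply K L K', hR, he1, pow_mul]
  obtain rfl : P = P' := isOver_unique ⟨e, he⟩ ⟨_, hcomp⟩
  have hn : Module.finrank L K' = e := by
    rw [IntermediateField.finrank_fixedField_eq_card, card_inertia hK.1 he]
  have he11 : e1 = 1 := by
    have h := IsOverWith_unique hcomp he
    rw [hn] at h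
    exact Nat.eq_of_mul_eq_mul_right (IsOverWith_pos he) (h.trans (one_mul e).symm)
  subst he11
  rw [hn] at hR
  haveI : Algebra.IsSeparable k (IsLocalRing.ResidueField R.O) :=
    Algebra.IsSeparable.of_algHom k (IsLocalRing.ResidueField Q.O) (resEmb (k := k) ⟨e, hR⟩)
  obtain ⟨χ, hχ⟩ := exists_expansion hL R
  obtain ⟨D1⟩ := exists_liesOver_place hK.1 he1 hφ hχ
  obtain ⟨D2⟩ := exists_liesOver_place hL hR hχ hψ
  have hxL : LocRes.vDiff χ 1 (algebraMap K L x) ≠ 0 := fun h => hx' (by
    rw [IsScalarTower.algebraMap_apply K L K', LR.vDiff_above D2, h, zero_pow (IsOverWith_pos hR).ne', zero_mul])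
  have hx'2 : LocRes.vDiff ψ 1 (algebraMap L K' (algebraMap K L x)) ≠ 0 := by
    rwa [← IsScalarTower.algebraMap_apply K L K']
  have hd1 := (diffExp_tame_wild hK.1 he1 hφ hχ hx hxL).1 fun h => by
    have h1 := Nat.dvd_one.1 h
    haveI := ringChar.charP K
    exact CharP.ringChar_ne_one h1
  have hsum : LocRes.diffExp φ ψ e x = LocRes.diffExp χ ψ e (algebraMap K L x) := by
    simp only [LocRes.diffExp, Nat.cast_one] at hd1 ⊢
    rw [IsScalarTower.algebraMap_apply K L K' x]
    rw [show LocRes.ordDiff χ 1 (algebraMap K L x) = LocRes.ordDiff φ 1 x by linear_combination hd1]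
  rw [hsum]
  -- totally ramified part
  obtain ⟨hsur, honly⟩ := surjective_of_totallyRamified hL hR hχ hψ D2 hn.symm
  obtain ⟨s, hs⟩ := exists_uniformizer Q
  have hs' : ∀ Q', IsOver Q' R → Q' ≠ Q → Q'.1 s = 1 := fun Q' h1 h2 => absurd (honly Q' h1) h2
  have htop := adjoin_eq_top_of_uniformizer hL hR (deg_eq_of_surjective hχ hψ D2 hsur) s hs hs'
  have hadj : Algebra.adjoin L ({s} : Set K') = ⊤ := by
    rw [← IntermediateField.adjoin_simple_toSubalgebra_of_isAlgebraic (Algebra.IsAlgebraic.isAlgebraic s), htop,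
      IntermediateField.top_toSubalgebra]
  rw [← ord_derivative_le hL hR hχ hψ D2 hsur (LR.diffExp_eq D2 hxL hx'2) s hs hs' hadj]
  -- the polynomial
  haveI : IsGalois L K' := IsGalois.tower_top_of_isGalois K L K'
  let G := K' ≃ₐ[L] K'
  have hinj : Function.Injective fun τ : G => τ s := fun τ τ' h => AlgEquiv.coe_algHom_injective
    (AlgHom.ext_of_adjoin_eq_top hadj fun z hz => by rw [Set.mem_singleton_iff.1 hz]; exact h)
  have hcardG : Fintype.card G = e := by
    rw [← Nat.card_eq_fintype_card, IsGalois.card_aut_eq_finrank, hn]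
  have hdeg : (minpoly L s).natDegree = e := by
    rw [← IntermediateField.adjoin.finrank (Algebra.IsIntegral.isIntegral s), htop, IntermediateField.finrank_top', hn]
  have hroot : ∀ τ : G, ((minpoly L s).map (algebraMap L K')).IsRoot (τ s) := fun τ => by
    rw [Polynomial.IsRoot.def, Polynomial.eval_map_algebraMap, Polynomial.aeval_algEquiv, AlgHom.comp_apply]
    simp [minpoly.aeval]
  have hprod : (∏ τ : G, (Polynomial.X - Polynomial.C (τ s))) = (minpoly L s).map (algebraMap L K') := by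
    refine (Polynomial.eq_of_monic_of_dvd_of_natDegree_le (Polynomial.monic_prod_of_monic _ _ fun τ _ =>
      Polynomial.monic_X_sub_C _) ((minpoly.monic (Algebra.IsIntegral.isIntegral s)).map _) ?_ ?_).symm
    · exact Finset.prod_dvd_of_coprime ((Polynomial.pairwise_coprime_X_sub_C hinj).set_pairwise _)
        fun τ _ => Polynomial.dvd_iff_isRoot.2 (hroot τ)
    · rw [Polynomial.natDegree_finsetProd_X_sub_C_eq_card, Finset.card_univ, hcardG, Polynomial.natDegree_map, hdeg]
  have hderiv : Polynomial.aeval s (Polynomial.derivative (minpoly L s)) =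
      ∏ τ ∈ Finset.univ.erase (1 : G), (s - τ s) := by
    rw [← Polynomial.eval_map_algebraMap, ← Polynomial.derivative_map, ← hprod,
      ← Finset.mul_prod_erase _ _ (Finset.mem_univ (1 : G)), Polynomial.derivative_mul, Polynomial.derivative_X_sub_C,
      one_mul, Polynomial.eval_add, Polynomial.eval_mul, Polynomial.eval_sub, Polynomial.eval_X, Polynomial.eval_C,
      AlgEquiv.one_apply, sub_self, zero_mul, add_zero, Polynomial.eval_prod]
    simp only [Polynomial.eval_sub, Polynomial.eval_X, Polynomial.eval_C]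
  have hne : ∀ τ : G, τ ≠ 1 → s - τ s ≠ 0 := fun τ hτ h => hτ (hinj (by
    show τ s = (1 : G) s
    rw [AlgEquiv.one_apply]; exact (sub_eq_zero.1 h).symm))
  rw [hderiv]
  have hordprod : Q.ord (∏ τ ∈ Finset.univ.erase (1 : G), (s - τ s)) =
      ∑ τ ∈ Finset.univ.erase (1 : G), Q.ord (s - τ s) := by
    have : ∀ S : Finset G, (∀ τ ∈ S, τ ≠ 1) → Q.ord (∏ τ ∈ S, (s - τ s)) = ∑ τ ∈ S, Q.ord (s - τ s) := by
      intro S
      induction S using Finset.induction_on with
      | empty => intro _; simp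
      | insert a S ha ih =>
        intro hS
        rw [Finset.prod_insert ha, Finset.sum_insert ha, ord_mul Q (hne a (hS a (Finset.mem_insert_self _ _)))
          (Finset.prod_ne_zero_iff.2 fun τ hτ => hne τ (hS τ (Finset.mem_insert_of_mem hτ))),
          ih fun τ hτ => hS τ (Finset.mem_insert_of_mem hτ)]
    exact this _ fun τ hτ => Finset.ne_of_mem_erase hτ
  rw [hordprod]
  -- the groups
  have hmemH : ∀ σ : K' ≃ₐ[K] K', σ ∈ H ↔ InRam Q σ 1 := inertia_map_iff Q
  have hres : ∀ τ : G, τ.restrictScalars K ∈ H := fun τ => by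
    have : (τ.restrictScalars K) ∈ L.fixingSubgroup :=
      (IntermediateField.mem_fixingSubgroup_iff L _).2 fun z hz => τ.commutes ⟨z, hz⟩
    rwa [IntermediateField.fixingSubgroup_fixedField] at this
  have hsurjG : ∀ σ ∈ H, ∃ τ : G, τ.restrictScalars K = σ := fun σ hσ =>
    ⟨{ σ with commutes' := fun z => z.2 ⟨σ, hσ⟩ }, AlgEquiv.ext fun _ => rfl⟩
  let ν : G → ℕ := fun τ => (Q.ord (s - τ s)).toNat
  have hν : ∀ τ : G, τ ≠ 1 → ∀ i : ℕ, 1 ≤ i → (InRam Q (τ.restrictScalars K) i ↔ i ≤ ν τ) := by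
    intro τ hτ i hi
    have hval : Q.1 (τ s - s) = exp (-(Q.ord (s - τ s))) := by
      rw [← Valuation.map_neg, neg_sub, val_eq_exp_ord Q (hne τ hτ)]
    constructor
    · intro h
      have h1 := h s (by rw [hs]; exact exp_neg_one_le)
      rw [show (τ.restrictScalars K) s = τ s from rfl, hval, exp_le_exp] at h1
      simp only [ν]; omega
    · intro h
      refine inRam_of_uniformizer hK.1 ((hmemH _).1 (hres τ)) hs ?_
      show Q.1 (τ s - s) ≤ _
      rw [hval, exp_le_exp]
      simp only [ν] at h; omega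
  have hnonneg : ∀ τ : G, τ ≠ 1 → Q.ord (s - τ s) = (ν τ : ℤ) := by
    intro τ hτ
    have h1 := (hmemH _).1 (hres τ) s (by rw [hs]; exact exp_neg_one_le)
    rw [show (τ.restrictScalars K) s = τ s from rfl, ← Valuation.map_neg, neg_sub,
      val_eq_exp_ord Q (hne τ hτ), exp_le_exp] at h1
    simp only [ν]; omega
  have hcard : ∀ i : ℕ, 1 ≤ i → (Nat.card {σ : K' ≃ₐ[K] K' //
      ∀ z : K', Q.1 z ≤ 1 → Q.1 (σ z - z) ≤ exp (-(i : ℤ))} : ℤ) - 1 =
      (((Finset.univ.erase (1 : G)).filter fun τ => i ≤ ν τ).card : ℤ) := by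
    intro i hi
    have hset : (Finset.univ.filter fun τ : G => InRam Q (τ.restrictScalars K) i) =
        insert 1 ((Finset.univ.erase (1 : G)).filter fun τ => i ≤ ν τ) := by
      ext τ
      by_cases hτ : τ = 1
      · subst hτ
        simp only [Finset.mem_filter, Finset.mem_univ, true_and, Finset.mem_insert, true_or, iff_true]
        exact inRam_one Q i
      · simp [hτ, hν τ hτ i hi]
    have hc : Nat.card {σ : K' ≃ₐ[K] K' // ∀ z : K', Q.1 z ≤ 1 → Q.1 (σ z - z) ≤ exp (-(i : ℤ))} =
        (Finset.univ.filter fun τ : G => InRam Q (τ.restrictScalars K) i).card := by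
      rw [Nat.card_eq_fintype_card, Fintype.card_subtype]
      refine (Finset.card_bij (fun τ _ => τ.restrictScalars K) ?_ ?_ ?_).symm
      · intro τ hτ
        exact Finset.mem_filter.2 ⟨Finset.mem_univ _, (Finset.mem_filter.1 hτ).2⟩
      · intro τ _ τ' _ h
        exact AlgEquiv.ext fun z => AlgEquiv.congr_fun h z
      · intro σ hσ
        have hσi : InRam Q σ i := (Finset.mem_filter.1 hσ).2
        obtain ⟨τ, rfl⟩ := hsurjG σ ((hmemH σ).2 (inRam_mono hσi (by exact_mod_cast hi)))
        exact ⟨τ, Finset.mem_filter.2 ⟨Finset.mem_univ _, hσi⟩, rfl⟩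
    rw [hc, hset, Finset.card_insert_of_notMem (by simp)]
    push_cast; ring
  set M := Finset.univ.sup ν
  have hzero : ∀ i : ℕ, M < i → ((Finset.univ.erase (1 : G)).filter fun τ => i ≤ ν τ) = ∅ := fun i hi =>
    Finset.filter_eq_empty_iff.2 fun τ _ h => absurd (h.trans (Finset.le_sup (f := ν) (Finset.mem_univ τ))) (by omega)
  refine ⟨(Finset.range (M + 1)).finite_toSet.subset fun i hi => ?_, ?_⟩
  · rw [Finset.coe_range, Set.mem_Iio]
    by_contra hle
    refine hi ?_
    show _ - 1 = (0 : ℤ)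
    rw [hcard i (by omega), hzero i (by omega)]
    simp
  rw [finsum_eq_sum_of_support_subset _ (s := Finset.Icc 1 M) fun i hi => by
    rw [Function.mem_support] at hi
    rw [Finset.coe_Icc, Set.mem_Icc]
    by_cases h1 : 1 ≤ i
    · refine ⟨h1, ?_⟩
      by_contra hle
      exact hi (by rw [if_pos h1, hcard i h1, hzero i (by omega)]; simp)
    · exact absurd (if_neg h1) hi]
  rw [Finset.sum_congr rfl fun τ hτ => hnonneg τ (Finset.ne_of_mem_erase hτ)]
  refine Eq.trans ?_ (Finset.sum_congr rfl fun i hi => (show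
      (((Finset.univ.erase (1 : G)).filter fun τ => i ≤ ν τ).card : ℤ) = _ by
    rw [if_pos (Finset.mem_Icc.1 hi).1, hcard i (Finset.mem_Icc.1 hi).1]))
  rw [← Nat.cast_sum, ← Nat.cast_sum]
  congr 1
  simp only [Finset.card_eq_sum_ones, Finset.sum_filter]
  rw [Finset.sum_comm]
  refine Finset.sum_congr rfl fun τ _ => ?_
  rw [← Finset.sum_filter, ← Finset.card_eq_sum_ones,
    show (Finset.Icc 1 M).filter (fun i => i ≤ ν τ) = Finset.Icc 1 (ν τ) by
      ext i
      have := Finset.le_sup (f := ν) (Finset.mem_univ τ)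
      simp only [Finset.mem_filter, Finset.mem_Icc]; omega, Nat.card_Icc]
  omega

end Groth.Agent.FF
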