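import Groth.Agent.FF.LR.WeilRes
import Groth.Agent.FF.Ext
import Mathlib.FieldTheory.PurelyInseparable.PerfectClosure

/-! The different exponent, and Riemann–Hurwitz. -/

set_option autoImplicit false
set_option linter.style.haveILetI false
set_option linter.unusedSectionVars false

open FunFld WithZero LaurentSeries IntermediateField

namespace Groth.Agent.FF

section Good

variable {k K : Type*} [Field k] [Field K] [Algebra k K]

/-- A separating variable gives MacLane's criterion. -/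
theorem good_of_isSepVar {x : K} (hx : IsSepVar k x) : Good k K := by
  intro p hp _ r c hc g hgg
  classical
  haveI := hx.finite
  haveI := hx.separable
  haveI : CharP k p := (Algebra.charP_iff k K p).2 inferInstance
  haveI : CharP k⟮x⟯ p := (Algebra.charP_iff k⟮x⟯ K p).2 inferInstance
  haveI : ExpChar k⟮x⟯ p := ExpChar.prime hp.out
  haveI : ExpChar K p := ExpChar.prime hp.out
  haveI : ExpChar k p := ExpChar.prime hp.out
  let b := Module.finBasis k⟮x⟯ K
  have hb := LinearIndependent.map_pow_expChar_pow_of_isSeparable (q := p) (n := 1) b.linearIndependent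
  simp only [pow_one] at hb
  -- the case of k(x)
  have base : ∀ a : Fin r → K, (∀ m, a m ∈ k⟮x⟯) → ∑ m, algebraMap k K (c m) * a m ^ p = 0 → a = 0 := by
    intro a ha hsum
    choose A B hAB using fun m => (IntermediateField.mem_adjoin_simple_iff k (a m)).1 (ha m)
    let Pi : Polynomial k := ∏ m, if Polynomial.aeval x (B m) = 0 then 1 else B m
    have hPi : Polynomial.aeval x Pi ≠ 0 := by
      rw [map_prod, Finset.prod_ne_zero_iff]
      intro m _
      split_ifs with h
      · rw [map_one]; exact one_ne_zero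
      · exact h
    let A' : Fin r → Polynomial k := fun m => if Polynomial.aeval x (B m) = 0 then 0 else
      A m * ∏ j ∈ Finset.univ.erase m, if Polynomial.aeval x (B j) = 0 then 1 else B j
    have hA' : ∀ m, Polynomial.aeval x (A' m) = a m * Polynomial.aeval x Pi := by
      intro m
      simp only [A', Pi]
      rw [← Finset.mul_prod_erase Finset.univ _ (Finset.mem_univ m), map_mul]
      split_ifs with h
      · rw [map_zero, hAB m, h, div_zero, zero_mul]
      · rw [map_mul, hAB m, ← mul_assoc, div_mul_cancel₀ _ h]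
    have hz : Polynomial.aeval x (∑ m, Polynomial.C (c m) * A' m ^ p) = 0 := by
      simp only [map_sum, map_mul, map_pow, Polynomial.aeval_C, hA', mul_pow, ← mul_assoc]
      rw [← Finset.sum_mul, hsum, zero_mul]
    have hzero := transcendental_iff.1 hx.transcendental _ hz
    have hA0 : ∀ m, A' m = 0 := by
      suffices h : ∀ j, (fun m => (A' m).coeff j) = 0 from
        fun m => Polynomial.ext fun j => by simpa using congrFun (h j) m
      intro j
      refine hc _ ?_
      have h1 := congrArg (fun P : Polynomial k => P.coeff (j * p)) hzero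
      simp only [Polynomial.finsetSum_coeff, Polynomial.coeff_zero, Polynomial.coeff_C_mul] at h1
      rw [← h1]
      refine Finset.sum_congr rfl fun m _ => ?_
      rw [← Polynomial.map_frobenius_expand, Polynomial.coeff_map, Polynomial.coeff_expand_mul hp.out.pos,
        frobenius_def]
    funext m
    have h := hA' m
    rw [hA0 m, map_zero] at h
    exact (mul_eq_zero.1 h.symm).resolve_right hPi
  -- coordinates
  have hcoord : ∀ i, (fun m => ((b.repr (g m) i : k⟮x⟯) : K)) = 0 := by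
    intro i
    refine base _ (fun m => (b.repr (g m) i).2) ?_
    have h1 : ∑ j, (∑ m, algebraMap k k⟮x⟯ (c m) * (b.repr (g m) j) ^ p) • (b j ^ p) = 0 := by
      simp only [Finset.sum_smul, ← smul_smul]
      rw [Finset.sum_comm]
      refine Eq.trans (Finset.sum_congr rfl fun m _ => ?_) hgg
      rw [← Finset.smul_sum, algebraMap_smul, Algebra.smul_def]
      congr 1
      conv_rhs => rw [← b.sum_repr (g m), sum_pow_char]
      exact Finset.sum_congr rfl fun j _ => (smul_pow _ _ _).symm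
    have h2 := congrArg (fun z : k⟮x⟯ => (z : K)) (Fintype.linearIndependent_iff.1 hb _ h1 i)
    simpa using h2
  funext m
  rw [← b.sum_repr (g m)]
  refine Finset.sum_eq_zero fun i _ => ?_
  have : b.repr (g m) i = 0 := Subtype.ext (congrFun (hcoord i) m)
  rw [this, zero_smul]

end Good

namespace LR

section Exponent

variable {k K K' F F' : Type*} [Field k] [Field K] [Field K'] [Algebra k K] [Algebra k K']
    [Algebra K K'] [Field F] [Field F'] [Algebra k F] [Algebra k F']
    {φ : K →ₐ[k] F⸨X⸩} {ψ : K' →ₐ[k] F'⸨X⸩} {e : ℕ}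

/-- value of `ds` -/
noncomputable def dVal (D : LiesOver φ ψ e) : ℤᵐ⁰ :=
  Valued.v ((PowerSeries.derivative F' (sS e D.u) : PowerSeries F') : F'⸨X⸩)

lemma v_io (D : LiesOver φ ψ e) {g : PowerSeries F} (hg : PowerSeries.constantCoeff g ≠ 0) :
    Valued.v ((io D.σ.toRingHom D.u D.he g : PowerSeries F') : F'⸨X⸩) = (1 : ℤᵐ⁰) :=
  v_coe_of_constantCoeff (PowerSeries.isUnit_iff_constantCoeff.1
    ((PowerSeries.isUnit_iff_constantCoeff.2 (isUnit_iff_ne_zero.2 hg)).map _)).ne_zero

lemma v_ioL (D : LiesOver φ ψ e) (f : F⸨X⸩) :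
    Valued.v (ioL (σ := D.σ.toRingHom) (he := D.he) D.hu f) = (Valued.v f : ℤᵐ⁰) ^ e := by
  rcases eq_or_ne f 0 with rfl | hf
  · simp [D.he.ne']
  obtain ⟨n, w, hw, rfl, hv⟩ := exists_unit_form hf
  rw [hv, map_mul, map_mul, ioL_coe, v_io D hw, mul_one]
  have hs : ioL (σ := D.σ.toRingHom) (he := D.he) D.hu (HahnSeries.single n 1) =
      ((sS e D.u : PowerSeries F') : F'⸨X⸩) ^ n := by
    rw [show (HahnSeries.single n (1 : F)) = ((PowerSeries.X : PowerSeries F) : F⸨X⸩) ^ n by
      exact (by rw [PowerSeries.coe_X]; exact RatFunc.single_zpow n), map_zpow₀, ioL_coe, io_X]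
  rw [hs, map_zpow₀]
  have hsv : Valued.v ((sS e D.u : PowerSeries F') : F'⸨X⸩) = exp (-(e : ℤ)) := by
    rw [sS, PowerSeries.coe_mul, map_mul, v_coe_of_constantCoeff D.hu, mul_one, PowerSeries.coe_pow,
      map_pow, PowerSeries.coe_X, valuation_single_zpow, ← exp_nsmul]
    simp
  rw [hsv, ← exp_zsmul, ← exp_nsmul]
  congr 1
  simp only [smul_eq_mul, nsmul_eq_mul]
  ring

lemma vDiff_above (D : LiesOver φ ψ e) (x : K) :
    LocRes.vDiff ψ 1 (algebraMap K K' x) = LocRes.vDiff φ 1 x ^ e * dVal D := by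
  rw [LocRes.vDiff, LocRes.vDiff, map_one, one_mul, map_one, one_mul, D.map, D_ioL, map_mul, v_ioL]
  rfl

lemma diffExp_eq (D : LiesOver φ ψ e) {x : K} (hx : LocRes.vDiff φ 1 x ≠ 0)
    (hx' : LocRes.vDiff ψ 1 (algebraMap K K' x) ≠ 0) :
    dVal D = exp (-LocRes.diffExp φ ψ e x) := by
  have hd : dVal D ≠ 0 := fun h => hx' (by rw [vDiff_above D, h, mul_zero])
  rw [LocRes.diffExp, LocRes.ordDiff, LocRes.ordDiff, vDiff_above D, log_mul (pow_ne_zero _ hx) hd, log_pow]
  conv_lhs => rw [← exp_log hd]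
  congr 1
  simp only [nsmul_eq_mul]
  ring

lemma diffExp_eq_log (D : LiesOver φ ψ e) {x : K} (hx : LocRes.vDiff φ 1 x ≠ 0)
    (hx' : LocRes.vDiff ψ 1 (algebraMap K K' x) ≠ 0) :
    LocRes.diffExp φ ψ e x = -log (dVal D) := by
  rw [diffExp_eq D hx hx', log_exp, neg_neg]

lemma coeff_D_sS (D : LiesOver φ ψ e) :
    PowerSeries.X ^ (e - 1) ∣ PowerSeries.derivative F' (sS e D.u) ∧
    PowerSeries.coeff (e - 1) (PowerSeries.derivative F' (sS e D.u)) =
      (e : F') * PowerSeries.constantCoeff D.u := by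
  refine ⟨PowerSeries.X_pow_dvd_iff.2 fun m hm => ?_, ?_⟩
  · rw [PowerSeries.coeff_derivative, sS, PowerSeries.coeff_X_pow_mul', if_neg (by omega), zero_mul]
  · have he := D.he
    rw [PowerSeries.coeff_derivative, sS, PowerSeries.coeff_X_pow_mul', if_pos (by omega),
      show e - 1 + 1 - e = 0 by omega, PowerSeries.coeff_zero_eq_constantCoeff_apply, mul_comm,
      show ((e - 1 : ℕ) : F') + 1 = ((e - 1 + 1 : ℕ) : F') by push_cast; rfl, Nat.sub_add_cancel he]

lemma dVal_le (D : LiesOver φ ψ e) : dVal D ≤ exp (-((e : ℤ) - 1)) := by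
  rw [dVal, show ((e : ℤ) - 1) = ((e - 1 : ℕ) : ℤ) by have := D.he; omega, v_coe_le_iff]
  exact (coeff_D_sS D).1

lemma dVal_of_tame (D : LiesOver φ ψ e) (h : (e : F') ≠ 0) : dVal D = exp (-((e : ℤ) - 1)) := by
  obtain ⟨w, hw⟩ := (coeff_D_sS D).1
  have h0 : PowerSeries.constantCoeff w ≠ 0 := by
    have := (coeff_D_sS D).2
    rw [hw, PowerSeries.coeff_X_pow_mul', if_pos le_rfl, Nat.sub_self,
      PowerSeries.coeff_zero_eq_constantCoeff_apply] at this
    rw [this]
    exact mul_ne_zero h D.hu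
  rw [dVal, hw, PowerSeries.coe_mul, map_mul, v_coe_of_constantCoeff h0, mul_one, PowerSeries.coe_pow,
    map_pow, PowerSeries.coe_X, valuation_single_zpow, ← exp_nsmul]
  have := D.he
  congr 1
  simp; omega

lemma dVal_of_wild (D : LiesOver φ ψ e) (h : (e : F') = 0) : dVal D ≤ exp (-(e : ℤ)) := by
  rw [dVal, v_coe_le_iff, PowerSeries.X_pow_dvd_iff]
  intro m hm
  rcases lt_or_ge m (e - 1) with hlt | hge
  · exact PowerSeries.X_pow_dvd_iff.1 (coeff_D_sS D).1 m hlt
  · rw [show m = e - 1 by omega, (coeff_D_sS D).2, h, zero_mul]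

end Exponent

end LR

section Places

variable {k K K' : Type*} [Field k] [Field K] [Field K'] [Algebra k K] [Algebra K K'] [Algebra k K']
  [IsScalarTower k K K'] [FiniteDimensional K K'] {F F' : Type*} [Field F] [Algebra k F] [Field F'] [Algebra k F']

lemma exists_liesOver_place (hK : IsFF k K) {P : Place k K} {Q : Place k K'} {e : ℕ}
    (he : IsOverWith Q P e) {φ : K →ₐ[k] F⸨X⸩} (hφ : LocRes.IsExpansionAt P.1 φ)
    {ψ : K' →ₐ[k] F'⸨X⸩} (hψ : LocRes.IsExpansionAt Q.1 ψ) : Nonempty (LR.LiesOver φ ψ e) := by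
  haveI := finiteDimensional_coeffField hK hφ
  exact LR.exists_liesOver hφ hψ (IsOverWith_pos he) he

lemma diffExp_eq_diffExp (hK : IsFF k K) {P : Place k K} {Q : Place k K'} {e : ℕ}
    (he : IsOverWith Q P e) {φ : K →ₐ[k] F⸨X⸩} (hφ : LocRes.IsExpansionAt P.1 φ)
    {ψ : K' →ₐ[k] F'⸨X⸩} (hψ : LocRes.IsExpansionAt Q.1 ψ) {x x' : K}
    (hx : LocRes.vDiff φ 1 x ≠ 0) (hx1 : LocRes.vDiff ψ 1 (algebraMap K K' x) ≠ 0)
    (hx2 : LocRes.vDiff φ 1 x' ≠ 0) (hx21 : LocRes.vDiff ψ 1 (algebraMap K K' x') ≠ 0) :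
    LocRes.diffExp φ ψ e x = LocRes.diffExp φ ψ e x' := by
  obtain ⟨D⟩ := exists_liesOver_place hK he hφ hψ
  rw [LR.diffExp_eq_log D hx hx1, LR.diffExp_eq_log D hx2 hx21]

lemma diffExp_tame_wild (hK : IsFF k K) {P : Place k K} {Q : Place k K'} {e : ℕ}
    (he : IsOverWith Q P e) {φ : K →ₐ[k] F⸨X⸩} (hφ : LocRes.IsExpansionAt P.1 φ)
    {ψ : K' →ₐ[k] F'⸨X⸩} (hψ : LocRes.IsExpansionAt Q.1 ψ) {x : K}
    (hx : LocRes.vDiff φ 1 x ≠ 0) (hx1 : LocRes.vDiff ψ 1 (algebraMap K K' x) ≠ 0) :
    (¬ (ringChar K ∣ e) → LocRes.diffExp φ ψ e x = (e : ℤ) - 1) ∧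
    (ringChar K ∣ e → (e : ℤ) ≤ LocRes.diffExp φ ψ e x) := by
  obtain ⟨D⟩ := exists_liesOver_place hK he hφ hψ
  have hd := LR.diffExp_eq D hx hx1
  haveI : CharP F'⸨X⸩ (ringChar K) := charP_of_injective_ringHom ((ψ.toRingHom.comp (algebraMap K K')).injective) _
  haveI : CharP F' (ringChar K) := (RingHom.charP_iff (HahnSeries.C : F' →+* F'⸨X⸩) (RingHom.injective _) _).2 inferInstance
  refine ⟨fun h => ?_, fun h => ?_⟩
  · have h2 := LR.dVal_of_tame D fun h0 => h ((CharP.cast_eq_zero_iff F' (ringChar K) e).1 h0)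
    rw [hd, exp_inj] at h2
    omega
  · have h2 := LR.dVal_of_wild D ((CharP.cast_eq_zero_iff F' (ringChar K) e).2 h)
    rw [hd, exp_le_exp] at h2
    omega

end Places

section RH

variable {k k' K K' : Type*} [Field k] [Field k'] [Field K] [Field K']
    [Algebra k k'] [Algebra k K] [Algebra K K'] [Algebra k' K'] [Algebra k K']
    [IsScalarTower k k' K'] [IsScalarTower k K K'] [FiniteDimensional k k'] [FiniteDimensional K K']

/-- places over `k'` are places over `k` -/
noncomputable def placeEquiv : Place k' K' ≃ Place k K' where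
  toFun Q := ⟨Q.1, fun c => by rw [IsScalarTower.algebraMap_apply k k' K']; exact Q.2.1 _, Q.2.2⟩
  invFun Q := ⟨Q.1, fun c => by
    rcases eq_or_ne c 0 with rfl | hc
    · simp
    · refine le_of_eq (val_eq_one_of_isAlgebraic Q.1 (fun d hd => val_const Q hd) ?_ ?_)
      · exact (IsAlgebraic.of_finite k c).algebraMap
      · simpa using hc, Q.2.2⟩
  left_inv _ := Subtype.ext rfl
  right_inv _ := Subtype.ext rfl

lemma placeEquiv_val (Q : Place k' K') : (placeEquiv (k := k) Q).1 = Q.1 := rfl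

lemma deg_placeEquiv (Q : Place k' K') :
    (placeEquiv (k := k) Q).deg = Module.finrank k k' * Q.deg := by
  letI : Algebra k (IsLocalRing.ResidueField Q.O) := Place.algRes (placeEquiv (k := k) Q)
  haveI : IsScalarTower k k' (IsLocalRing.ResidueField Q.O) := IsScalarTower.of_algebraMap_eq fun c =>
    congrArg (IsLocalRing.residue Q.O) (Subtype.ext (IsScalarTower.algebraMap_apply k k' K' c))
  letI : Algebra k' (IsLocalRing.ResidueField Q.O) := Place.algRes Q
  letI : Module k (IsLocalRing.ResidueField Q.O) := Algebra.toModule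
  letI : Module k' (IsLocalRing.ResidueField Q.O) := Algebra.toModule
  exact (Module.finrank_mul_finrank k k' (IsLocalRing.ResidueField Q.O)).symm

theorem riemann_hurwitz [Algebra.IsSeparable K K']
    (hK : IsFunctionField k K) (hG : Good k K) (hK' : IsFunctionField k' K')
    {F : Place k K → Type*} [∀ P, Field (F P)] [∀ P, Algebra k (F P)]
    {φ : ∀ P, K →ₐ[k] LaurentSeries (F P)} (hφ : ∀ P, LocRes.IsExpansionAt P.1 (φ P))
    {F' : Place k' K' → Type*} [∀ Q, Field (F' Q)] [∀ Q, Algebra k' (F' Q)]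
    {ψ : ∀ Q, K' →ₐ[k'] LaurentSeries (F' Q)} (hψ : ∀ Q, LocRes.IsExpansionAt Q.1 (ψ Q))
    (below : Place k' K' → Place k K) (e : Place k' K' → ℕ)
    (he : ∀ Q (z : K), Q.1 (algebraMap K K' z) = (below Q).1 z ^ e Q)
    (x : K) (hx : ∀ P, LocRes.vDiff (φ P) 1 x ≠ 0) :
    (Function.support fun Q => LocRes.diffExp (φ (below Q)) (ψ Q) (e Q) x).Finite ∧
    (Module.finrank k k' : ℤ) * (2 * (genus k' K' : ℤ) - 2) =
      (Module.finrank K K' : ℤ) * (2 * (genus k K : ℤ) - 2) +
      (Module.finrank k k' : ℤ) * ∑ᶠ Q, LocRes.diffExp (φ (below Q)) (ψ Q) (e Q) x * (Q.deg : ℤ) := by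
  classical
  obtain ⟨P0⟩ := nonempty_place hK.1
  have hvx : KaehlerDifferential.D k K x ≠ 0 := D_ne_zero_of_D_exp (φ P0) fun h => hx P0 (by
    rw [LocRes.vDiff, h, mul_zero, map_zero])
  have hxs : IsSepVar k x := (isSepVar_iff_D_ne_zero hK hG).2 hvx
  haveI := hxs.finite
  haveI := hxs.separable
  have hxt : Transcendental k (algebraMap K K' x) :=
    (transcendental_algebraMap_iff (algebraMap K K').injective).2 hxs.transcendental
  have hxt' : Transcendental k' (algebraMap K K' x) := by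
    rw [Transcendental] at hxt ⊢
    intro h
    exact hxt (h.restrictScalars k)
  haveI hsep : Algebra.IsSeparable k⟮x⟯ K' := Algebra.IsSeparable.trans k⟮x⟯ K K'
  have hxs' : IsSepVar k' (algebraMap K K' x) := by
    refine ⟨hxt', finite_adjoin hK'.1 hxt', ⟨fun y => ?_⟩⟩
    have hmem : ∀ z : k⟮x⟯, algebraMap K K' (z : K) ∈ k'⟮algebraMap K K' x⟯ := by
      intro z
      have h1 : algebraMap K K' (z : K) ∈ k⟮algebraMap K K' x⟯ := by
        rw [← Set.image_singleton (f := algebraMap K K')]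
        exact (IntermediateField.adjoin_map k ({x} : Set K) (IsScalarTower.toAlgHom k K K')).le ⟨_, z.2, rfl⟩
      exact (IntermediateField.adjoin_le_iff (T := k'⟮algebraMap K K' x⟯.restrictScalars k)).2
        (Set.singleton_subset_iff.2 (IntermediateField.mem_adjoin_simple_self k' _)) h1
    let ι : k⟮x⟯ →+* k'⟮algebraMap K K' x⟯ :=
      ((algebraMap K K').comp (algebraMap k⟮x⟯ K)).codRestrict k'⟮algebraMap K K' x⟯.toSubfield hmem
    have hy := Algebra.IsSeparable.isSeparable k⟮x⟯ y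
    refine Polynomial.Separable.of_dvd (Polynomial.Separable.map (f := ι) hy) (minpoly.dvd _ _ ?_)
    rw [Polynomial.aeval_def, Polynomial.eval₂_map]
    exact minpoly.aeval k⟮x⟯ y
  have hG' : Good k' K' := good_of_isSepVar hxs'
  obtain ⟨C, hC, -, hCcan⟩ := exists_canonical_diff hK hG hφ hvx
  obtain ⟨C', hC', -, hCcan'⟩ := exists_canonical_diff hK' hG' hψ (D_ne_zero_of_isSepVar hK' hxs')
  set D1 : Divisor k' K' := Finsupp.equivMapDomain (placeEquiv (k := k) (k' := k') (K' := K')).symm (conorm K' C)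
  have hD1 : ∀ Q, D1 Q = (e Q : ℤ) * C (below Q) := by
    intro Q
    have h : IsOverWith (placeEquiv (k := k) Q) (below Q) (e Q) := he Q
    rw [Finsupp.equivMapDomain_apply, Equiv.symm_symm, conorm_apply hK.1 C ⟨_, h⟩, ramIdx_eq h]
  have hd : ∀ Q, LocRes.diffExp (φ (below Q)) (ψ Q) (e Q) x = (C' - D1) Q := by
    intro Q
    rw [Finsupp.sub_apply, hD1, hC' Q, hC]
    rfl
  refine ⟨?_, ?_⟩
  · simp only [hd]
    exact (Finset.finite_toSet (C' - D1).support).subset fun Q hQ =>
      Finset.mem_coe.2 (Finsupp.mem_support_iff.2 hQ)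
  simp only [hd]
  rw [finsum_eq_sum_of_support_subset _ (s := (C' - D1).support) fun Q hQ => by
    rw [Finset.mem_coe, Finsupp.mem_support_iff]; intro h; exact hQ (by simp [h])]
  have h1 : (C' - D1).deg = C'.deg - D1.deg := deg_sub _ _
  have hdeg : (Module.finrank k k' : ℤ) * D1.deg = (conorm K' C).deg := by
    rw [Divisor.deg, Finsupp.sum_equivMapDomain, Finsupp.mul_sum, Divisor.deg]
    refine Finsupp.sum_congr fun Q _ => ?_
    obtain ⟨Q', rfl⟩ := (placeEquiv (k := k) (k' := k') (K' := K')).surjective Q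
    rw [Equiv.symm_apply_apply, deg_placeEquiv Q']
    push_cast; ring
  rw [show (∑ Q ∈ (C' - D1).support, (C' - D1) Q * (Q.deg : ℤ)) = (C' - D1).deg from rfl, h1]
  rw [deg_conorm hK C, deg_canonical hK hCcan] at hdeg
  rw [deg_canonical hK' hCcan']
  linear_combination hdeg

end RH

end Groth.Agent.FF
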