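import Groth.Agent.FF.LR.LocalSum
import Mathlib.RingTheory.Valuation.Extension

/-! The residue of a trace for complete fields. -/

set_option autoImplicit false
set_option linter.style.haveILetI false
set_option linter.unusedSectionVars false

open WithZero LaurentSeries

namespace Groth.Agent.FF.LR

variable {K L F E : Type*} [Field K] [Field L] [Field F] [Field E] [Algebra K F] [Algebra F E]
  [Algebra K E] [IsScalarTower K F E] [FiniteDimensional F E]
  [Algebra K L] [Algebra L E] [IsScalarTower K L E] [FiniteDimensional K L]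

theorem trace_resExp_complete (v : Valuation F ℤᵐ⁰) (w : Valuation E ℤᵐ⁰) [v.HasExtension w]
    (φ : F →ₐ[K] K⸨X⸩) (hφ : LocRes.IsExpansionAt v φ) (hφs : Function.Surjective φ)
    (ψ : E →ₐ[L] L⸨X⸩) (hψ : LocRes.IsExpansionAt w ψ) (x : F) (y : E) :
    Algebra.trace K L (LocRes.resExp ψ y (algebraMap F E x)) = LocRes.resExp φ (Algebra.trace F E y) x := by
  classical
  let ψ' : E →ₐ[K] L⸨X⸩ :=
    { (ψ : E →+* L⸨X⸩) with
      commutes' := fun c => by
        show ψ (algebraMap K E c) = _
        rw [IsScalarTower.algebraMap_apply K L E, ψ.commutes, HahnSeries.algebraMap_apply',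
          HahnSeries.algebraMap_apply', PowerSeries.algebraMap_apply, PowerSeries.algebraMap_apply,
          Algebra.algebraMap_self, RingHom.id_apply] }
  have hψ' : LocRes.IsExpansionAt w ψ' := hψ
  -- ramification index
  obtain ⟨t, ht⟩ := hφ.2.2
  have ht0 : t ≠ 0 := fun h => exp_ne_zero (by rw [← ht, h, map_zero])
  have htE : algebraMap F E t ≠ 0 := by simpa using ht0
  have hwt : w (algebraMap F E t) < 1 := (Valuation.HasExtension.val_map_lt_one_iff v w t).2 (by
    rw [ht, ← exp_zero, exp_lt_exp]; norm_num)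
  set e : ℕ := (-log (w (algebraMap F E t))).toNat with hedef
  have hwt0 : w (algebraMap F E t) ≠ 0 := by simpa using htE
  have hlog : log (w (algebraMap F E t)) < 0 := by
    rw [← exp_log hwt0, ← exp_zero, exp_lt_exp] at hwt; exact hwt
  have hwte : w (algebraMap F E t) = exp (-(e : ℤ)) := by
    conv_lhs => rw [← exp_log hwt0]
    congr 1; omega
  have he : 0 < e := by omega
  have hwv : ∀ a : F, w (algebraMap F E a) = v a ^ e := by
    intro a
    rcases eq_or_ne a 0 with rfl | ha
    · simp [he.ne']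
    have hva : v a ≠ 0 := by simpa using ha
    set m := log (v a)
    have h1 : v (a * t ^ m) = 1 := by
      rw [map_mul, map_zpow₀, ht, ← exp_log hva, ← exp_zsmul, ← exp_add, smul_eq_mul]
      simp [m]
    have h2 := (Valuation.HasExtension.val_map_eq_one_iff v w _).2 h1
    rw [map_mul, map_zpow₀, map_mul, map_zpow₀, hwte, ← exp_zsmul, smul_eq_mul] at h2
    calc w (algebraMap F E a) = w (algebraMap F E a) * (exp (m * -(e : ℤ)) * exp (m * (e : ℤ))) := by
          rw [← exp_add]; simp
      _ = exp (m * (e : ℤ)) := by rw [← mul_assoc, h2, one_mul]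
      _ = v a ^ e := by
          rw [← exp_log hva, ← exp_nsmul]; simp [m, mul_comm]
  obtain ⟨D⟩ := exists_liesOver (ψ := ψ') hφ hψ' he hwv
  have hσ : D.σ.toRingHom = algebraMap K L := RingHom.ext fun c => D.σ.commutes c
  obtain ⟨T, hT⟩ := hψ.2.2
  let τ := toPS (ψ T)
  have hTv : Valued.v (ψ T) ≤ (1 : ℤᵐ⁰) := by rw [hψ.1, hT, ← exp_zero, exp_le_exp]; norm_num
  obtain ⟨τ1, hτ1⟩ : PowerSeries.X ∣ τ := by
    simpa using (v_coe_le_iff τ 1).1 (by rw [coe_toPS hTv, hψ.1, hT]; simp)
  have hτ1u : PowerSeries.constantCoeff τ1 ≠ 0 := by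
    intro h
    obtain ⟨τ2, hτ2⟩ := PowerSeries.X_dvd_iff.2 h
    have : Valued.v ((τ : PowerSeries L) : L⸨X⸩) ≤ exp (-((2 : ℕ) : ℤ)) :=
      (v_coe_le_iff τ 2).2 ⟨τ2, by rw [hτ1, hτ2]; ring⟩
    rw [coe_toPS hTv, hψ.1, hT, exp_le_exp] at this
    norm_num at this
  let bL := Module.finBasis K L
  let J := Fin e × Fin (Module.finrank K L)
  let z : J → E := fun p => T ^ (p.1 : ℕ) * algebraMap L E (bL p.2)
  have hψz : ∀ p : J, ψ' (z p) = ((τ ^ (p.1 : ℕ) * PowerSeries.C (bL p.2) : PowerSeries L) : L⸨X⸩) := by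
    intro p
    show ψ (z p) = _
    rw [map_mul, map_pow, AlgHom.commutes, PowerSeries.coe_mul, PowerSeries.coe_pow, coe_toPS hTv,
      PowerSeries.coe_C, LocRes.algebraMap_eq_C]
  have hindep : ∀ c : J → F, (∀ p, v (c p) ≤ 1) →
      Valued.v (ψ' (∑ p, c p • z p)) ≤ exp (-(e : ℤ)) → ∀ p, v (c p) < 1 := by
    intro c hc h p
    let c0 : J → K := fun p => PowerSeries.constantCoeff (toPS (φ (c p)))
    let γ : Fin e → L := fun l => ∑ a, c0 (l, a) • bL a
    have hexp : ∀ p, ∃ r : PowerSeries L, ψ' (algebraMap F E (c p)) =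
        ((PowerSeries.C (algebraMap K L (c0 p)) + PowerSeries.X ^ e * r : PowerSeries L) : L⸨X⸩) := by
      intro p
      obtain ⟨g, hg⟩ := dvd_sub_trunc (toPS (φ (c p))) 1
      rw [sub_eq_iff_eq_add] at hg
      simp only [Finset.range_one, Finset.sum_singleton, pow_zero, mul_one, pow_one,
        PowerSeries.coeff_zero_eq_constantCoeff_apply] at hg
      refine ⟨D.u * io D.σ.toRingHom D.u D.he g, ?_⟩
      rw [D.map, ← coe_toPS (f := φ (c p)) (by rw [hφ.1]; exact hc p), ioL_coe, hg, map_add, map_mul,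
        io_X, io_C, hσ, sS]
      congr 1
      ring
    choose r hr using hexp
    have hsum : ψ' (∑ p, c p • z p) = (((∑ l : Fin e, PowerSeries.C (γ l) * τ ^ (l : ℕ)) +
        PowerSeries.X ^ e * ∑ p : J, r p * (τ ^ (p.1 : ℕ) * PowerSeries.C (bL p.2)) : PowerSeries L) : L⸨X⸩) := by
      rw [map_sum, Finset.sum_congr rfl fun p _ =>
        show ψ' (c p • z p) = (((PowerSeries.C (algebraMap K L (c0 p)) + PowerSeries.X ^ e * r p) *
          (τ ^ (p.1 : ℕ) * PowerSeries.C (bL p.2)) : PowerSeries L) : L⸨X⸩) by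
          rw [Algebra.smul_def, map_mul, hr, hψz]; simp only [PowerSeries.coe_mul], ← map_sum]
      congr 1
      simp only [add_mul, Finset.sum_add_distrib, Finset.mul_sum, mul_assoc]
      congr 1
      rw [Fintype.sum_prod_type]
      refine Finset.sum_congr rfl fun l _ => ?_
      simp only [γ, map_sum, Finset.sum_mul, Algebra.smul_def, map_mul]
      exact Finset.sum_congr rfl fun a _ => by ring
    rw [hsum, v_coe_le_iff, dvd_add_left (dvd_mul_right _ _)] at h
    have hγ : ∀ l : ℕ, ∀ hl : l < e, γ ⟨l, hl⟩ = 0 := by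
      intro l
      induction l using Nat.strong_induction_on with
      | _ l ih =>
        intro hl
        have h1 := PowerSeries.X_pow_dvd_iff.1 h l hl
        rw [map_sum, Finset.sum_eq_single (⟨l, hl⟩ : Fin e)] at h1
        · rw [PowerSeries.coeff_C_mul, hτ1, mul_pow, PowerSeries.coeff_X_pow_mul', if_pos le_rfl, Nat.sub_self,
            PowerSeries.coeff_zero_eq_constantCoeff_apply, map_pow] at h1
          exact (mul_eq_zero.1 h1).resolve_right (pow_ne_zero _ hτ1u)
        · intro m _ hm
          rcases lt_or_ge (m : ℕ) l with hml | hml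
          · rw [ih m hml m.2, map_zero, zero_mul, map_zero]
          · rw [PowerSeries.coeff_C_mul, hτ1, mul_pow, PowerSeries.coeff_X_pow_mul', if_neg, mul_zero]
            exact fun h2 => hm (Fin.ext (le_antisymm h2 hml))
        · exact fun h2 => absurd (Finset.mem_univ _) h2
    have h2 := congrArg (fun x => bL.repr x p.2) (hγ p.1 p.1.2)
    simp only [γ, bL.repr_sum_self, map_zero, Finsupp.coe_zero, Pi.zero_apply, Fin.eta, c0,
      Prod.mk.eta] at h2
    rw [← PowerSeries.coeff_zero_eq_constantCoeff_apply, coeff_toPS] at h2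
    by_contra hge
    have h3 : v (c p) = 1 := le_antisymm (hc p) (not_lt.1 hge)
    obtain ⟨g, hg⟩ : PowerSeries.X ∣ toPS (φ (c p)) :=
      PowerSeries.X_dvd_iff.2 (by rw [← PowerSeries.coeff_zero_eq_constantCoeff_apply, coeff_toPS]; exact h2)
    have h4 := (v_coe_le_iff (toPS (φ (c p))) 1).2 ⟨g, by rw [hg, pow_one]⟩
    rw [coe_toPS (by rw [hφ.1]; exact hc p), hφ.1, h3, ← exp_zero, exp_le_exp] at h4
    norm_num at h4
  have hli : LinearIndependent F z := by
    rw [Fintype.linearIndependent_iff]
    intro g hg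
    by_contra hne
    push_neg at hne
    obtain ⟨i, hi⟩ := hne
    haveI : Nonempty J := ⟨i⟩
    obtain ⟨m, -, hmax⟩ := Finset.exists_max_image Finset.univ (fun j => v (g j)) Finset.univ_nonempty
    have hm0 : g m ≠ 0 := fun h0 => hi (by
      have := hmax i (Finset.mem_univ _)
      rw [h0, map_zero, le_zero_iff, map_eq_zero] at this
      exact this)
    have h1 := hindep (fun j => g j / g m) (fun j => by
      rw [map_div₀, div_le_one₀ (zero_lt_iff.2 (by simpa using hm0))]
      exact hmax j (Finset.mem_univ _)) (by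
      have : ∑ j, (g j / g m) • z j = 0 := by
        simp only [div_eq_inv_mul, ← smul_smul, ← Finset.smul_sum, hg, smul_zero]
      rw [this, map_zero, map_zero]; exact zero_le) m
    rw [div_self hm0, map_one] at h1
    exact lt_irrefl _ h1
  -- spanning
  have hrank : Module.finrank F E ≤ Fintype.card J := by
    letI : Algebra F L⸨X⸩ := (((ioL (σ := D.σ.toRingHom) (he := D.he) D.hu).comp φ.toRingHom)).toAlgebra
    let ψl : E →ₗ[F] L⸨X⸩ :=
      { toFun := ψ'
        map_add' := map_add ψ'
        map_smul' := fun a b => by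
          rw [Algebra.smul_def, map_mul, D.map, RingHom.id_apply, Algebra.smul_def]
          rfl }
    let w0 : J → L⸨X⸩ := fun p => ((PowerSeries.X ^ (p.1 : ℕ) * PowerSeries.C (bL p.2) : PowerSeries L) : L⸨X⸩)
    have hsm : ∀ g : PowerSeries K, ∀ f : L⸨X⸩, ((io D.σ.toRingHom D.u D.he g : PowerSeries L) : L⸨X⸩) * f
        ∈ Submodule.span F {f} := by
      intro g f
      obtain ⟨a, ha⟩ := hφs (g : K⸨X⸩)
      refine Submodule.mem_span_singleton.2 ⟨a, ?_⟩
      rw [Algebra.smul_def]
      show ioL D.hu (φ a) * f = _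
      rw [ha, ioL_coe]
    have hspan : Submodule.span F (Set.range w0) = ⊤ := by
      rw [Submodule.eq_top_iff']
      intro f
      obtain ⟨⟨f1, ⟨_, ⟨M, rfl⟩⟩⟩, hf⟩ := IsLocalization.surj (Submonoid.powers (PowerSeries.X : PowerSeries L)) f
      have hs0 : ((sS e D.u : PowerSeries L) : L⸨X⸩) ≠ 0 := by
        intro h0
        have h' : sS e D.u = 0 := HahnSeries.ofPowerSeries_injective (Γ := ℤ) (by simpa using h0)
        rcases mul_eq_zero.1 h' with h1 | h1
        · exact pow_ne_zero _ PowerSeries.X_ne_zero h1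
        · exact D.hu (by rw [h1, map_zero])
      obtain ⟨a, ha⟩ := hφs ((((PowerSeries.X : PowerSeries K) : K⸨X⸩) ^ M)⁻¹)
      have hf2 : f = ioL (σ := D.σ.toRingHom) (he := D.he) D.hu (φ a) *
          ((f1 * (PowerSeries.X ^ (e - 1)) ^ M * D.u ^ M : PowerSeries L) : L⸨X⸩) := by
        rw [ha, map_inv₀, map_pow, ioL_coe, io_X, eq_comm, inv_mul_eq_iff_eq_mul₀ (pow_ne_zero _ hs0)]
        have hf' : (f1 : L⸨X⸩) = f * ((PowerSeries.X ^ M : PowerSeries L) : L⸨X⸩) := hf.symm
        rw [PowerSeries.coe_mul, PowerSeries.coe_mul, hf', sS,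
          show (PowerSeries.X : PowerSeries L) ^ e = PowerSeries.X ^ (e - 1) * PowerSeries.X by
            rw [← pow_succ, Nat.sub_add_cancel he],
          PowerSeries.coe_mul, PowerSeries.coe_mul]
        simp only [map_pow, Nat.add_sub_cancel]
        ring
      rw [hf2]
      refine (show ∀ g, g ∈ Submodule.span F (Set.range w0) → ioL (σ := D.σ.toRingHom) (he := D.he) D.hu (φ a) * g ∈
        Submodule.span F (Set.range w0) from fun g hg => ?_) _ ?_
      · exact Submodule.smul_mem _ a hg
      set f2 := f1 * (PowerSeries.X ^ (e - 1)) ^ M * D.u ^ M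
      rw [← sum_coord D.he D.hu f2, map_sum]
      refine Submodule.sum_mem _ fun l _ => ?_
      conv => enter [2]; rw [repS_decomp bL (coord e D.u f2 l)]
      rw [map_sum, Finset.sum_mul, map_sum]
      refine Submodule.sum_mem _ fun a' _ => ?_
      rw [map_mul (io _ _ _), io_C, RingHom.id_apply, io_id_apply, ← hσ, ← io_apply (he := D.he), PowerSeries.coe_mul,
        PowerSeries.coe_mul, mul_assoc, ← PowerSeries.coe_mul, mul_comm (PowerSeries.C _)]
      exact Submodule.span_mono (Set.singleton_subset_iff.2 (Set.mem_range_self (f := w0) (l, a'))) (hsm _ _)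
    haveI : Module.Finite F L⸨X⸩ := ⟨⟨(Set.finite_range w0).toFinset, by simpa using hspan⟩⟩
    refine (LinearMap.finrank_le_finrank_of_injective (f := ψl) ψ'.toRingHom.injective).trans ?_
    rw [← finrank_top F L⸨X⸩, ← hspan]
    exact finrank_range_le_card w0
  have hcard : Fintype.card J = Module.finrank F E := le_antisymm hli.fintype_card_le_finrank hrank
  haveI : Nonempty J := by rw [← Fintype.card_pos_iff, hcard]; exact Module.finrank_pos
  let b := basisOfLinearIndependentOfCardEqFinrank hli hcard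
  have hb : ∀ p, b p = z p := fun p => by simp [b]
  have hD : FullOver φ v (fun _ : Unit => ψ') (fun _ => D) b := by
    refine ⟨hφ.1, hφ.2.1, fun q p => ?_, ?_, fun c hc h => ?_⟩
    · rw [hb, hψz]; exact v_coe_le_one _
    · simp only [J, Fintype.card_prod, Fintype.card_fin, Finset.univ_unique, Finset.sum_singleton]
      congr 1
      rw [show (D.σ.toRingHom).toAlgebra = (inferInstance : Algebra K L) from
        Algebra.algebra_ext _ _ (fun r => RingHom.congr_fun hσ r)]
    · have := h ()
      simp only [hb] at this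
      exact hindep c hc this
  have := locRes_trace hD (fun _ => inferInstance) hφ.2.2 y x
  simp only [LocRes.locRes, Finset.univ_unique, Finset.sum_singleton, Algebra.trace_self_apply] at this
  exact this.symm

end Groth.Agent.FF.LR
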