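import Groth.Agent.FF.LR.Series
import Mathlib.LinearAlgebra.Matrix.Charpoly.Coeff
import Mathlib.LinearAlgebra.Matrix.Block
import Mathlib.RingTheory.Polynomial.Nilpotent
import Mathlib.RingTheory.PowerSeries.Inverse

/-! The trace of `F⟦X⟧` over `F⟦s⟧`, `s = X^e u`, read as residues. -/

set_option autoImplicit false
set_option linter.style.haveILetI false

open LaurentSeries

namespace Groth.Agent.FF.LR

variable {F : Type*} [Field F] (e : ℕ) (u : PowerSeries F)

/-- `s = X^e u` -/
noncomputable def sS : PowerSeries F := PowerSeries.X ^ e * u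

/-- remove the terms of degree `< e` and divide by `s` -/
noncomputable def next (f : PowerSeries F) : PowerSeries F :=
  (PowerSeries.mk fun n => PowerSeries.coeff (n + e) f) * u⁻¹

/-- coordinates of `f` in the basis `X^l`, `l < e`, over `F⟦s⟧` -/
noncomputable def coord (f : PowerSeries F) (l : Fin e) : PowerSeries F :=
  PowerSeries.mk fun q => PowerSeries.coeff (l : ℕ) ((next e u)^[q] f)

/-- the trace -/
noncomputable def trSum (f : PowerSeries F) : PowerSeries F :=
  ∑ l : Fin e, coord e u (f * PowerSeries.X ^ (l : ℕ)) l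

variable {e u}

lemma split_low (hu : PowerSeries.constantCoeff u ≠ 0) (f : PowerSeries F) :
    f = ∑ l : Fin e, PowerSeries.C (PowerSeries.coeff (l : ℕ) f) * PowerSeries.X ^ (l : ℕ) +
      sS e u * next e u f := by
  have h : sS e u * next e u f = PowerSeries.X ^ e * PowerSeries.mk fun n => PowerSeries.coeff (n + e) f := by
    rw [sS, next, mul_assoc, mul_comm u, mul_assoc, PowerSeries.inv_mul_cancel _ hu, mul_one]
  rw [h]
  ext n
  simp only [map_add, map_sum, PowerSeries.coeff_C_mul_X_pow, PowerSeries.coeff_X_pow_mul',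
    PowerSeries.coeff_mk]
  by_cases hn : n < e
  · rw [if_neg (by omega), add_zero, Finset.sum_eq_single (⟨n, hn⟩ : Fin e)]
    · simp
    · intro b _ hb
      rw [if_neg]
      exact fun h => hb (Fin.ext h.symm)
    · exact fun h => absurd (Finset.mem_univ _) h
  · rw [if_pos (not_lt.1 hn), Finset.sum_eq_zero fun b _ => if_neg (by omega), zero_add,
      Nat.sub_add_cancel (not_lt.1 hn)]

lemma decomp (hu : PowerSeries.constantCoeff u ≠ 0) (f : PowerSeries F) (N : ℕ) :
    f = ∑ q ∈ Finset.range N, ∑ l : Fin e,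
        PowerSeries.C (PowerSeries.coeff q (coord e u f l)) * sS e u ^ q * PowerSeries.X ^ (l : ℕ) +
      sS e u ^ N * (next e u)^[N] f := by
  induction N with
  | zero => simp
  | succ N ih =>
    conv_lhs => rw [ih, split_low (e := e) hu ((next e u)^[N] f)]
    rw [Finset.sum_range_succ, Function.iterate_succ_apply', mul_add, Finset.mul_sum, pow_succ,
      add_assoc]
    congr 1
    congr 1
    · refine Finset.sum_congr rfl fun l _ => ?_
      simp only [coord, PowerSeries.coeff_mk]
      ring
    · ring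

section Mod

/-- `F⟦S⟧` modulo `S^N` -/
def AN (F : Type*) [Field F] (N : ℕ) : Type _ :=
  PowerSeries F ⧸ Ideal.span ({PowerSeries.X ^ N} : Set (PowerSeries F))

noncomputable instance (N : ℕ) : CommRing (AN F N) :=
  inferInstanceAs (CommRing (PowerSeries F ⧸ Ideal.span ({PowerSeries.X ^ N} : Set (PowerSeries F))))

variable {N : ℕ}

/-- projection -/
noncomputable def pr (N : ℕ) : PowerSeries F →+* AN F N :=
  Ideal.Quotient.mk (Ideal.span ({PowerSeries.X ^ N} : Set (PowerSeries F)))

lemma pr_eq_iff {f g : PowerSeries F} :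
    pr (F := F) N f = pr (F := F) N g ↔ PowerSeries.X ^ N ∣ f - g :=
  Ideal.Quotient.eq.trans Ideal.mem_span_singleton

lemma pr_surjective : Function.Surjective (pr (F := F) N) := Ideal.Quotient.mk_surjective

/-- constants -/
noncomputable def cA (N : ℕ) : F →+* AN F N := (pr (F := F) N).comp PowerSeries.C

/-- the class of `S` -/
noncomputable def SA (N : ℕ) : AN F N := pr (F := F) N PowerSeries.X

lemma SA_pow : (SA (F := F) N : AN F N) ^ N = 0 := by
  rw [SA, ← map_pow, ← map_zero (pr (F := F) N), pr_eq_iff, sub_zero]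

lemma pr_eq_sum (f : PowerSeries F) :
    pr (F := F) N f = ∑ q ∈ Finset.range N, cA (F := F) N (PowerSeries.coeff q f) * SA (F := F) N ^ q := by
  simp only [cA, SA, RingHom.comp_apply, ← map_pow, ← map_mul, ← map_sum]
  rw [pr_eq_iff, PowerSeries.X_pow_dvd_iff]
  intro m hm
  rw [map_sub, map_sum, Finset.sum_eq_single m]
  · simp
  · intro b _ hb
    rw [PowerSeries.coeff_C_mul_X_pow, if_neg (Ne.symm hb)]
  · exact fun h => absurd (Finset.mem_range.2 hm) h

lemma coeff_eq_of_pr_eq {f g : PowerSeries F} (h : pr (F := F) N f = pr (F := F) N g) {q : ℕ} (hq : q < N) :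
    PowerSeries.coeff q f = PowerSeries.coeff q g := by
  rw [pr_eq_iff, PowerSeries.X_pow_dvd_iff] at h
  have := h q hq
  rwa [map_sub, sub_eq_zero] at this

variable [NeZero N]

/-- reduction mod `S` -/
noncomputable def red : AN F N →+* F :=
  Ideal.Quotient.lift _ PowerSeries.constantCoeff (fun a ha => by
    obtain ⟨b, rfl⟩ := Ideal.mem_span_singleton.1 ha
    simp [zero_pow (NeZero.ne N)])

lemma red_pr (f : PowerSeries F) : red (pr (F := F) N f) = PowerSeries.constantCoeff f := rfl

lemma red_cA (c : F) : red (cA (F := F) N c) = c := by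
  show red (pr (F := F) N (PowerSeries.C c)) = c
  rw [red_pr, PowerSeries.constantCoeff_C]

lemma red_SA : red (SA (F := F) N : AN F N) = 0 := by rw [SA, red_pr, PowerSeries.constantCoeff_X]

lemma isNilpotent_of_red {a : AN F N} (h : red a = 0) : IsNilpotent a := by
  obtain ⟨f, rfl⟩ := pr_surjective a
  obtain ⟨g, rfl⟩ := PowerSeries.X_dvd_iff.2 h
  refine ⟨N, ?_⟩
  show (pr (F := F) N (PowerSeries.X * g)) ^ N = 0
  rw [map_mul, mul_pow, ← SA, SA_pow, zero_mul]

lemma isUnit_of_red {a : AN F N} (h : red a ≠ 0) : IsUnit a := by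
  obtain ⟨f, rfl⟩ := pr_surjective a
  exact (PowerSeries.isUnit_iff_constantCoeff.2 (isUnit_iff_ne_zero.2 h)).map (pr (F := F) N)

variable (e u N) in
/-- `s - S` -/
noncomputable def gA : PowerSeries (AN F N) :=
  PowerSeries.map (cA (F := F) N) (sS e u) - PowerSeries.C (SA (F := F) N)

lemma sS_pow_sub_mem (q : ℕ) :
    PowerSeries.map (cA (F := F) N) (sS e u) ^ q - PowerSeries.C (SA (F := F) N) ^ q ∈ Ideal.span {gA e u N} :=
  Ideal.mem_span_singleton.2 (sub_dvd_pow_sub_pow _ _ q)

lemma map_sub_coord_mem (hu : PowerSeries.constantCoeff u ≠ 0) (f : PowerSeries F) :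
    PowerSeries.map (cA (F := F) N) f -
      ∑ l : Fin e, PowerSeries.C (pr (F := F) N (coord e u f l)) * PowerSeries.X ^ (l : ℕ) ∈
        Ideal.span {gA e u N} := by
  conv => enter [2, 1]; rw [decomp (e := e) hu f N]
  rw [map_add, map_sum, map_mul, map_pow, add_sub_right_comm]
  refine Ideal.add_mem _ ?_ ?_
  · simp only [map_sum, map_mul, map_pow, PowerSeries.map_C, PowerSeries.map_X, pr_eq_sum,
      Finset.sum_mul]
    rw [Finset.sum_comm, ← Finset.sum_sub_distrib]
    refine Ideal.sum_mem _ fun l _ => ?_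
    rw [← Finset.sum_sub_distrib]
    refine Ideal.sum_mem _ fun q _ => ?_
    rw [← sub_mul, ← mul_sub]
    exact Ideal.mul_mem_right _ _ (Ideal.mul_mem_left _ _ (sS_pow_sub_mem q))
  · refine Ideal.mul_mem_right _ _ ?_
    have := sS_pow_sub_mem (e := e) (u := u) (N := N) N
    rwa [← map_pow PowerSeries.C (SA (F := F) N) N, SA_pow, map_zero, sub_zero] at this

variable (e u N) in
/-- multiplication by `X` in the basis `X^l` -/
noncomputable def mulX : Matrix (Fin e) (Fin e) (AN F N) :=
  Matrix.of fun l j => pr (F := F) N (coord e u (PowerSeries.X ^ ((l : ℕ) + 1)) j)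

variable (e u N) in
/-- the Weierstrass polynomial -/
noncomputable def mPol : Polynomial (AN F N) := (mulX e u N).charpoly

lemma mPol_monic : (mPol e u N).Monic := Matrix.charpoly_monic _

lemma mPol_natDegree : (mPol e u N).natDegree = e := by
  haveI : Nontrivial (AN F N) := red.domain_nontrivial
  rw [mPol, Matrix.charpoly_natDegree_eq_dim, Fintype.card_fin]

lemma mPol_map_red : (mPol e u N).map (red : AN F N →+* F) = Polynomial.X ^ e := by
  rw [mPol, ← Matrix.charpoly_map]
  have hM : ((mulX e u N).map red).IsUpperTriangular := by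
    intro i j hij
    simp only [id] at hij
    rw [Matrix.map_apply, mulX, Matrix.of_apply, red_pr, ← PowerSeries.coeff_zero_eq_constantCoeff_apply,
      coord, PowerSeries.coeff_mk, Function.iterate_zero, id, PowerSeries.coeff_X_pow, if_neg]
    have : (j : ℕ) < i := hij
    omega
  rw [Matrix.charpoly_of_upperTriangular _ hM]
  have hd : ∀ i : Fin e, ((mulX e u N).map red) i i = 0 := fun i => by
    rw [Matrix.map_apply, mulX, Matrix.of_apply, red_pr, ← PowerSeries.coeff_zero_eq_constantCoeff_apply,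
      coord, PowerSeries.coeff_mk, Function.iterate_zero, id, PowerSeries.coeff_X_pow, if_neg]
    omega
  have hd' : ∀ i : Fin e, red (mulX e u N i i) = 0 := hd
  simp [hd']

set_option maxHeartbeats 1000000 in
lemma coe_mPol_mem (he : 0 < e) (hu : PowerSeries.constantCoeff u ≠ 0) :
    ((mPol e u N : Polynomial (AN F N)) : PowerSeries (AN F N)) ∈ Ideal.span {gA e u N} := by
  set I := Ideal.span {gA e u N}
  let φ : Polynomial (AN F N) →+* PowerSeries (AN F N) := Polynomial.coeToPowerSeries.ringHom
  set Mc := (Matrix.charmatrix (mulX e u N)).map φ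
  set vv : Fin e → PowerSeries (AN F N) := fun l => PowerSeries.X ^ (l : ℕ)
  have hw : ∀ l, Mc.mulVec vv l ∈ I := by
    intro l
    have h := map_sub_coord_mem (e := e) (N := N) hu (PowerSeries.X ^ ((l : ℕ) + 1))
    rw [map_pow, PowerSeries.map_X] at h
    convert h using 1
    have hterm : ∀ j, Mc l j * vv j = (if l = j then PowerSeries.X * vv j else 0) -
        PowerSeries.C (pr (F := F) N (coord e u (PowerSeries.X ^ ((l : ℕ) + 1)) j)) * vv j := fun j => by
      simp only [Mc, φ, Matrix.map_apply, Matrix.charmatrix_apply, Matrix.diagonal_apply, mulX,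
        Matrix.of_apply, Polynomial.coeToPowerSeries.ringHom_apply]
      split_ifs <;> simp [sub_mul, neg_mul]
    show ∑ j, Mc l j * vv j = _
    simp only [hterm, Finset.sum_sub_distrib, Finset.sum_ite_eq, Finset.mem_univ, if_true, vv,
      pow_succ']
  have hdet : Mc.det = φ (mPol e u N) := by rw [mPol, Matrix.charpoly, RingHom.map_det]; rfl
  have h0 : (Mc.adjugate.mulVec (Mc.mulVec vv)) ⟨0, he⟩ ∈ I := by
    rw [Matrix.mulVec_eq_sum]
    simp only [Finset.sum_apply, Pi.smul_apply, Matrix.transpose_apply, smul_eq_mul]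
    refine Ideal.sum_mem _ fun j _ => ?_
    first
      | exact Ideal.mul_mem_left _ _ (hw j)
      | exact Ideal.mul_mem_right _ _ (hw j)
  rw [Matrix.mulVec_mulVec, Matrix.adjugate_mul, Matrix.smul_mulVec, Matrix.one_mulVec, Pi.smul_apply,
    hdet, smul_eq_mul] at h0
  simpa [vv, φ, Polynomial.coeToPowerSeries.ringHom_apply] using h0

lemma exists_unit_cofactor (he : 0 < e) (hu : PowerSeries.constantCoeff u ≠ 0) :
    ∃ W : (PowerSeries (AN F N))ˣ,
      ((mPol e u N : Polynomial (AN F N)) : PowerSeries (AN F N)) = gA e u N * W := by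
  obtain ⟨W, hW⟩ := Ideal.mem_span_singleton.1 (coe_mPol_mem (N := N) he hu)
  refine ⟨IsUnit.unit (a := W) (PowerSeries.isUnit_iff_constantCoeff.2 (isUnit_of_red ?_)), hW⟩
  intro h0
  have h := congrArg (PowerSeries.map (red : AN F N →+* F)) hW
  rw [map_mul, ← Polynomial.polynomial_map_coe, mPol_map_red] at h
  have hg : PowerSeries.map (red : AN F N →+* F) (gA e u N) = sS e u := by
    ext n
    simp [gA, red_cA, PowerSeries.coeff_C, apply_ite red, red_SA]
  rw [hg, sS, Polynomial.coe_pow, Polynomial.coe_X, mul_assoc] at h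
  have h2 : u * PowerSeries.map (red : AN F N →+* F) W = 1 :=
    mul_left_cancel₀ (pow_ne_zero e PowerSeries.X_ne_zero) (by rw [mul_one]; exact h.symm)
  have h3 := congrArg PowerSeries.constantCoeff h2
  rw [map_mul, map_one] at h3
  have h4 : PowerSeries.constantCoeff (PowerSeries.map (red : AN F N →+* F) W) = red (PowerSeries.constantCoeff W) := by
    rw [← PowerSeries.coeff_zero_eq_constantCoeff_apply, PowerSeries.coeff_map,
      PowerSeries.coeff_zero_eq_constantCoeff_apply]
  rw [h4, h0, mul_zero] at h3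
  exact zero_ne_one h3

variable (N) in
/-- `F⸨X⸩ → A⸨X⸩` -/
noncomputable def jA : F⸨X⸩ →+* (AN F N)⸨X⸩ where
  toFun x := HahnSeries.map x (cA (F := F) N)
  map_one' := by
    ext n
    simp only [HahnSeries.map_coeff, HahnSeries.coeff_one]
    split_ifs <;> simp
  map_mul' x y := by
    show HahnSeries.map (x * y) (cA (F := F) N : F →+* AN F N).toNonUnitalRingHom = _
    exact HahnSeries.map_mul _
  map_zero' := by ext; simp
  map_add' x y := by ext; simp

lemma jA_coe (f : PowerSeries F) :
    jA (F := F) N (f : F⸨X⸩) = ((PowerSeries.map (cA (F := F) N) f : PowerSeries (AN F N)) : (AN F N)⸨X⸩) := by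
  ext n
  show cA (F := F) N ((f : F⸨X⸩).coeff n) = _
  rw [PowerSeries.coeff_coe, PowerSeries.coeff_coe]
  split_ifs <;> simp

lemma jA_coeff (x : F⸨X⸩) (n : ℤ) : (jA (F := F) N x).coeff n = cA (F := F) N (x.coeff n) := rfl

lemma exists_inverse (he : 0 < e) :
    ∃ r : (AN F N)⸨X⸩, ((mPol e u N : PowerSeries (AN F N)) : (AN F N)⸨X⸩) * r = 1 ∧
      ∀ p : ℕ, p < e → (HahnSeries.single (p : ℤ) (1 : AN F N) * r).coeff (-1) = if p = e - 1 then 1 else 0 := by
  set m := mPol e u N with hm
  haveI : Nontrivial (AN F N) := red.domain_nontrivial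
  have hdeg : m.natDegree = e := mPol_natDegree
  have hmon : m.Monic := mPol_monic
  have hrev : IsUnit m.reverse := by
    refine Polynomial.isUnit_of_coeff_isUnit_isNilpotent ?_ fun i hi => ?_
    · rw [Polynomial.coeff_zero_reverse, hmon.leadingCoeff]; exact isUnit_one
    · rw [Polynomial.coeff_reverse, hdeg]
      refine isNilpotent_of_red ?_
      have := congrArg (fun p : Polynomial F => p.coeff (Polynomial.revAt e i)) (mPol_map_red (e := e) (u := u) (N := N))
      simp only [Polynomial.coeff_map, Polynomial.coeff_X_pow] at this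
      rw [this, if_neg]
      intro h
      have h2 := congrArg (Polynomial.revAt e) h
      rw [Polynomial.revAt_invol, Polynomial.revAt_le le_rfl, Nat.sub_self] at h2
      exact hi h2
  obtain ⟨q, hq⟩ := hrev.exists_right_inv
  have hq0 : q.coeff 0 = 1 := by
    have := congrArg (fun p : Polynomial (AN F N) => p.coeff 0) hq
    simpa [Polynomial.mul_coeff_zero, Polynomial.coeff_zero_reverse, hmon.leadingCoeff] using this
  set T : (AN F N)⸨X⸩ := HahnSeries.single (1 : ℤ) 1
  set Ti : (AN F N)⸨X⸩ := HahnSeries.single (-1 : ℤ) 1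
  letI : Invertible T := ⟨Ti,
    by rw [HahnSeries.single_mul_single]; norm_num,
    by rw [HahnSeries.single_mul_single]; norm_num⟩
  let κ : AN F N →+* (AN F N)⸨X⸩ := HahnSeries.C
  have hQ : ∀ n : ℤ, 0 ≤ n → (Polynomial.eval₂ κ Ti q).coeff n = if n = 0 then 1 else 0 := by
    intro n hn
    rw [Polynomial.eval₂_eq_sum_range, HahnSeries.coeff_sum]
    have hterm : ∀ i ∈ Finset.range (q.natDegree + 1),
        (κ (q.coeff i) * Ti ^ i).coeff n = if n = 0 ∧ i = 0 then 1 else 0 := by
      intro i _
      simp only [κ, Ti, HahnSeries.single_pow, one_pow, HahnSeries.C_apply, HahnSeries.single_mul_single,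
        mul_one, zero_add, HahnSeries.coeff_single]
      rw [nsmul_eq_mul]
      split_ifs with h1 h2 h3
      · rw [h2.2, hq0]
      · exact absurd ⟨by omega, by omega⟩ h2
      · exact absurd (by obtain ⟨a, b⟩ := h3; subst a b; simp) h1
      · rfl
    rw [Finset.sum_congr rfl hterm]
    split_ifs with h
    · simp [h]
    · simp [h]
  refine ⟨HahnSeries.single (-(e : ℤ)) 1 * Polynomial.eval₂ κ Ti q, ?_, fun p hp => ?_⟩
  · have hcoe : ((m : PowerSeries (AN F N)) : (AN F N)⸨X⸩) = Polynomial.eval₂ κ T m := by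
      rw [Polynomial.eval₂_eq_sum_range]
      conv_lhs => rw [m.as_sum_range_C_mul_X_pow]
      rw [← Polynomial.coeToPowerSeries.ringHom_apply, map_sum, map_sum]
      refine Finset.sum_congr rfl fun i _ => ?_
      simp [κ, T, HahnSeries.ofPowerSeries_C, HahnSeries.ofPowerSeries_X]
    have hrev2 := Polynomial.eval₂_reverse_mul_pow κ T m
    rw [hdeg] at hrev2
    rw [hcoe, ← hrev2, show (⅟T) = Ti from rfl]
    have hTe : T ^ e * HahnSeries.single (-(e : ℤ)) (1 : AN F N) = 1 := by
      simp only [T, HahnSeries.single_pow, one_pow, HahnSeries.single_mul_single, mul_one,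
        nsmul_one, add_neg_cancel]
      rfl
    calc Polynomial.eval₂ κ Ti m.reverse * T ^ e * (HahnSeries.single (-(e : ℤ)) 1 * Polynomial.eval₂ κ Ti q)
        = (T ^ e * HahnSeries.single (-(e : ℤ)) (1 : AN F N)) *
          (Polynomial.eval₂ κ Ti m.reverse * Polynomial.eval₂ κ Ti q) := by ring
      _ = 1 := by rw [hTe, ← Polynomial.eval₂_mul, hq, Polynomial.eval₂_one, mul_one]
  · rw [← mul_assoc, HahnSeries.single_mul_single, one_mul, HahnSeries.coeff_single_mul, one_mul]
    rw [hQ _ (by omega)]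
    by_cases h : p = e - 1
    · rw [if_pos h, if_pos (by omega)]
    · rw [if_neg h, if_neg (by omega)]

set_option maxHeartbeats 2000000 in
theorem trace_mod (he : 0 < e) (hu : PowerSeries.constantCoeff u ≠ 0) (f : PowerSeries F) :
    pr (F := F) N (trSum e u f) = ∑ q ∈ Finset.range N, cA (F := F) N ((((f * PowerSeries.derivative F (sS e u) :
        PowerSeries F) : F⸨X⸩) * ((sS e u : F⸨X⸩) ^ (q + 1))⁻¹).coeff (-1)) * SA (F := F) N ^ q := by
  classical
  obtain ⟨r, hr, hrp⟩ := exists_inverse (F := F) (e := e) (u := u) (N := N) he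
  obtain ⟨W, hW⟩ := exists_unit_cofactor (F := F) (N := N) he hu
  set m := mPol e u N with hm
  set g := gA e u N with hg
  let ε : PowerSeries (AN F N) →+* (AN F N)⸨X⸩ := HahnSeries.ofPowerSeries ℤ _
  let lam : PowerSeries (AN F N) → AN F N := fun h => (ε h * r).coeff (-1)
  have hpow0 : ∀ h : PowerSeries (AN F N), (ε h).coeff (-1) = 0 := fun h => by
    show ((h : (AN F N)⸨X⸩)).coeff (-1) = 0
    rw [PowerSeries.coeff_coe, if_pos (by norm_num)]
  have lam_add : ∀ a b, lam (a + b) = lam a + lam b := fun a b => by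
    simp [lam, map_add, add_mul]
  have lam_C : ∀ c a, lam (PowerSeries.C c * a) = c * lam a := fun c a => by
    simp only [lam, map_mul, mul_assoc]
    show ((HahnSeries.ofPowerSeries ℤ _ (PowerSeries.C c)) * _).coeff (-1) = _
    rw [HahnSeries.ofPowerSeries_C, HahnSeries.C_mul_eq_smul, HahnSeries.coeff_smul, smul_eq_mul]
  let lamHom : PowerSeries (AN F N) →+ AN F N :=
    { toFun := lam, map_zero' := by simp [lam], map_add' := lam_add }
  have lam_sum : ∀ {ι : Type} (s : Finset ι) (a : ι → PowerSeries (AN F N)),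
      lam (∑ i ∈ s, a i) = ∑ i ∈ s, lam (a i) := fun s a => map_sum lamHom a s
  have lam_m : ∀ h, lam ((m : PowerSeries (AN F N)) * h) = 0 := fun h => by
    simp only [lam, map_mul]
    rw [mul_right_comm, show ε (m : PowerSeries (AN F N)) * r = 1 from hr, one_mul]
    exact hpow0 h
  have lam_g : ∀ a ∈ Ideal.span {g}, lam a = 0 := fun a ha => by
    obtain ⟨h, rfl⟩ := Ideal.mem_span_singleton.1 ha
    rw [show g * h = (m : PowerSeries (AN F N)) * ((↑W⁻¹ : PowerSeries (AN F N)) * h) by
      rw [hW, mul_assoc, ← mul_assoc (W : PowerSeries (AN F N)), Units.mul_inv, one_mul]]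
    exact lam_m _
  have lam_X : ∀ p : ℕ, p < e → lam (PowerSeries.X ^ p) = if p = e - 1 then 1 else 0 := fun p hp => by
    show ((HahnSeries.ofPowerSeries ℤ _ (PowerSeries.X ^ p)) * r).coeff (-1) = _
    rw [HahnSeries.ofPowerSeries_X_pow]
    exact hrp p hp
  -- dual basis
  let b : Fin e → PowerSeries (AN F N) := fun l =>
    ∑ j ∈ Finset.Icc ((l : ℕ) + 1) e, PowerSeries.C (m.coeff j) * PowerSeries.X ^ (j - (l : ℕ) - 1)
  have hm1 : m.coeff e = 1 := by
    have := mPol_monic (F := F) (e := e) (u := u) (N := N)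
    rwa [Polynomial.Monic, Polynomial.leadingCoeff, mPol_natDegree] at this
  have hmsum : (m : PowerSeries (AN F N)) =
      ∑ j ∈ Finset.range (e + 1), PowerSeries.C (m.coeff j) * PowerSeries.X ^ j := by
    show Polynomial.coeToPowerSeries.ringHom m = _
    conv_lhs => rw [m.as_sum_range_C_mul_X_pow, map_sum, hm, mPol_natDegree, ← hm]
    exact Finset.sum_congr rfl fun i _ => by simp
  have hdual : ∀ i l : Fin e, lam (PowerSeries.X ^ (i : ℕ) * b l) = if i = l then 1 else 0 := by
    intro i l
    simp only [b, Finset.mul_sum, mul_left_comm (PowerSeries.X ^ (i : ℕ)), ← pow_add]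
    rw [lam_sum, Finset.sum_congr rfl fun j _ => lam_C _ _]
    have hi := i.2
    have hl := l.2
    by_cases hil : (i : ℕ) ≤ l
    · rw [Finset.sum_congr rfl (g := fun j => m.coeff j *
          if (i : ℕ) + (j - (l : ℕ) - 1) = e - 1 then (1 : AN F N) else 0) fun j hj => by
        rw [Finset.mem_Icc] at hj; rw [lam_X _ (by omega)]]
      rw [Finset.sum_eq_single e]
      · rw [hm1, one_mul]
        by_cases h : i = l
        · rw [if_pos h, if_pos (by rw [h]; omega)]
        · rw [if_neg h, if_neg]
          intro h'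
          exact h (Fin.ext (by omega))
      · intro j hj hne
        rw [Finset.mem_Icc] at hj
        rw [if_neg (by omega), mul_zero]
      · intro h; exact absurd (Finset.mem_Icc.2 ⟨by omega, le_rfl⟩) h
    · have hne : i ≠ l := fun h => hil (by rw [h])
      rw [if_neg hne, ← Finset.sum_congr rfl fun j _ => lam_C _ _, ← lam_sum]
      obtain ⟨d, hd⟩ : ∃ d, (i : ℕ) = l + 1 + d := ⟨i - l - 1, by omega⟩
      have hsplit : ∑ j ∈ Finset.Icc ((l : ℕ) + 1) e,
          PowerSeries.C (m.coeff j) * PowerSeries.X ^ ((i : ℕ) + (j - (l : ℕ) - 1)) =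
          (m : PowerSeries (AN F N)) * PowerSeries.X ^ d +
          -(∑ j ∈ Finset.range ((l : ℕ) + 1), PowerSeries.C (m.coeff j) * PowerSeries.X ^ (j + d)) := by
        rw [hmsum, Finset.sum_mul, ← Finset.sum_range_add_sum_Ico _ (show (l : ℕ) + 1 ≤ e + 1 by omega)]
        have h1 : ∀ j, PowerSeries.C (m.coeff j) * PowerSeries.X ^ j * PowerSeries.X ^ d =
            PowerSeries.C (m.coeff j) * PowerSeries.X ^ (j + d) := fun j => by rw [pow_add, mul_assoc]
        simp only [h1]
        rw [add_right_comm, add_neg_cancel, zero_add, ← Finset.Ico_succ_right_eq_Icc]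
        refine Finset.sum_congr rfl fun j hj => ?_
        rw [Finset.mem_Ico] at hj
        rw [show (i : ℕ) + (j - l - 1) = j + d by omega]
      rw [hsplit, lam_add, lam_m, zero_add, show lam (-(∑ j ∈ Finset.range ((l : ℕ) + 1),
        PowerSeries.C (m.coeff j) * PowerSeries.X ^ (j + d))) = -lam _ from map_neg lamHom _, lam_sum,
        Finset.sum_eq_zero, neg_zero]
      intro j hj
      rw [Finset.mem_range] at hj
      rw [lam_C, lam_X _ (by omega), if_neg (by omega), mul_zero]
  -- coordinates
  have hco : ∀ l : Fin e, pr (F := F) N (coord e u (f * PowerSeries.X ^ (l : ℕ)) l) =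
      lam (PowerSeries.map (cA (F := F) N) f * (PowerSeries.X ^ (l : ℕ) * b l)) := by
    intro l
    have h := map_sub_coord_mem (e := e) (N := N) hu (f * PowerSeries.X ^ (l : ℕ))
    have h2 := lam_g _ (Ideal.mul_mem_right (b l) _ h)
    have e1 : PowerSeries.map (cA (F := F) N) f * (PowerSeries.X ^ (l : ℕ) * b l) =
        PowerSeries.map (cA (F := F) N) (f * PowerSeries.X ^ (l : ℕ)) * b l := by
      rw [map_mul, map_pow, PowerSeries.map_X, mul_assoc]
    rw [sub_mul, show lam (_ - _) = lam _ - lam _ from map_sub lamHom _ _, sub_eq_zero,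
      Finset.sum_mul, lam_sum] at h2
    rw [e1, h2, Finset.sum_congr rfl fun i _ => by rw [mul_assoc, lam_C, hdual i l],
      Finset.sum_eq_single l]
    · simp
    · intro i _ hi; rw [if_neg hi, mul_zero]
    · exact fun h => absurd (Finset.mem_univ l) h
  -- ∑ X^l b_l = m'
  have hder : ∑ l : Fin e, PowerSeries.X ^ (l : ℕ) * b l =
      PowerSeries.derivative _ (m : PowerSeries (AN F N)) := by
    ext n
    simp only [map_sum, b, Finset.mul_sum, mul_left_comm (PowerSeries.X ^ _), ← pow_add,
      PowerSeries.coeff_C_mul_X_pow, PowerSeries.coeff_derivative, Polynomial.coeff_coe]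
    by_cases hn : n < e
    · have hval : ∀ l : Fin e, (∑ j ∈ Finset.Icc ((l : ℕ) + 1) e,
          if n = (l : ℕ) + (j - l - 1) then m.coeff j else 0) = if (l : ℕ) ≤ n then m.coeff (n + 1) else 0 := by
        intro l
        split_ifs with hl
        · rw [Finset.sum_eq_single (n + 1)]
          · rw [if_pos (by omega)]
          · intro j hj hne
            rw [Finset.mem_Icc] at hj
            rw [if_neg (by omega)]
          · intro h; exact absurd (Finset.mem_Icc.2 ⟨by omega, by omega⟩) h
        · refine Finset.sum_eq_zero fun j hj => ?_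
          rw [Finset.mem_Icc] at hj
          rw [if_neg (by omega)]
      rw [Finset.sum_congr rfl fun l _ => hval l, ← Finset.sum_filter, Finset.sum_const, nsmul_eq_mul,
        mul_comm]
      congr 1
      rw [show (Finset.univ.filter fun l : Fin e => (l : ℕ) ≤ n).card = n + 1 by
        rw [show (Finset.univ.filter fun l : Fin e => (l : ℕ) ≤ n) = Finset.Iic (⟨n, hn⟩ : Fin e) by
          ext l; simp [Fin.le_def], Fin.card_Iic]]
      push_cast; ring
    · rw [Polynomial.coeff_eq_zero_of_natDegree_lt (by rw [hm, mPol_natDegree]; omega), zero_mul]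
      refine Finset.sum_eq_zero fun l _ => Finset.sum_eq_zero fun j hj => ?_
      rw [Finset.mem_Icc] at hj
      rw [if_neg (by omega)]
  have h1 : pr (F := F) N (trSum e u f) =
      lam (PowerSeries.map (cA (F := F) N) f * PowerSeries.derivative _ (m : PowerSeries (AN F N))) := by
    rw [trSum, map_sum, Finset.sum_congr rfl fun l _ => hco l, ← lam_sum, ← Finset.mul_sum, hder]
  -- the inverse of s - S
  set a : (AN F N)⸨X⸩ := jA (F := F) N ((sS e u : F⸨X⸩))⁻¹ with ha
  set G := a * ∑ q ∈ Finset.range N, (HahnSeries.C (SA (F := F) N) * a) ^ q with hG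
  have hs0 : (sS e u : F⸨X⸩) ≠ 0 := by
    intro h
    have h' : sS e u = 0 := HahnSeries.ofPowerSeries_injective (Γ := ℤ) (by simpa using h)
    rcases mul_eq_zero.1 h' with h1 | h1
    · exact pow_ne_zero _ PowerSeries.X_ne_zero h1
    · exact hu (by rw [h1, map_zero])
  have hgG : ε g * G = 1 := by
    have e1 : ε g = jA (F := F) N (sS e u : F⸨X⸩) - HahnSeries.C (SA (F := F) N) := by
      rw [jA_coe, hg, gA]
      show HahnSeries.ofPowerSeries ℤ _ (_ - _) = _
      rw [map_sub, HahnSeries.ofPowerSeries_C]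
    have e2 : jA (F := F) N (sS e u : F⸨X⸩) * a = 1 := by rw [ha, ← map_mul, mul_inv_cancel₀ hs0, map_one]
    rw [e1, hG, ← mul_assoc, sub_mul, e2, mul_neg_geom_sum, mul_pow, ← map_pow, SA_pow, map_zero,
      zero_mul, sub_zero]
  have hWG : ε (W : PowerSeries (AN F N)) * r = G := by
    have : ε g * (ε (W : PowerSeries (AN F N)) * r) = 1 := by
      rw [← mul_assoc, ← map_mul, ← hW]; exact hr
    calc ε (W : PowerSeries (AN F N)) * r = (ε g * G) * (ε (W : PowerSeries (AN F N)) * r) := by rw [hgG, one_mul]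
      _ = G * (ε g * (ε (W : PowerSeries (AN F N)) * r)) := by ring
      _ = G := by rw [this, mul_one]
  have hgr : ε g * r = ε (↑W⁻¹ : PowerSeries (AN F N)) := by
    calc ε g * r = ε g * r * (ε (W : PowerSeries (AN F N)) * ε (↑W⁻¹ : PowerSeries (AN F N))) := by
          rw [← map_mul, Units.mul_inv, map_one, mul_one]
      _ = ε g * (ε (W : PowerSeries (AN F N)) * r) * ε (↑W⁻¹ : PowerSeries (AN F N)) := by ring
      _ = _ := by rw [hWG, hgG, one_mul]
  have hgd : PowerSeries.derivative _ g = PowerSeries.map (cA (F := F) N) (PowerSeries.derivative F (sS e u)) := by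
    rw [hg, gA, map_sub, PowerSeries.derivative_C, sub_zero]
    ext n
    simp [PowerSeries.coeff_derivative]
  have key : ε (PowerSeries.map (cA (F := F) N) f * PowerSeries.derivative _ (m : PowerSeries (AN F N))) * r =
      jA (F := F) N ((f * PowerSeries.derivative F (sS e u) : PowerSeries F) : F⸨X⸩) * G +
      ε (PowerSeries.map (cA (F := F) N) f * PowerSeries.derivative _ (W : PowerSeries (AN F N)) * ↑W⁻¹) := by
    rw [hW, Derivation.leibniz, smul_eq_mul, smul_eq_mul, hgd, jA_coe, map_mul (PowerSeries.map _),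
      ← hWG]
    show ε _ * r = ε _ * _ + _
    simp only [map_mul, map_add]
    calc ε (PowerSeries.map (cA (F := F) N) f) * (ε g * ε (PowerSeries.derivative _ (W : PowerSeries (AN F N))) +
          ε (W : PowerSeries (AN F N)) * ε (PowerSeries.map (cA (F := F) N) (PowerSeries.derivative F (sS e u)))) * r
        = ε (PowerSeries.map (cA (F := F) N) f) * ε (PowerSeries.map (cA (F := F) N) (PowerSeries.derivative F (sS e u))) *
            (ε (W : PowerSeries (AN F N)) * r) +
          ε (PowerSeries.map (cA (F := F) N) f) * ε (PowerSeries.derivative _ (W : PowerSeries (AN F N))) * (ε g * r) := by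
          ring
      _ = _ := by rw [hgr]
  rw [h1]
  show (ε _ * r).coeff (-1) = _
  rw [key, HahnSeries.coeff_add, hpow0, add_zero, hG, Finset.mul_sum, Finset.mul_sum,
    HahnSeries.coeff_sum]
  refine Finset.sum_congr rfl fun q _ => ?_
  rw [mul_pow, ← map_pow, ha,
    show jA (F := F) N ((f * PowerSeries.derivative F (sS e u) : PowerSeries F) : F⸨X⸩) *
        (jA (F := F) N ((sS e u : F⸨X⸩))⁻¹ * (HahnSeries.C (SA (F := F) N ^ q) * jA (F := F) N ((sS e u : F⸨X⸩))⁻¹ ^ q)) =
      HahnSeries.C (SA (F := F) N ^ q) * jA (F := F) N (((f * PowerSeries.derivative F (sS e u) : PowerSeries F) : F⸨X⸩) *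
        ((sS e u : F⸨X⸩) ^ (q + 1))⁻¹) by
      rw [map_mul (jA (F := F) N), ← inv_pow, map_pow, pow_succ', map_mul (jA (F := F) N), map_pow]; ring]
  rw [HahnSeries.C_mul_eq_smul, HahnSeries.coeff_smul, jA_coeff, smul_eq_mul, mul_comm]

end Mod

/-- `[S^q] Tr(f) = Res(f s^{-q-1} ds)`. -/
theorem coeff_trSum (he : 0 < e) (hu : PowerSeries.constantCoeff u ≠ 0) (f : PowerSeries F) (q : ℕ) :
    PowerSeries.coeff q (trSum e u f) = (((f * PowerSeries.derivative F (sS e u) : PowerSeries F) : F⸨X⸩) *
      ((sS e u : F⸨X⸩) ^ (q + 1))⁻¹).coeff (-1) := by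
  have h := trace_mod (N := q + 1) he hu f
  set c : ℕ → F := fun j => (((f * PowerSeries.derivative F (sS e u) : PowerSeries F) : F⸨X⸩) *
      ((sS e u : F⸨X⸩) ^ (j + 1))⁻¹).coeff (-1)
  have h2 : pr (q + 1) (trSum e u f) = pr (q + 1) (PowerSeries.mk c) := by
    rw [h, pr_eq_sum (PowerSeries.mk c)]
    simp [c]
  simpa [c] using coeff_eq_of_pr_eq h2 (Nat.lt_succ_self q)

/-- Residues of `f^(n-1) df` vanish. -/
theorem res_pow_mul_D_eq_zero (he : 0 < e) (hu : PowerSeries.constantCoeff u ≠ 0) {q : ℕ} (hq : 0 < q) :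
    (((PowerSeries.derivative F (sS e u) : PowerSeries F) : F⸨X⸩) *
      ((sS e u : F⸨X⸩) ^ (q + 1))⁻¹).coeff (-1) = 0 := by
  have h := coeff_trSum he hu 1 q
  rw [one_mul] at h
  rw [← h, trSum, map_sum]
  refine Finset.sum_eq_zero fun l _ => ?_
  simp only [one_mul, coord, PowerSeries.coeff_mk]
  obtain ⟨p, rfl⟩ := Nat.exists_eq_add_of_lt hq
  rw [Nat.zero_add, Function.iterate_succ_apply]
  have hn : next e u (PowerSeries.X ^ (l : ℕ)) = 0 := by
    have : (PowerSeries.mk fun n => PowerSeries.coeff (n + e) (PowerSeries.X ^ (l : ℕ) : PowerSeries F)) = 0 := by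
      ext n
      simp [PowerSeries.coeff_X_pow, show n + e ≠ (l : ℕ) by omega]
    rw [next, this, zero_mul]
  rw [hn]
  have hz : ∀ p, (next e u)^[p] (0 : PowerSeries F) = 0 := by
    intro p
    induction p with
    | zero => rfl
    | succ p ih =>
      rw [Function.iterate_succ_apply', ih, next]
      have : (PowerSeries.mk fun n => PowerSeries.coeff (n + e) (0 : PowerSeries F)) = 0 := by ext n; simp
      rw [this, zero_mul]
  rw [hz, map_zero]

end Groth.Agent.FF.LR
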