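import Groth.Agent.FF.LR.Expansion
import Groth.Agent.FF.LinSys
import Groth.Agent.FF.LR.LocTrace
import Mathlib.Algebra.Polynomial.HasseDeriv
import Mathlib.Algebra.DualNumber

/-! Derivatives through expansions; the Taylor homomorphism. -/

set_option autoImplicit false
set_option linter.style.haveILetI false
set_option linter.unusedSectionVars false

open FunFld WithZero LaurentSeries

namespace Groth.Agent.FF

namespace LR

variable {F : Type*} [Field F]

/-- Hasse derivative of a power series -/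
noncomputable def hdPS (j : ℕ) (f : PowerSeries F) : PowerSeries F :=
  PowerSeries.mk fun m => ((m + j).choose j : F) * PowerSeries.coeff (m + j) f

lemma coeff_hdPS_mul (j m : ℕ) (f g : PowerSeries F) :
    PowerSeries.coeff m (hdPS j (f * g)) =
      ∑ ij ∈ Finset.HasAntidiagonal.antidiagonal j, PowerSeries.coeff m (hdPS ij.1 f * hdPS ij.2 g) := by
  set N := m + j + 1
  set p := PowerSeries.trunc N f
  set q := PowerSeries.trunc N g
  have hp : ∀ i a, i + a < N → (Polynomial.hasseDeriv i p).coeff a = PowerSeries.coeff a (hdPS i f) := fun i a h => by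
    rw [Polynomial.hasseDeriv_coeff, hdPS, PowerSeries.coeff_mk, PowerSeries.coeff_trunc, if_pos (by omega)]
  have hq : ∀ i a, i + a < N → (Polynomial.hasseDeriv i q).coeff a = PowerSeries.coeff a (hdPS i g) := fun i a h => by
    rw [Polynomial.hasseDeriv_coeff, hdPS, PowerSeries.coeff_mk, PowerSeries.coeff_trunc, if_pos (by omega)]
  have h1 : (p * q).coeff (m + j) = PowerSeries.coeff (m + j) (f * g) := by
    rw [Polynomial.coeff_mul, PowerSeries.coeff_mul]
    refine Finset.sum_congr rfl fun ab hab => ?_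
    rw [Finset.HasAntidiagonal.mem_antidiagonal] at hab
    rw [PowerSeries.coeff_trunc, PowerSeries.coeff_trunc, if_pos (by omega), if_pos (by omega)]
  have h2 := congrArg (fun r : Polynomial F => r.coeff m) (Polynomial.hasseDeriv_mul (k := j) p q)
  simp only [Polynomial.hasseDeriv_coeff, h1, Polynomial.finsetSum_coeff, Polynomial.coeff_mul] at h2
  rw [hdPS, PowerSeries.coeff_mk, h2]
  refine Finset.sum_congr rfl fun ij hij => ?_
  rw [Finset.HasAntidiagonal.mem_antidiagonal] at hij
  rw [PowerSeries.coeff_mul]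
  refine Finset.sum_congr rfl fun ab hab => ?_
  rw [Finset.HasAntidiagonal.mem_antidiagonal] at hab
  rw [← Polynomial.hasseDeriv_coeff, ← Polynomial.hasseDeriv_coeff, hp _ _ (by omega), hq _ _ (by omega)]

/-- `f ↦ f(X + T)` on power series -/
noncomputable def tayPS : PowerSeries F →+* PowerSeries F⸨X⸩ where
  toFun f := PowerSeries.mk fun j => ((hdPS j f : PowerSeries F) : F⸨X⸩)
  map_one' := by
    ext j : 1
    rw [PowerSeries.coeff_mk, PowerSeries.coeff_one]
    split_ifs with h
    · subst h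
      rw [show hdPS 0 (1 : PowerSeries F) = 1 by ext m; simp [hdPS], map_one]
    · rw [show hdPS j (1 : PowerSeries F) = 0 by
        ext m; simp [hdPS, PowerSeries.coeff_one, show ¬(m + j = 0) by omega, h], map_zero]
  map_mul' f g := by
    ext j : 1
    simp only [PowerSeries.coeff_mk, PowerSeries.coeff_mul, ← map_mul, ← map_sum]
    congr 1
    ext m
    rw [coeff_hdPS_mul, map_sum]
  map_zero' := by
    ext j : 1
    rw [PowerSeries.coeff_mk, show hdPS j (0 : PowerSeries F) = 0 by ext m; simp [hdPS], map_zero, map_zero]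
  map_add' f g := by
    ext j : 1
    rw [map_add, PowerSeries.coeff_mk, PowerSeries.coeff_mk, PowerSeries.coeff_mk, ← map_add]
    congr 1
    ext m
    simp [hdPS, mul_add]

lemma constantCoeff_tayPS (f : PowerSeries F) : PowerSeries.constantCoeff (tayPS f) = (f : F⸨X⸩) := by
  rw [← PowerSeries.coeff_zero_eq_constantCoeff_apply]
  show PowerSeries.coeff 0 (PowerSeries.mk fun i => ((hdPS i f : PowerSeries F) : F⸨X⸩)) = _
  rw [PowerSeries.coeff_mk, show hdPS 0 f = f by ext m; simp [hdPS]]

lemma isUnit_tayPS (f : nonZeroDivisors (PowerSeries F)) : IsUnit (tayPS (f : PowerSeries F)) := by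
  rw [PowerSeries.isUnit_iff_constantCoeff, constantCoeff_tayPS, isUnit_iff_ne_zero]
  exact fun h => nonZeroDivisors.ne_zero f.2 (HahnSeries.ofPowerSeries_injective (Γ := ℤ) (by simpa using h))

/-- `f ↦ f(X + T)` on Laurent series -/
noncomputable def tay : F⸨X⸩ →+* PowerSeries F⸨X⸩ :=
  IsLocalization.lift (M := nonZeroDivisors (PowerSeries F)) (g := tayPS) isUnit_tayPS

lemma tay_coe (f : PowerSeries F) : tay (f : F⸨X⸩) = tayPS f :=
  IsLocalization.lift_eq (M := nonZeroDivisors (PowerSeries F)) isUnit_tayPS f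

lemma constantCoeff_tay (f : F⸨X⸩) : PowerSeries.constantCoeff (tay f) = f := by
  have h : (PowerSeries.constantCoeff (R := F⸨X⸩)).comp (tay (F := F)) = RingHom.id _ :=
    IsLocalization.ringHom_ext (nonZeroDivisors (PowerSeries F)) (RingHom.ext fun g => by
      show PowerSeries.constantCoeff (tay (g : F⸨X⸩)) = _
      rw [tay_coe, constantCoeff_tayPS]; rfl)
  exact congrArg (fun r : F⸨X⸩ →+* F⸨X⸩ => r f) h

lemma tay_C (c : F) : tay (HahnSeries.C c) = PowerSeries.C (HahnSeries.C c) := by
  rw [← HahnSeries.ofPowerSeries_C, tay_coe]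
  ext j : 1
  show PowerSeries.coeff j (PowerSeries.mk fun i => ((hdPS i _ : PowerSeries F) : F⸨X⸩)) = _
  rw [PowerSeries.coeff_mk, PowerSeries.coeff_C]
  split_ifs with h
  · subst h
    congr 1; ext m; simp [hdPS]
  · rw [show hdPS j (PowerSeries.C c) = 0 by
      ext m; simp [hdPS, PowerSeries.coeff_C, show ¬(m + j = 0) by omega, h], map_zero]

lemma tay_X : tay (HahnSeries.single (1 : ℤ) (1 : F)) =
    PowerSeries.C (HahnSeries.single (1 : ℤ) (1 : F)) + PowerSeries.X := by
  rw [← HahnSeries.ofPowerSeries_X, tay_coe]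
  ext j : 1
  show PowerSeries.coeff j (PowerSeries.mk fun i => ((hdPS i _ : PowerSeries F) : F⸨X⸩)) = _
  rw [PowerSeries.coeff_mk, map_add, PowerSeries.coeff_C, PowerSeries.coeff_X]
  rcases j with _ | _ | j
  · rw [if_pos rfl, if_neg (by norm_num), add_zero, show hdPS 0 (PowerSeries.X : PowerSeries F) = PowerSeries.X by
      ext m; simp [hdPS]]
  · rw [if_neg (by norm_num), if_pos (Nat.zero_add 1), zero_add, show hdPS (0 + 1) (PowerSeries.X : PowerSeries F) = 1 by
      ext m; by_cases h : m = 0 <;> simp [hdPS, PowerSeries.coeff_X, PowerSeries.coeff_one, h], map_one]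
    all_goals simp
  · rw [if_neg (by omega), if_neg (by omega), zero_add, show hdPS (j + 2) (PowerSeries.X : PowerSeries F) = 0 by
      ext m; simp [hdPS, PowerSeries.coeff_X, show ¬(m + (j + 2) = 1) by omega], map_zero]

lemma hasseDeriv_coe (j : ℕ) (f : PowerSeries F) :
    LaurentSeries.hasseDeriv F j (f : F⸨X⸩) = ((hdPS j f : PowerSeries F) : F⸨X⸩) := by
  ext n
  rw [LaurentSeries.hasseDeriv_coeff, PowerSeries.coeff_coe, PowerSeries.coeff_coe]
  rcases le_or_gt 0 n with h | h
  · lift n to ℕ using h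
    rw [if_neg (by omega), if_neg (by omega), show ((n : ℤ) + (j : ℤ)).natAbs = n + j by omega, Int.natAbs_natCast,
      hdPS, PowerSeries.coeff_mk, ← Nat.cast_add, Ring.choose_natCast, natCast_zsmul, nsmul_eq_mul]
  · rw [if_pos h]
    split_ifs with h2
    · rw [smul_zero]
    · obtain ⟨a, ha⟩ := Int.eq_ofNat_of_zero_le (not_lt.1 h2)
      rw [ha, Ring.choose_natCast, Nat.choose_eq_zero_of_lt (by omega), Nat.cast_zero, zero_smul]

end LR

section Expansion

variable {k K F : Type*} [Field k] [Field K] [Algebra k K] [Field F] [Algebra k F]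
  (φ : K →ₐ[k] F⸨X⸩)

lemma D_exp_of_D (y x : K) (c : K) (h : KaehlerDifferential.D k K y = c • KaehlerDifferential.D k K x) :
    LocRes.D F (φ y) = φ c * LocRes.D F (φ x) := by
  letI := φ.toRingHom.toAlgebra
  haveI : IsScalarTower k K F⸨X⸩ := LocRes.isScalarTower_exp φ
  have := congrArg (LocRes.dExp φ).liftKaehlerDifferential h
  rw [map_smul, Derivation.liftKaehlerDifferential_comp_D, Derivation.liftKaehlerDifferential_comp_D] at this
  exact this

lemma D_ne_zero_of_D_exp {x : K} (h : LocRes.D F (φ x) ≠ 0) : KaehlerDifferential.D k K x ≠ 0 := fun h0 =>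
  h (by
    have := D_exp_of_D φ x x 0 (by rw [h0, smul_zero])
    rwa [map_zero, zero_mul] at this)

lemma D_exp {x : K} (hx : IsSepVar k x) {H : K →ₐ[k] PowerSeries K} (hH : LocRes.IsHasseFamily x H) (y : K) :
    LocRes.D F (φ y) = φ (LocRes.hasseD H 1 y) * LocRes.D F (φ x) :=
  D_exp_of_D φ y x _ (D_eq_smul hx hH y)

variable {P : Place k K} {φ}

lemma exp_ne_zero' (hφ : LocRes.IsExpansionAt P.1 φ) {y : K} (hy : y ≠ 0) : φ y ≠ 0 :=
  fun h => hy (φ.toRingHom.injective (h.trans (map_zero φ).symm))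

lemma v_D_uniformizer (hφ : LocRes.IsExpansionAt P.1 φ) {t : K} (ht : P.1 t = exp (-1 : ℤ)) :
    Valued.v (LocRes.D F (φ t)) = (1 : ℤᵐ⁰) := by
  have hv : Valued.v (φ t) = exp (-1 : ℤ) := by rw [hφ.1, ht]
  obtain ⟨n, u, hu, e, hn⟩ := LR.exists_unit_form (f := φ t) (fun h => by
    rw [h, map_zero] at hv; exact exp_ne_zero hv.symm)
  have hn1 : n = 1 := by
    rw [hn] at hv
    have := exp_injective hv
    omega
  subst hn1
  rw [e, ← HahnSeries.ofPowerSeries_X, ← map_mul, LocRes.D_coe]
  refine LR.v_coe_of_constantCoeff ?_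
  rw [← PowerSeries.coeff_zero_eq_constantCoeff_apply, PowerSeries.coeff_derivative,
    PowerSeries.coeff_succ_X_mul, PowerSeries.coeff_zero_eq_constantCoeff_apply]
  simpa using hu

lemma D_ne_zero_uniformizer (hφ : LocRes.IsExpansionAt P.1 φ) {t : K} (ht : P.1 t = exp (-1 : ℤ)) :
    KaehlerDifferential.D k K t ≠ 0 :=
  D_ne_zero_of_D_exp φ fun h => by
    have := v_D_uniformizer hφ ht
    rw [h, map_zero] at this
    exact zero_ne_one this

/-- order of `u dv` in terms of a uniformizer -/
lemma vDiff_eq (hφ : LocRes.IsExpansionAt P.1 φ) {t : K} (ht : P.1 t = exp (-1 : ℤ)) (hts : IsSepVar k t)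
    {H : K →ₐ[k] PowerSeries K} (hH : LocRes.IsHasseFamily t H) (u y : K) :
    LocRes.vDiff φ u y = P.1 (u * LocRes.hasseD H 1 y) := by
  rw [LocRes.vDiff, D_exp φ hts hH y, map_mul, map_mul, hφ.1, hφ.1, v_D_uniformizer hφ ht, mul_one, map_mul]

lemma ordDiff_eq (hφ : LocRes.IsExpansionAt P.1 φ) {t : K} (ht : P.1 t = exp (-1 : ℤ)) (hts : IsSepVar k t)
    {H : K →ₐ[k] PowerSeries K} (hH : LocRes.IsHasseFamily t H) (u y : K) :
    LocRes.ordDiff φ u y = P.ord (u * LocRes.hasseD H 1 y) := by
  rw [LocRes.ordDiff, vDiff_eq hφ ht hts hH]; rfl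

/-- The coefficient field of an expansion of a geometric function field is separable. -/
lemma isSeparable_coeffField_of_sepVar [FiniteDimensional k F] (hφ : LocRes.IsExpansionAt P.1 φ)
    {x : K} (hxs : IsSepVar k x) (hxD : LocRes.D F (φ x) ≠ 0) : Algebra.IsSeparable k F := by
  obtain ⟨t, ht⟩ := exists_uniformizer P
  obtain ⟨H, hH⟩ := exists_hasse hxs
  rw [← Algebra.FormallyUnramified.iff_isSeparable]
  refine ⟨?_⟩
  suffices hz : ∀ c : F, KaehlerDifferential.D k F c = 0 by
    refine (Submodule.subsingleton_iff F).1 (subsingleton_of_bot_eq_top (le_antisymm bot_le ?_))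
    rw [← KaehlerDifferential.span_range_derivation, Submodule.span_le]
    rintro _ ⟨c, rfl⟩
    exact (Submodule.mem_bot F).2 (hz c)
  intro c
  by_contra hc
  obtain ⟨ℓ, hℓ⟩ : ∃ ℓ : Ω[F⁄k] →ₗ[F] F, ℓ (KaehlerDifferential.D k F c) ≠ 0 := by
    by_contra! h
    exact hc ((Module.forall_dual_apply_eq_zero_iff F _).1 h)
  let δ : Derivation k F F := ℓ.compDer (KaehlerDifferential.D k F)
  -- the coefficientwise derivation
  let dP : PowerSeries F → PowerSeries F := fun f => PowerSeries.mk fun n => δ (PowerSeries.coeff n f)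
  have dP_mul : ∀ f g, dP (f * g) = f * dP g + g * dP f := fun f g => by
    ext n
    simp only [dP, map_add, PowerSeries.coeff_mk, PowerSeries.coeff_mul, map_sum, Derivation.leibniz,
      smul_eq_mul, Finset.sum_add_distrib]
    congr 1
    refine Finset.sum_bij' (fun a _ => (a.2, a.1)) (fun a _ => (a.2, a.1)) ?_ ?_ ?_ ?_ ?_ <;>
      simp +contextual [Finset.HasAntidiagonal.mem_antidiagonal, add_comm]
  have dP_add : ∀ f g, dP (f + g) = dP f + dP g := fun f g => by ext n; simp [dP]
  let emb : PowerSeries F →+* DualNumber F⸨X⸩ :=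
    { toFun := fun f => TrivSqZeroExt.inl ((f : F⸨X⸩)) + TrivSqZeroExt.inr ((dP f : PowerSeries F) : F⸨X⸩)
      map_one' := by
        have : dP 1 = 0 := by ext n; by_cases hn : n = 0 <;> simp [dP, PowerSeries.coeff_one, hn]
        simp [this]
      map_mul' := fun f g => by
        refine TrivSqZeroExt.ext ?_ ?_
        · simp
        · simp [dP_mul, mul_comm]
      map_zero' := by
        have : dP 0 = 0 := by ext n; simp [dP]
        simp [this]
      map_add' := fun f g => by
        refine TrivSqZeroExt.ext ?_ ?_ <;> simp [dP_add] }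
  have hemb : ∀ f : nonZeroDivisors (PowerSeries F), IsUnit (emb (f : PowerSeries F)) := fun f => by
    rw [TrivSqZeroExt.isUnit_iff_isUnit_fst]
    refine isUnit_iff_ne_zero.2 fun h => nonZeroDivisors.ne_zero f.2 (HahnSeries.ofPowerSeries_injective (Γ := ℤ) ?_)
    simpa [emb] using h
  let Emb : F⸨X⸩ →+* DualNumber F⸨X⸩ := IsLocalization.lift (M := nonZeroDivisors (PowerSeries F)) hemb
  have hEmb : ∀ f : PowerSeries F, Emb (f : F⸨X⸩) = emb f := IsLocalization.lift_eq _
  have hfst : ∀ z, (Emb z).fst = z := fun z => by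
    have h : (TrivSqZeroExt.fstHom F⸨X⸩ F⸨X⸩ F⸨X⸩).toRingHom.comp Emb = RingHom.id _ :=
      IsLocalization.ringHom_ext (nonZeroDivisors (PowerSeries F)) (RingHom.ext fun g => by
        show (Emb (g : F⸨X⸩)).fst = _
        rw [hEmb]; simp [emb])
    exact congrArg (fun r : F⸨X⸩ →+* F⸨X⸩ => r z) h
  letI := φ.toRingHom.toAlgebra
  haveI : IsScalarTower k K F⸨X⸩ := LocRes.isScalarTower_exp φ
  let Δ : Derivation k K F⸨X⸩ :=
    Derivation.mk'
      { toFun := fun y => (Emb (φ y)).snd
        map_add' := fun a b => by simp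
        map_smul' := fun r a => by
          have h0 : (Emb (φ (algebraMap k K r))).snd = 0 := by
            rw [LocRes.map_algebraMap, ← HahnSeries.ofPowerSeries_C, hEmb]
            have : dP (PowerSeries.C (algebraMap k F r)) = 0 := by
              ext n; by_cases hn : n = 0 <;> simp [dP, PowerSeries.coeff_C, hn]
            simp [emb, this]
          rw [RingHom.id_apply, Algebra.smul_def, map_mul, map_mul, TrivSqZeroExt.snd_mul, h0, hfst,
            LocRes.map_algebraMap, smul_zero, add_zero, smul_eq_mul, HahnSeries.C_mul_eq_smul, algebraMap_smul] }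
      fun a b => by
        show (Emb (φ (a * b))).snd = φ a * (Emb (φ b)).snd + φ b * (Emb (φ a)).snd
        rw [map_mul, map_mul, TrivSqZeroExt.snd_mul, hfst, hfst]
        simp [mul_comm]
  have hdiff0 : ∀ y, Δ y = φ (LocRes.hasseD H 1 y) * Δ x := fun y => by
    have := congrArg Δ.liftKaehlerDifferential (D_eq_smul hxs hH y)
    rwa [map_smul, Derivation.liftKaehlerDifferential_comp_D, Derivation.liftKaehlerDifferential_comp_D] at this
  have hdiff : ∀ y, Δ y * LocRes.D F (φ t) = LocRes.D F (φ y) * Δ t := fun y => by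
    rw [hdiff0 y, hdiff0 t, D_exp φ hxs hH y, D_exp φ hxs hH t]; ring
  have hΔ : ∀ (y : K) (g : PowerSeries F), (g : F⸨X⸩) = φ y → Δ y = (dP g : F⸨X⸩) := fun y g hg => by
    show (Emb (φ y)).snd = _
    rw [← hg, hEmb]; simp [emb]
  obtain ⟨y, hy1, hy⟩ := hφ.2.1 c
  obtain ⟨g, hg⟩ := LR.exists_coe (f := φ y) (by rw [hφ.1]; exact hy1)
  obtain ⟨gt, hgt⟩ := LR.exists_coe (f := φ t) (by rw [hφ.1, ht, ← exp_zero, exp_le_exp]; norm_num)
  obtain ⟨g1, hg1⟩ := LR.exists_coe (f := LocRes.D F (φ y)) (LR.v_D_le_one (by rw [hφ.1]; exact hy1))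
  obtain ⟨g2, hg2⟩ := LR.exists_coe (f := LocRes.D F (φ t)) (v_D_uniformizer hφ ht).le
  have hg20 : PowerSeries.constantCoeff g2 ≠ 0 := fun h0 => by
    obtain ⟨r, hr⟩ := PowerSeries.X_dvd_iff.2 h0
    have h5 := v_D_uniformizer hφ ht
    rw [← hg2, hr, PowerSeries.coe_mul, map_mul, PowerSeries.coe_X, valuation_single_zpow] at h5
    have h6 := mul_le_mul' (le_refl (exp (-1 : ℤ))) (LR.v_coe_le_one r)
    rw [h5, mul_one, ← exp_zero, exp_le_exp] at h6
    omega
  have hgt0 : PowerSeries.constantCoeff gt = 0 := by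
    rw [← PowerSeries.coeff_zero_eq_constantCoeff_apply, ← coeff_coe_powerSeries, hgt]
    exact coeff_zero_of_lt_valuation F (D := 1) (by rw [hφ.1, ht]) (by norm_num)
  have h3 := hdiff y
  rw [hΔ y g hg, hΔ t gt hgt, ← hg1, ← hg2, ← map_mul, ← map_mul] at h3
  have h4 := congrArg PowerSeries.constantCoeff (HahnSeries.ofPowerSeries_injective h3)
  have hd0 : ∀ f, PowerSeries.constantCoeff (dP f) = δ (PowerSeries.constantCoeff f) := fun f => by
    rw [← PowerSeries.coeff_zero_eq_constantCoeff_apply, PowerSeries.coeff_mk, PowerSeries.coeff_zero_eq_constantCoeff_apply]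
  rw [map_mul, map_mul, hd0, hd0, hgt0, map_zero, mul_zero, mul_eq_zero, or_iff_left hg20,
    ← PowerSeries.coeff_zero_eq_constantCoeff_apply,
    ← coeff_coe_powerSeries, hg, Nat.cast_zero, hy] at h4
  exact hℓ h4

/-- The coefficient field of an expansion of a geometric function field is separable. -/
lemma isSeparable_coeffField [FiniteDimensional k F] (hK : IsFunctionField k K) (hG : Good k K)
    (hφ : LocRes.IsExpansionAt P.1 φ) : Algebra.IsSeparable k F := by
  obtain ⟨t, ht⟩ := exists_uniformizer P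
  refine isSeparable_coeffField_of_sepVar hφ ((isSepVar_iff_D_ne_zero hK hG).2 (D_ne_zero_uniformizer hφ ht)) ?_
  intro h0
  have := v_D_uniformizer hφ ht
  rw [h0, map_zero] at this
  exact zero_ne_one this

/-- Hasse derivatives through an expansion sending `t` to `X`. -/
lemma exp_hasseD {t : K} (hts : Algebra.IsSeparable (IntermediateField.adjoin k ({t} : Set K)) K)
    (hφ : LocRes.IsExpansionAt P.1 φ) (htX : φ t = HahnSeries.single 1 1)
    {H : K →ₐ[k] PowerSeries K} (hH : LocRes.IsHasseFamily t H) {y : K} (hy : P.1 y ≤ 1) (j : ℕ) :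
    φ (LocRes.hasseD H j y) = LaurentSeries.hasseDeriv F j (φ y) := by
  let ψ₁ : K →ₐ[k] PowerSeries F⸨X⸩ := (PowerSeries.mapAlgHom φ).comp H
  let ψ₂ : K →ₐ[k] PowerSeries F⸨X⸩ :=
    { (LR.tay (F := F)).comp φ.toRingHom with
      commutes' := fun r => by
        show LR.tay (φ (algebraMap k K r)) = _
        rw [LocRes.map_algebraMap, LR.tay_C, PowerSeries.algebraMap_apply]
        congr 1
        rw [HahnSeries.algebraMap_apply', PowerSeries.algebraMap_apply, HahnSeries.ofPowerSeries_C] }
  have e : ψ₁ = ψ₂ := lift_unique hts ψ₁ ψ₂ (fun z => by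
      show PowerSeries.constantCoeff (PowerSeries.map φ.toRingHom (H z)) = PowerSeries.constantCoeff (LR.tay (F := F) (φ z))
      rw [LR.constantCoeff_tay, ← PowerSeries.coeff_zero_eq_constantCoeff_apply, PowerSeries.coeff_map,
        PowerSeries.coeff_zero_eq_constantCoeff_apply, hH.2]
      rfl) (by
      show PowerSeries.map φ.toRingHom (H t) = LR.tay (F := F) (φ t)
      rw [hH.1, map_add, PowerSeries.map_C, PowerSeries.map_X, htX, LR.tay_X]
      exact congrArg (fun z => PowerSeries.C z + PowerSeries.X) htX)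
  have h := congrArg (fun ψ : K →ₐ[k] PowerSeries F⸨X⸩ => PowerSeries.coeff j (ψ y)) e
  obtain ⟨g, hg⟩ := LR.exists_coe (f := φ y) (by rw [hφ.1]; exact hy)
  have h' : φ (LocRes.hasseD H j y) = PowerSeries.coeff j (LR.tay (F := F) (φ y)) := h
  rw [h', ← hg, LR.tay_coe, LR.hasseDeriv_coe]
  exact PowerSeries.coeff_mk j fun i => ((LR.hdPS i g : PowerSeries F) : F⸨X⸩)

end Expansion

/-- expansion in a given uniformizer -/
theorem exists_expansion_uniformizer {k K : Type*} [Field k] [IsAlgClosed k] [Field K] [Algebra k K]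
    (hK : IsFunctionField k K) (P : Place k K) {t : K} (ht : P.1 t = exp (-1 : ℤ)) :
    ∃ φ : K →ₐ[k] LaurentSeries k, LocRes.IsExpansionAt P.1 φ ∧ φ t = HahnSeries.single 1 1 := by
  have ht1 : P.1 t ≤ 1 := by rw [ht, ← exp_zero, exp_le_exp]; norm_num
  have htlt : P.1 t < 1 := by rw [ht, ← exp_zero, exp_lt_exp]; norm_num
  let D : Digit P k :=
    { a := t, c := 0, π := Polynomial.X, a_int := ht1, π_monic := Polynomial.monic_X
      π_irr := Polynomial.irreducible_X, π_c := by simp, π_sep := by simp, π_a := by simpa using ht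
      full := fun y hy => by
        obtain ⟨a, ha⟩ := exists_residue hK P hy
        exact ⟨Polynomial.C a, by simpa using ha⟩
      zero := fun R hR => by
        obtain ⟨S, hS⟩ := Polynomial.X_dvd_iff.2 (show (R - Polynomial.C (R.coeff 0)).coeff 0 = 0 by simp)
        have hSa : P.1 (Polynomial.aeval t R - algebraMap k K (R.coeff 0)) < 1 := by
          rw [← Polynomial.aeval_C (x := t), ← map_sub, hS, map_mul, Polynomial.aeval_X, map_mul]
          refine (mul_le_mul' le_rfl ?_).trans_lt ((mul_one _).trans_lt htlt)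
          rw [Polynomial.aeval_eq_sum_range]
          refine Valuation.map_sum_le _ fun i _ => (val_smul_le P _ _).trans ?_
          rw [map_pow]; exact pow_le_one₀ zero_le ht1
        have h0 : P.1 (algebraMap k K (R.coeff 0)) < 1 := by
          rw [show algebraMap k K (R.coeff 0) =
            Polynomial.aeval t R - (Polynomial.aeval t R - algebraMap k K (R.coeff 0)) by ring]
          exact lt_of_le_of_lt (Valuation.map_sub _ _ _) (max_lt hR hSa)
        show Polynomial.aeval (0 : k) R = 0
        rw [Polynomial.coe_aeval_eq_eval, ← Polynomial.coeff_zero_eq_eval_zero]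
        by_contra hc
        exact h0.ne (val_const P hc)
      surj := fun f => ⟨Polynomial.C f, by simp⟩ }
  refine ⟨D.exp', D.isExpansionAt, ?_⟩
  have h := D.exp'_coe ⟨Polynomial.aeval D.a Polynomial.X, (mem_O P).2 (D.int _)⟩
  rw [show D.expHom ⟨_, _⟩ = D.T Polynomial.X from D.expO_aeval Polynomial.X] at h
  simpa [Digit.T, D, HahnSeries.ofPowerSeries_X] using h

end Groth.Agent.FF
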