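import Groth.Agent.FF.LR.Diff
import Groth.Agent.FF.Norm

/-! The different exponent and the trace form: a local computation at one place above. -/

set_option autoImplicit false
set_option linter.style.haveILetI false
set_option linter.unusedSectionVars false

open FunFld WithZero LaurentSeries

namespace Groth.Agent.FF

variable {k K K' : Type*} [Field k] [Field K] [Field K'] [Algebra k K] [Algebra K K'] [Algebra k K']
  [IsScalarTower k K K'] [FiniteDimensional K K'] {F F' : Type*} [Field F] [Algebra k F] [Field F'] [Algebra k F']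
  {P : Place k K} {Q : Place k K'} {φ : K →ₐ[k] F⸨X⸩} {ψ : K' →ₐ[k] F'⸨X⸩} {e : ℕ}
  [Algebra F F'] [FiniteDimensional F F']

/-- The trace is the local trace at `Q` for elements small at the other places over `P`. -/
theorem trace_local (hK : IsFF k K) (hQ : IsOverWith Q P e) (hφ : LocRes.IsExpansionAt P.1 φ)
    (hψ : LocRes.IsExpansionAt Q.1 ψ) (D : LR.LiesOver φ ψ e) (hσ : D.σ.toRingHom = algebraMap F F')
    (y : K') (N : ℕ) (hyQ : Q.1 y ≤ 1)
    (hyO : ∀ Q', IsOver Q' P → Q' ≠ Q → Q'.1 y ≤ exp (-((N * ramIdx Q' P : ℕ) : ℤ))) :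
    PowerSeries.X ^ N ∣
      LR.toPS (φ (Algebra.trace K K' y)) - LR.trTo F (LR.trSum e D.u (LR.toPS (ψ y))) := by
  classical
  obtain ⟨s, b, hb⟩ := exists_local_basis (K' := K') hK P
  have hint : ∀ j, b j ∈ IntP K' P := fun j => (hb _).2 fun i => by
    rw [Module.Basis.repr_self, Finsupp.single_apply]; split_ifs <;> simp
  have hy : y ∈ IntP K' P := mem_IntP.2 fun Q' hQ' => by
    rcases eq_or_ne Q' Q with rfl | hne
    · exact hyQ
    · exact (hyO Q' hQ' hne).trans (by rw [← exp_zero, exp_le_exp]; omega)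
  have hQo : IsOver Q P := ⟨e, hQ⟩
  have hP1 : ∀ a : K, P.1 a ≤ 1 → Valued.v (φ a) ≤ (1 : ℤᵐ⁰) := fun a ha => by rw [hφ.1]; exact ha
  have hQ1 : ∀ z : K', Q.1 z ≤ 1 → Valued.v (ψ z) ≤ (1 : ℤᵐ⁰) := fun z hz => by rw [hψ.1]; exact hz
  let bf := Module.finBasis F F'
  let I := Fin e × Fin (Module.finrank F F')
  let R := PowerSeries F
  let Crd : K' → I → R := fun z p => LR.repS bf (LR.coord e D.u (LR.toPS (ψ z)) p.1) p.2
  let T : Matrix I s R := Matrix.of fun p j => Crd (b j) p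
  have hmap : ∀ (a : K), P.1 a ≤ 1 → LR.toPS (ψ (algebraMap K K' a)) =
      LR.io (RingHom.id F') D.u D.he (PowerSeries.map (algebraMap F F') (LR.toPS (φ a))) := by
    intro a ha
    rw [D.map, ← LR.coe_toPS (hP1 a ha), LR.ioL_coe, LR.toPS_coe, LR.toPS_coe, LR.io_id_apply, LR.io_apply, hσ]
  have hlin : ∀ (c : s → K), (∀ j, P.1 (c j) ≤ 1) → ∀ p : I,
      Crd (∑ j, c j • b j) p = ∑ j, T p j * LR.toPS (φ (c j)) := by
    intro c hc p
    simp only [Crd, T, Matrix.of_apply, Algebra.smul_def, map_sum, map_mul, LR.toPS_sum]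
    rw [LR.coord_finset_sum D.he D.hu, LR.repS_sum]
    refine Finset.sum_congr rfl fun j _ => ?_
    rw [LR.toPS_mul (hQ1 _ ((val_algebraMap_le_one_iff hQo _).2 (hc j))) (hQ1 _ (mem_IntP.1 (hint j) Q hQo)),
      hmap _ (hc j), LR.coord_io_mul D.he D.hu, LR.repS_map_mul, mul_comm]
  -- elements with the standard leading terms
  have hz : ∀ p : I, ∃ z ∈ IntP K' P,
      PowerSeries.X ^ e ∣ LR.toPS (ψ z) - PowerSeries.X ^ (p.1 : ℕ) * PowerSeries.C (bf p.2) := by
    intro p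
    obtain ⟨a0, ha0, hdvd⟩ := LR.exists_approx hψ (PowerSeries.X ^ (p.1 : ℕ) * PowerSeries.C (bf p.2)) e
    obtain ⟨z, hz⟩ := approx (finite_over (K' := K') hK P).toFinset
      (fun Q' => if Q' = Q then a0 else 0) (fun Q' => if Q' = Q then -(e : ℤ) else 0)
    have hzQ : Q.1 (z - a0) ≤ exp (-(e : ℤ)) := by
      simpa using hz Q ((finite_over (K' := K') hK P).mem_toFinset.2 hQo)
    have hzQ1 : Q.1 z ≤ 1 := by
      rw [show z = (z - a0) + a0 by ring]
      exact Valuation.map_add_le _ (hzQ.trans (by rw [← exp_zero, exp_le_exp]; omega)) ha0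
    refine ⟨z, mem_IntP.2 fun Q' hQ' => ?_, ?_⟩
    · rcases eq_or_ne Q' Q with rfl | hne
      · exact hzQ1
      · simpa [hne] using hz Q' ((finite_over (K' := K') hK P).mem_toFinset.2 hQ')
    · rw [show LR.toPS (ψ z) - PowerSeries.X ^ (p.1 : ℕ) * PowerSeries.C (bf p.2) =
        (LR.toPS (ψ z) - LR.toPS (ψ a0)) + (LR.toPS (ψ a0) - PowerSeries.X ^ (p.1 : ℕ) * PowerSeries.C (bf p.2)) by
        ring]
      refine dvd_add ?_ hdvd
      rw [← LR.v_coe_le_iff, PowerSeries.coe_sub, LR.coe_toPS (hQ1 z hzQ1), LR.coe_toPS (hQ1 a0 ha0), ← map_sub,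
        hψ.1]
      exact hzQ
  choose z hzI hzdvd using hz
  let C : Matrix s I R := Matrix.of fun j i => LR.toPS (φ (b.repr (z i) j))
  have hTC : IsUnit (T * C).det := by
    rw [PowerSeries.isUnit_iff_constantCoeff, RingHom.map_det]
    suffices hone : (PowerSeries.constantCoeff (R := F)).mapMatrix (T * C) = 1 by
      rw [hone, Matrix.det_one]; exact isUnit_one
    ext p i
    have h1 : (T * C) p i = Crd (z i) p := by
      conv_rhs => rw [← b.sum_repr (z i)]
      rw [hlin _ ((hb _).1 (hzI i)) p, Matrix.mul_apply]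
      rfl
    rw [RingHom.mapMatrix_apply, Matrix.map_apply, h1]
    simp only [Crd, LR.repS, ← PowerSeries.coeff_zero_eq_constantCoeff_apply, PowerSeries.coeff_mk, LR.coord,
      Function.iterate_zero, id]
    have h2 := PowerSeries.X_pow_dvd_iff.1 (hzdvd i) (p.1 : ℕ) p.1.2
    rw [map_sub, sub_eq_zero] at h2
    rw [h2, PowerSeries.coeff_mul_C, PowerSeries.coeff_X_pow, ite_mul, one_mul, zero_mul]
    rcases p with ⟨l, a⟩
    rcases i with ⟨l', a'⟩
    by_cases hl : l = l'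
    · subst hl
      simp [Matrix.one_apply, bf.repr_self, Finsupp.single_apply, eq_comm, Prod.ext_iff]
    · simp [Matrix.one_apply, hl, Fin.val_inj, Prod.ext_iff]
  let Rm : Matrix s I R := C * (T * C)⁻¹
  have hTR : T * Rm = 1 := by rw [← Matrix.mul_assoc, Matrix.mul_nonsing_inv _ hTC]
  let M : Matrix s s R := Matrix.of fun i j => LR.toPS (φ (b.repr (y * b j) i))
  have hMi : ∀ i j, P.1 (b.repr (y * b j) i) ≤ 1 := fun i j =>
    (hb _).1 (mul_mem_Loc hy (hint j)) i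
  let Db : Matrix I I R := Matrix.of fun p p' =>
    LR.repS bf (LR.coord e D.u (LR.toPS (ψ y) * PowerSeries.X ^ (p'.1 : ℕ)) p.1 * PowerSeries.C (bf p'.2)) p.2
  have hTM : T * M = Db * T := by
    ext1 p j
    have h1 : Crd (y * b j) p = (T * M) p j := by
      conv_lhs => rw [← b.sum_repr (y * b j)]
      rw [hlin _ (fun i => hMi i j) p, Matrix.mul_apply]
      rfl
    rw [← h1, Matrix.mul_apply]
    simp only [Crd, Db, T, Matrix.of_apply]
    rw [map_mul, LR.toPS_mul (hQ1 y hyQ) (hQ1 _ (mem_IntP.1 (hint j) Q hQo)), LR.coord_mul D.he D.hu,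
      LR.repS_sum, Fintype.sum_prod_type]
    refine Finset.sum_congr rfl fun l _ => ?_
    rw [mul_comm (LR.coord _ _ _ l), LR.repS_mul]
    exact Finset.sum_congr rfl fun a _ => mul_comm _ _
  have htrD : Db.trace = LR.trTo F (LR.trSum e D.u (LR.toPS (ψ y))) := by
    rw [Matrix.trace, LR.trSum, LR.trTo_sum, Fintype.sum_prod_type]
    refine Finset.sum_congr rfl fun l _ => ?_
    rw [← LR.sum_repS_diag bf]
    simp [Db]
  have htrM : M.trace = LR.toPS (φ (Algebra.trace K K' y)) := by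
    rw [Algebra.trace_eq_matrix_trace b, Matrix.trace, Matrix.trace, map_sum, LR.toPS_sum]
    simp [M, Matrix.diag_apply, Algebra.leftMulMatrix_eq_repr_mul]
  have h2 : Db.trace = (M * (Rm * T)).trace := by
    calc Db.trace = (Db * (T * Rm)).trace := by rw [hTR, Matrix.mul_one]
      _ = (T * (M * Rm)).trace := by rw [← Matrix.mul_assoc, ← hTM, Matrix.mul_assoc]
      _ = (M * Rm * T).trace := Matrix.trace_mul_comm _ _
      _ = _ := by rw [Matrix.mul_assoc]
  set E : Matrix s s R := 1 - Rm * T with hE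
  have hTE : T * E = 0 := by
    rw [hE, Matrix.mul_sub, Matrix.mul_one, ← Matrix.mul_assoc, hTR, Matrix.one_mul, sub_self]
  have hkey : ∀ i, PowerSeries.X ^ N ∣ (M * E) i i := by
    intro i
    choose a ha1 ha2 using fun j => LR.exists_approx hφ (E j i) N
    set zz := ∑ j, a j • b j with hzz
    have hzzI : zz ∈ IntP K' P := Submodule.sum_mem _ fun j _ => smul_mem_Loc (ha1 j) (hint j)
    have hCrd : ∀ p, PowerSeries.X ^ N ∣ Crd zz p := by
      intro p
      rw [hzz, hlin a ha1 p]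
      have h0 : ∑ j, T p j * E j i = 0 := by
        have := congrFun (congrFun hTE p) i
        rwa [Matrix.mul_apply] at this
      rw [← sub_zero (∑ j, T p j * LR.toPS (φ (a j))), ← h0, ← Finset.sum_sub_distrib]
      exact Finset.dvd_sum fun j _ => by rw [← mul_sub]; exact Dvd.dvd.mul_left (ha2 j) _
    have hzzQ : Q.1 zz ≤ exp (-((N * e : ℕ) : ℤ)) := by
      rw [← hψ.1, ← LR.coe_toPS (hQ1 zz (mem_IntP.1 hzzI Q hQo)), LR.v_coe_le_iff,
        ← LR.sum_coord D.he D.hu (LR.toPS (ψ zz))]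
      refine Finset.dvd_sum fun l _ => Dvd.dvd.mul_right ?_ _
      obtain ⟨r, hr⟩ : PowerSeries.X ^ N ∣ LR.coord e D.u (LR.toPS (ψ zz)) l := by
        rw [PowerSeries.X_pow_dvd_iff]
        intro q hq
        apply bf.repr.injective
        ext a'
        have h := PowerSeries.X_pow_dvd_iff.1 (hCrd (l, a')) q hq
        simp only [Crd, LR.repS, PowerSeries.coeff_mk] at h
        rw [h, map_zero, Finsupp.coe_zero, Pi.zero_apply]
      rw [hr, map_mul, map_pow, LR.io_X, LR.sS, mul_pow, ← pow_mul, mul_comm N e, mul_assoc]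
      exact dvd_mul_right _ _
    obtain ⟨t, ht⟩ := exists_uniformizer P
    have hsmall : (t ^ N)⁻¹ • (y * zz) ∈ IntP K' P := by
      rw [mem_IntP]
      intro Q' hQ'
      rw [Algebra.smul_def, map_mul, map_mul, (isOverWith_ramIdx hQ') (t ^ N)⁻¹, map_inv₀, map_pow, ht,
        ← exp_nsmul, ← exp_neg, ← exp_nsmul]
      have hle : Q'.1 y * Q'.1 zz ≤ exp (-((N * ramIdx Q' P : ℕ) : ℤ)) := by
        rcases eq_or_ne Q' Q with rfl | hne
        · rw [ramIdx_eq hQ]
          exact (mul_le_mul' hyQ hzzQ).trans_eq (one_mul _)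
        · exact (mul_le_mul' (hyO Q' hQ' hne) (mem_IntP.1 hzzI Q' hQ')).trans_eq (mul_one _)
      refine (mul_le_mul' le_rfl hle).trans ?_
      rw [← exp_add, ← exp_zero, exp_le_exp]
      simp only [nsmul_eq_mul, Nat.cast_mul]
      ring_nf
      omega
    have hrep := (hb _).1 hsmall i
    rw [map_smul, Finsupp.smul_apply, smul_eq_mul, map_mul, map_inv₀, map_pow, ht, ← exp_nsmul] at hrep
    have hval : P.1 (b.repr (y * zz) i) ≤ exp (-(N : ℤ)) := by
      calc P.1 (b.repr (y * zz) i)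
          = exp (N • (-1 : ℤ)) * ((exp (N • (-1 : ℤ)))⁻¹ * P.1 (b.repr (y * zz) i)) := by
            rw [← mul_assoc, mul_inv_cancel₀ exp_ne_zero, one_mul]
        _ ≤ exp (N • (-1 : ℤ)) * 1 := mul_le_mul' le_rfl hrep
        _ = exp (-(N : ℤ)) := by rw [mul_one]; simp
    have hsum : b.repr (y * zz) i = ∑ j, a j * b.repr (y * b j) i := by
      rw [hzz, Finset.mul_sum, map_sum, Finsupp.coe_finsetSum, Finset.sum_apply]
      refine Finset.sum_congr rfl fun j _ => ?_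
      rw [mul_smul_comm, map_smul, Finsupp.smul_apply, smul_eq_mul]
    have h3 : PowerSeries.X ^ N ∣ LR.toPS (φ (b.repr (y * zz) i)) := by
      rw [← LR.v_coe_le_iff, LR.coe_toPS (hP1 _ (hval.trans (by rw [← exp_zero, exp_le_exp]; omega))), hφ.1]
      exact hval
    rw [hsum, map_sum, LR.toPS_sum] at h3
    rw [Matrix.mul_apply]
    rw [← sub_add_cancel (∑ j, M i j * E j i) (∑ j, LR.toPS (φ (a j * b.repr (y * b j) i)))]
    refine dvd_add ?_ h3
    rw [← Finset.sum_sub_distrib]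
    refine Finset.dvd_sum fun j _ => ?_
    rw [map_mul, LR.toPS_mul (hP1 _ (ha1 j)) (hP1 _ (hMi i j)), mul_comm, ← dvd_neg, neg_sub]
    simp only [M, Matrix.of_apply]
    rw [← sub_mul]
    exact Dvd.dvd.mul_right (ha2 j) _
  rw [← htrM, ← htrD, h2, ← Matrix.trace_sub, ← Matrix.mul_one M]
  rw [Matrix.mul_assoc M 1, Matrix.one_mul, ← Matrix.mul_sub, ← hE]
  exact Finset.dvd_sum fun i _ => hkey i

section Dual

variable (hK : IsFF k K) (hQ : IsOverWith Q P e) (hφ : LocRes.IsExpansionAt P.1 φ)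
    (hψ : LocRes.IsExpansionAt Q.1 ψ) (D : LR.LiesOver φ ψ e) (hσ : D.σ.toRingHom = algebraMap F F')
    {d : ℤ} (hd : LR.dVal D = exp (-d))
include hK hQ hφ hψ hσ hd

lemma coeff_trace_eq {t : K} (ht : P.1 t = exp (-1 : ℤ)) (w : K') (m : ℕ)
    (hwQ : Q.1 w ≤ exp ((e * m : ℕ) : ℤ))
    (hwO : ∀ Q', IsOver Q' P → Q' ≠ Q → Q'.1 w ≤ 1) {q : ℕ} (hq : q < m) :
    PowerSeries.coeff q (LR.toPS (φ (t ^ m * Algebra.trace K K' w))) =
      Algebra.trace F F' ((ψ w * (ψ (algebraMap K K' (t ^ m)) *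
        ((PowerSeries.derivative F' (LR.sS e D.u) : PowerSeries F') : F'⸨X⸩) *
        (((LR.sS e D.u : PowerSeries F') : F'⸨X⸩) ^ (q + 1))⁻¹)).coeff (-1)) := by
  set w' := algebraMap K K' (t ^ m) * w with hw'
  have hval : ∀ Q', IsOver Q' P →
      Q'.1 w' = exp (-((m * ramIdx Q' P : ℕ) : ℤ)) * Q'.1 w := by
    intro Q' hQ'
    rw [hw', map_mul, (isOverWith_ramIdx hQ') (t ^ m), map_pow, ht, ← exp_nsmul, ← exp_nsmul]
    congr 2
    simp only [nsmul_eq_mul, Nat.cast_mul]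
    ring
  have h1 : Q.1 w' ≤ 1 := by
    rw [hval Q ⟨e, hQ⟩, ramIdx_eq hQ]
    refine (mul_le_mul' le_rfl hwQ).trans_eq ?_
    rw [← exp_add, mul_comm m e, neg_add_cancel, exp_zero]
  have h2 := trace_local hK hQ hφ hψ D hσ w' m h1 (fun Q' hQ' hne => by
    rw [hval Q' hQ']
    exact (mul_le_mul' le_rfl (hwO Q' hQ' hne)).trans_eq (mul_one _))
  have h3 := PowerSeries.X_pow_dvd_iff.1 h2 q hq
  rw [map_sub, sub_eq_zero] at h3
  rw [show t ^ m * Algebra.trace K K' w = Algebra.trace K K' w' by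
    rw [hw', ← Algebra.smul_def, map_smul, smul_eq_mul], h3, LR.trTo, PowerSeries.coeff_mk,
    LR.coeff_trSum D.he D.hu]
  congr 2
  rw [PowerSeries.coe_mul, LR.coe_toPS (by rw [hψ.1]; exact h1), hw', map_mul]
  ring

/-- elements of value `≤ exp d` at `Q` and integral elsewhere have integral trace -/
theorem trace_le_one_of_le (w : K') (hwQ : Q.1 w ≤ exp d)
    (hwO : ∀ Q', IsOver Q' P → Q' ≠ Q → Q'.1 w ≤ 1) : P.1 (Algebra.trace K K' w) ≤ 1 := by
  obtain ⟨t, ht⟩ := exists_uniformizer P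
  obtain ⟨m, hm⟩ : ∃ m : ℕ, d ≤ ((e * m : ℕ) : ℤ) := ⟨d.toNat, by
    have := D.he; push_cast; nlinarith [Int.self_le_toNat d]⟩
  have hval : Valued.v (ψ (algebraMap K K' (t ^ m))) = exp (-((e * m : ℕ) : ℤ)) := by
    rw [hψ.1, hQ (t ^ m), map_pow, ht, ← exp_nsmul, ← exp_nsmul]
    congr 1
    simp
  have hsv : Valued.v ((LR.sS e D.u : PowerSeries F') : F'⸨X⸩) = exp (-(e : ℤ)) := by
    rw [LR.sS, PowerSeries.coe_mul, map_mul, LR.v_coe_of_constantCoeff D.hu, mul_one, PowerSeries.coe_pow,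
      map_pow, PowerSeries.coe_X, valuation_single_zpow, ← exp_nsmul]
    simp
  have hzero : ∀ q < m, PowerSeries.coeff q (LR.toPS (φ (t ^ m * Algebra.trace K K' w))) = 0 := by
    intro q hq
    rw [coeff_trace_eq hK hQ hφ hψ D hσ hd ht w m (hwQ.trans (exp_le_exp.2 hm)) hwO hq,
      LR.res_of_le_one, map_zero]
    rw [map_mul, map_mul, map_mul, hψ.1, hval, map_inv₀, map_pow, hsv, ← exp_nsmul, ← exp_neg]
    refine (mul_le_mul' hwQ le_rfl).trans ?_
    rw [show Valued.v ((PowerSeries.derivative F' (LR.sS e D.u) : PowerSeries F') : F'⸨X⸩) = exp (-d) from hd,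
      ← exp_add, ← exp_add, ← exp_add, ← exp_zero, exp_le_exp]
    simp only [nsmul_eq_mul]
    push_cast
    have : (e : ℤ) * (q + 1) ≤ e * m := by
      refine mul_le_mul_of_nonneg_left ?_ (by omega)
      exact_mod_cast hq
    linarith
  by_contra hlt
  rw [not_le] at hlt
  set T := Algebra.trace K K' w
  have hT0 : P.1 T ≠ 0 := (zero_lt_one.trans hlt).ne'
  have hmem : Q.1 (algebraMap K K' (t ^ m) * w) ≤ 1 := by
    rw [map_mul, ← hψ.1, hval]
    refine (mul_le_mul' le_rfl hwQ).trans ?_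
    rw [← exp_add, ← exp_zero, exp_le_exp]; omega
  have hint : P.1 (t ^ m * T) ≤ 1 := by
    rw [show t ^ m * T = Algebra.trace K K' (algebraMap K K' (t ^ m) * w) by
      rw [← Algebra.smul_def, map_smul, smul_eq_mul]]
    refine trace_val_le hK (mem_IntP.2 fun Q' hQ' => ?_)
    rcases eq_or_ne Q' Q with rfl | hne
    · exact hmem
    · rw [map_mul]
      refine mul_le_one' ((val_algebraMap_le_one_iff hQ' _).2 ?_) (hwO Q' hQ' hne)
      rw [map_pow, ht, ← exp_nsmul, ← exp_zero, exp_le_exp]; simp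
  have h4 : P.1 (t ^ m * T) ≤ exp (-(m : ℤ)) := by
    rw [← hφ.1, ← LR.coe_toPS (f := φ (t ^ m * T)) (by rw [hφ.1]; exact hint), LR.v_coe_le_iff,
      PowerSeries.X_pow_dvd_iff]
    exact hzero
  rw [map_mul, map_pow, ht, ← exp_nsmul, ← exp_log hT0, ← exp_add, exp_le_exp] at h4
  rw [← exp_log hT0] at hlt
  have hlt' := exp_lt_exp.1 (exp_zero.trans_lt hlt)
  simp at h4
  omega

/-- the bound is sharp -/
theorem exists_trace_gt [Algebra.IsSeparable F F'] (y : K') (hy : exp d < Q.1 y) :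
    ∃ z ∈ IntP K' P, (∀ Q', IsOver Q' P → Q' ≠ Q → Q'.1 z ≤ exp (-(max (log (Q'.1 y)) 0))) ∧
      ¬ P.1 (Algebra.trace K K' (y * z)) ≤ 1 := by
  classical
  obtain ⟨t, ht⟩ := exists_uniformizer P
  have hy0 : Q.1 y ≠ 0 := (exp_pos.trans hy).ne'
  set n := log (Q.1 y) with hn
  have hvy : Q.1 y = exp n := (exp_log hy0).symm
  have hdn : d < n := by rwa [hvy, exp_lt_exp] at hy
  obtain ⟨m0, hm0⟩ : ∃ m0 : ℕ, n ≤ ((e * (m0 + 1) : ℕ) : ℤ) := ⟨n.toNat, by
    have := D.he; push_cast; nlinarith [Int.self_le_toNat n]⟩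
  set m := m0 + 1
  have hval : Valued.v (ψ (algebraMap K K' (t ^ m))) = exp (-((e * m : ℕ) : ℤ)) := by
    rw [hψ.1, hQ (t ^ m), map_pow, ht, ← exp_nsmul, ← exp_nsmul]
    congr 1
    simp
  have hsv : Valued.v ((LR.sS e D.u : PowerSeries F') : F'⸨X⸩) = exp (-(e : ℤ)) := by
    rw [LR.sS, PowerSeries.coe_mul, map_mul, LR.v_coe_of_constantCoeff D.hu, mul_one, PowerSeries.coe_pow,
      map_pow, PowerSeries.coe_X, valuation_single_zpow, ← exp_nsmul]
    simp
  obtain ⟨c, hc⟩ : ∃ c : F', Algebra.trace F F' c ≠ 0 := by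
    by_contra! h
    exact Algebra.trace_ne_zero F F' (LinearMap.ext h)
  set f : F'⸨X⸩ := ψ y * (ψ (algebraMap K K' (t ^ m)) *
    ((PowerSeries.derivative F' (LR.sS e D.u) : PowerSeries F') : F'⸨X⸩) *
    (((LR.sS e D.u : PowerSeries F') : F'⸨X⸩) ^ (m0 + 1))⁻¹) with hf
  have hfv : Valued.v f = exp (n - d) := by
    rw [hf, map_mul, map_mul, map_mul, hψ.1, hvy, hval, map_inv₀, map_pow, hsv, ← exp_nsmul, ← exp_neg,
      show Valued.v ((PowerSeries.derivative F' (LR.sS e D.u) : PowerSeries F') : F'⸨X⸩) = exp (-d) from hd,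
      ← exp_add, ← exp_add, ← exp_add]
    congr 1
    simp only [nsmul_eq_mul, m]
    push_cast; ring
  have hf0 : f ≠ 0 := fun h => exp_ne_zero (a := n - d) (by rw [← hfv, h, map_zero])
  set g : F'⸨X⸩ := HahnSeries.single (-1 : ℤ) c / f
  have hc0 : c ≠ 0 := fun h => hc (by rw [h, map_zero])
  have hgv : Valued.v g ≤ (1 : ℤᵐ⁰) := by
    rw [map_div₀, LR.v_single hc0, hfv, div_eq_mul_inv, ← exp_neg, ← exp_add, ← exp_zero, exp_le_exp]
    omega
  obtain ⟨a0, ha0, hdvd⟩ := LR.exists_approx hψ (LR.toPS g) (n - d).toNat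
  obtain ⟨z, hz⟩ := approx (finite_over (K' := K') hK P).toFinset
      (fun Q' => if Q' = Q then a0 else 0)
      (fun Q' => if Q' = Q then -((n - d).toNat : ℤ) else -(max (log (Q'.1 y)) 0))
  have hzQ : Q.1 (z - a0) ≤ exp (-((n - d).toNat : ℤ)) := by
    simpa using hz Q ((finite_over (K' := K') hK P).mem_toFinset.2 ⟨e, hQ⟩)
  have hzQ1 : Q.1 z ≤ 1 := by
    rw [show z = (z - a0) + a0 by ring]
    exact Valuation.map_add_le _ (hzQ.trans (by rw [← exp_zero, exp_le_exp]; omega)) ha0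
  have hzO : ∀ Q', IsOver Q' P → Q' ≠ Q → Q'.1 z ≤ exp (-(max (log (Q'.1 y)) 0)) := by
    intro Q' hQ' hne
    simpa [hne] using hz Q' ((finite_over (K' := K') hK P).mem_toFinset.2 hQ')
  have hzI : z ∈ IntP K' P := mem_IntP.2 fun Q' hQ' => by
    rcases eq_or_ne Q' Q with rfl | hne
    · exact hzQ1
    · exact (hzO Q' hQ' hne).trans ((exp_le_exp.2 (by omega)).trans_eq exp_zero)
  refine ⟨z, hzI, hzO, fun hle => hc ?_⟩
  have h1 : Q.1 (y * z) ≤ exp ((e * m : ℕ) : ℤ) := by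
    rw [map_mul, hvy]
    exact (mul_le_mul' (exp_le_exp.2 hm0) hzQ1).trans_eq (mul_one _)
  have h2 : ∀ Q', IsOver Q' P → Q' ≠ Q → Q'.1 (y * z) ≤ 1 := by
    intro Q' hQ' hne
    rw [map_mul]
    refine (mul_le_mul' le_rfl (hzO Q' hQ' hne)).trans ?_
    rcases eq_or_ne (Q'.1 y) 0 with h0 | h0
    · simp [h0]
    · rw [← exp_log h0, ← exp_add, log_exp]
      exact (exp_le_exp.2 (by omega)).trans_eq exp_zero
  have h3 := coeff_trace_eq hK hQ hφ hψ D hσ hd ht (y * z) m h1 h2 (q := m0) (Nat.lt_succ_self m0)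
  have h4 : PowerSeries.X ^ m ∣ LR.toPS (φ (t ^ m * Algebra.trace K K' (y * z))) := by
    rw [← LR.v_coe_le_iff, LR.coe_toPS (by
      rw [hφ.1, map_mul, map_pow, ht]
      exact mul_le_one' (pow_le_one₀ zero_le (by rw [← exp_zero, exp_le_exp]; norm_num)) hle), hφ.1, map_mul,
      map_pow, ht, ← exp_nsmul]
    refine (mul_le_mul' le_rfl hle).trans_eq ?_
    simp
  rw [PowerSeries.X_pow_dvd_iff.1 h4 m0 (Nat.lt_succ_self m0)] at h3
  rw [h3]
  congr 1
  rw [show ψ (y * z) * (ψ (algebraMap K K' (t ^ m)) *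
      ((PowerSeries.derivative F' (LR.sS e D.u) : PowerSeries F') : F'⸨X⸩) *
      (((LR.sS e D.u : PowerSeries F') : F'⸨X⸩) ^ (m0 + 1))⁻¹) = f * g + f * (ψ z - g) by
    rw [hf, map_mul]; ring, HahnSeries.coeff_add, mul_div_cancel₀ _ hf0, HahnSeries.coeff_single_same,
    LR.res_of_le_one (f := f * (ψ z - g)), add_zero]
  rw [map_mul, hfv]
  have h5 : Valued.v (ψ a0 - g) ≤ exp (-((n - d).toNat : ℤ)) := by
    have := (LR.v_coe_le_iff (LR.toPS (ψ a0) - LR.toPS g) _).2 hdvd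
    rwa [PowerSeries.coe_sub, LR.coe_toPS (by rw [hψ.1]; exact ha0), LR.coe_toPS hgv] at this
  have h6 : Valued.v (ψ z - g) ≤ exp (-((n - d).toNat : ℤ)) := by
    rw [show ψ z - g = ψ (z - a0) + (ψ a0 - g) by rw [map_sub]; ring]
    exact Valuation.map_add_le _ (by rw [hψ.1]; exact hzQ) h5
  refine (mul_le_mul' le_rfl h6).trans ?_
  rw [← exp_add, ← exp_zero, exp_le_exp]
  omega

end Dual

end Groth.Agent.FF
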