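import Groth.Agent.FF.LR.Different
import Mathlib.RingTheory.Valuation.Extension

/-! Different exponent versus derivatives of minimal polynomials. -/

set_option autoImplicit false
set_option linter.style.haveILetI false
set_option linter.unusedSectionVars false

open FunFld WithZero LaurentSeries IntermediateField

namespace Groth.Agent.FF

section Euler

variable {O : Type*} {K K' : Type*} [CommRing O] [IsDomain O] [IsIntegrallyClosed O] [Field K] [Field K']
  [Algebra O K] [IsFractionRing O K] [Algebra K K'] [FiniteDimensional K K'] [Algebra.IsSeparable K K']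
  [Algebra O K'] [IsScalarTower O K K']

lemma trace_aeval_div_derivative {y : K'} (hy : Algebra.adjoin K {y} = ⊤) (hyi : IsIntegral O y)
    {r : K'} (hr : r ∈ Algebra.adjoin O ({y} : Set K')) :
    ∃ c : O, Algebra.trace K K' (r / Polynomial.aeval y (Polynomial.derivative (minpoly K y))) =
      algebraMap O K c := by
  rw [Algebra.adjoin_singleton_eq_range_aeval] at hr
  obtain ⟨q, rfl⟩ := hr
  have hmap : (minpoly O y).map (algebraMap O K) = minpoly K y :=
    (minpoly.isIntegrallyClosed_eq_field_fractions' K hyi).symm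
  have hd : (minpoly K y).natDegree = (minpoly O y).natDegree := by
    rw [← hmap, (minpoly.monic hyi).natDegree_map]
  have hpos : 0 < (minpoly O y).natDegree := minpoly.natDegree_pos hyi
  have hlt : (q %ₘ minpoly O y).natDegree < (minpoly O y).natDegree :=
    Polynomial.natDegree_modByMonic_lt q (minpoly.monic hyi) (fun h => by rw [h] at hpos; simp at hpos)
  have hrem : Polynomial.aeval y q = Polynomial.aeval y (q %ₘ minpoly O y) := by
    conv_lhs => rw [← Polynomial.modByMonic_add_div q (minpoly O y)]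
    rw [map_add, map_mul, minpoly.aeval, zero_mul, add_zero]
  refine ⟨(q %ₘ minpoly O y).coeff ((minpoly O y).natDegree - 1), ?_⟩
  show Algebra.trace K K' (Polynomial.aeval y q / _) = _
  rw [hrem, Polynomial.aeval_eq_sum_range' hlt, Finset.sum_div, map_sum,
    Finset.sum_eq_single ((minpoly O y).natDegree - 1)]
  · rw [smul_div_assoc, ← IsScalarTower.algebraMap_smul K, map_smul,
      trace_pow_div_derivative hy rfl (by omega), if_pos (by omega), smul_eq_mul, mul_one]
  · intro i hi hne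
    have := Finset.mem_range.1 hi
    rw [smul_div_assoc, ← IsScalarTower.algebraMap_smul K, map_smul,
      trace_pow_div_derivative hy rfl (by omega), if_neg (by omega), smul_zero]
  · intro h; exact absurd (Finset.mem_range.2 (by omega)) h

lemma derivative_mul_mem_adjoin {y : K'} (hy : Algebra.adjoin K {y} = ⊤) (hyi : IsIntegral O y)
    {w : K'} (hw : ∀ i : ℕ, ∃ c : O, Algebra.trace K K' (w * y ^ i) = algebraMap O K c) :
    Polynomial.aeval y (Polynomial.derivative (minpoly K y)) * w ∈ Algebra.adjoin O ({y} : Set K') := by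
  classical
  have hne : Polynomial.aeval y (Polynomial.derivative (minpoly K y)) ≠ 0 :=
    (Algebra.IsSeparable.isSeparable K y).aeval_derivative_ne_zero (minpoly.aeval _ _)
  let pb := PowerBasis.ofAdjoinEqTop (Algebra.IsIntegral.isIntegral y) hy
  have hgen : pb.gen = y := PowerBasis.ofAdjoinEqTop_gen _ _
  choose c hc using hw
  conv => enter [2]; rw [← pb.basis.traceDual.sum_repr w]
  rw [Finset.mul_sum]
  refine sum_mem fun i _ => ?_
  rw [Module.Basis.traceDual_repr_apply, Module.Basis.traceDual_powerBasis_eq, hgen, Algebra.traceForm_apply,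
    pb.basis_eq_pow, hgen, hc, algebraMap_smul, mul_smul_comm, mul_div_cancel₀ _ hne,
    ← minpolyDiv_eq_of_isIntegrallyClosed K hyi]
  exact Subalgebra.smul_mem _ (coeff_minpolyDiv_mem_adjoin y i) _

end Euler

variable {k K K' : Type*} [Field k] [Field K] [Field K'] [Algebra k K] [Algebra K K'] [Algebra k K']
  [IsScalarTower k K K'] [FiniteDimensional K K'] {F F' : Type*} [Field F] [Algebra k F] [Field F'] [Algebra k F']
  {P : Place k K} {Q : Place k K'} {φ : K →ₐ[k] F⸨X⸩} {ψ : K' →ₐ[k] F'⸨X⸩} {e : ℕ}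

lemma mem_IntP_of_mem_adjoin (hK : IsFF k K) [Algebra P.O K'] [IsScalarTower P.O K K'] {y : K'}
    (hyi : IsIntegral P.O y) {r : K'} (hr : r ∈ Algebra.adjoin P.O ({y} : Set K')) : r ∈ IntP K' P :=
  (isIntegral_iff_mem_IntP hK r).1
    (Algebra.adjoin_le (S := integralClosure P.O K') (Set.singleton_subset_iff.2 hyi) hr)

section Main

variable (hK : IsFF k K) (hQ : IsOverWith Q P e) (hφ : LocRes.IsExpansionAt P.1 φ)
    (hψ : LocRes.IsExpansionAt Q.1 ψ) (D : LR.LiesOver φ ψ e) (hsur : Function.Surjective D.σ)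
    {d : ℤ} (hd : LR.dVal D = exp (-d))
include hK hQ hφ hψ hsur hd

lemma trace_le_one' (w : K') (hwQ : Q.1 w ≤ exp d)
    (hwO : ∀ Q', IsOver Q' P → Q' ≠ Q → Q'.1 w ≤ 1) : P.1 (Algebra.trace K K' w) ≤ 1 := by
  letI : Algebra F F' := D.σ.toRingHom.toAlgebra
  haveI : FiniteDimensional F F' := Module.Finite.of_surjective (Algebra.linearMap F F') hsur
  exact trace_le_one_of_le hK hQ hφ hψ D rfl hd w hwQ hwO

lemma exists_trace_gt' (y : K') (hy : exp d < Q.1 y) :
    ∃ z ∈ IntP K' P, (∀ Q', IsOver Q' P → Q' ≠ Q → Q'.1 z ≤ exp (-(max (log (Q'.1 y)) 0))) ∧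
      ¬ P.1 (Algebra.trace K K' (y * z)) ≤ 1 := by
  letI : Algebra F F' := D.σ.toRingHom.toAlgebra
  haveI : FiniteDimensional F F' := Module.Finite.of_surjective (Algebra.linearMap F F') hsur
  let τ : F ≃+* F' := RingEquiv.ofBijective D.σ.toRingHom ⟨D.σ.toRingHom.injective, hsur⟩
  haveI : Algebra.IsSeparable F F' := ⟨fun c => by
    obtain ⟨a, rfl⟩ := hsur c
    exact isSeparable_algebraMap (F := F) (K := F') a⟩
  exact exists_trace_gt hK hQ hφ hψ D rfl hd y hy

/-- the inverse different at `Q` -/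
theorem dual_bound [Algebra P.O K'] [IsScalarTower P.O K K'] :
    (∀ y : K', (∀ z : K', IsIntegral P.O z → P.1 (Algebra.trace K K' (y * z)) ≤ 1) → Q.1 y ≤ exp d) ∧
    ∃ y : K', (∀ z : K', IsIntegral P.O z → P.1 (Algebra.trace K K' (y * z)) ≤ 1) ∧ Q.1 y = exp d := by
  classical
  refine ⟨fun y hy => ?_, ?_⟩
  · by_contra hlt
    obtain ⟨z, hz, -, hzt⟩ := exists_trace_gt' hK hQ hφ hψ D hsur hd y (not_le.1 hlt)
    exact hzt (hy z ((isIntegral_iff_mem_IntP hK z).2 hz))
  · obtain ⟨y, hy⟩ := approx_eq (finite_over (K' := K') hK P).toFinset (fun _ => (0 : K'))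
      (fun Q' => if Q' = Q then d else 0)
    have hyQ : Q.1 y = exp d := by simpa using hy Q ((finite_over (K' := K') hK P).mem_toFinset.2 ⟨e, hQ⟩)
    refine ⟨y, fun z hz => trace_le_one' hK hQ hφ hψ D hsur hd _ ?_ (fun Q' hQ' hne => ?_), hyQ⟩
    · rw [map_mul, hyQ]
      exact (mul_le_mul' le_rfl (mem_IntP.1 ((isIntegral_iff_mem_IntP hK z).1 hz) Q ⟨e, hQ⟩)).trans_eq (mul_one _)
    · have h1 : Q'.1 y = 1 := by simpa [hne] using hy Q' ((finite_over (K' := K') hK P).mem_toFinset.2 hQ')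
      rw [map_mul, h1, one_mul]
      exact mem_IntP.1 ((isIntegral_iff_mem_IntP hK z).1 hz) Q' hQ'

/-- `ord g'(y) ≥ d`, with the case of equality -/
theorem le_ord_derivative [Algebra.IsSeparable K K'] [Algebra P.O K'] [IsScalarTower P.O K K'] (y : K')
    (hy : Algebra.adjoin K ({y} : Set K') = ⊤) (hyi : IsIntegral P.O y) :
    d ≤ Q.ord (Polynomial.aeval y (Polynomial.derivative (minpoly K y))) ∧
    (Q.ord (Polynomial.aeval y (Polynomial.derivative (minpoly K y))) = d →
      ∀ z : K', Q.1 z ≤ 1 → ∃ a ∈ Algebra.adjoin P.O ({y} : Set K'), ∃ b ∈ Algebra.adjoin P.O ({y} : Set K'),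
        Q.1 b = 1 ∧ z * b = a) := by
  classical
  set g' := Polynomial.aeval y (Polynomial.derivative (minpoly K y)) with hg'
  have hne : g' ≠ 0 := (Algebra.IsSeparable.isSeparable K y).aeval_derivative_ne_zero (minpoly.aeval _ _)
  have hyI : y ∈ IntP K' P := (isIntegral_iff_mem_IntP hK y).1 hyi
  have key : ∀ (z : K'), Q.1 z ≤ 1 → ∃ w : K', Q.1 w = exp d ∧
      g' * w ∈ Algebra.adjoin P.O ({y} : Set K') ∧ g' * (w * z) ∈ Algebra.adjoin P.O ({y} : Set K') := by
    intro z hz
    obtain ⟨w, hw⟩ := approx_eq (finite_over (K' := K') hK P).toFinset (fun _ => (0 : K'))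
      (fun Q' => if Q' = Q then d else -(max (log (Q'.1 z)) 0))
    have hwQ : Q.1 w = exp d := by simpa using hw Q ((finite_over (K' := K') hK P).mem_toFinset.2 ⟨e, hQ⟩)
    have hwO : ∀ Q', IsOver Q' P → Q' ≠ Q → Q'.1 w = exp (-(max (log (Q'.1 z)) 0)) := fun Q' hQ' hne => by
      simpa [hne] using hw Q' ((finite_over (K' := K') hK P).mem_toFinset.2 hQ')
    have hz1 : ∀ Q', IsOver Q' P → Q' ≠ Q → Q'.1 w ≤ 1 ∧ Q'.1 (w * z) ≤ 1 := by
      intro Q' hQ' hne
      refine ⟨(hwO Q' hQ' hne).trans_le ((exp_le_exp.2 (by omega)).trans_eq exp_zero), ?_⟩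
      rw [map_mul, hwO Q' hQ' hne]
      rcases eq_or_ne (Q'.1 z) 0 with h0 | h0
      · simp [h0]
      · rw [← exp_log h0, ← exp_add, log_exp]
        exact (exp_le_exp.2 (by omega)).trans_eq exp_zero
    have hmem : ∀ x : K', Q.1 x ≤ exp d → (∀ Q', IsOver Q' P → Q' ≠ Q → Q'.1 x ≤ 1) →
        g' * x ∈ Algebra.adjoin P.O ({y} : Set K') := by
      intro x hxQ hxO
      refine derivative_mul_mem_adjoin hy hyi fun i => ?_
      refine ⟨⟨_, (mem_O P).2 (trace_le_one' hK hQ hφ hψ D hsur hd _ ?_ (fun Q' hQ' hne => ?_))⟩, rfl⟩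
      · rw [map_mul, map_pow]
        exact (mul_le_mul' hxQ (pow_le_one₀ zero_le (mem_IntP.1 hyI Q ⟨e, hQ⟩))).trans_eq (mul_one _)
      · rw [map_mul, map_pow]
        exact mul_le_one' (hxO Q' hQ' hne) (pow_le_one₀ zero_le (mem_IntP.1 hyI Q' hQ'))
    refine ⟨w, hwQ, hmem w hwQ.le fun Q' hQ' hne => (hz1 Q' hQ' hne).1, hmem _ ?_ fun Q' hQ' hne => (hz1 Q' hQ' hne).2⟩
    rw [map_mul, hwQ]
    exact (mul_le_mul' le_rfl hz).trans_eq (mul_one _)
  refine ⟨?_, fun heq z hz => ?_⟩
  · obtain ⟨w, hwQ, hw, -⟩ := key 0 (by simp)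
    have h1 := mem_IntP.1 (mem_IntP_of_mem_adjoin hK hyi hw) Q ⟨e, hQ⟩
    rw [map_mul, hwQ, val_eq_exp_ord Q hne, ← exp_add] at h1
    have := exp_le_exp.1 (h1.trans_eq exp_zero.symm)
    omega
  · obtain ⟨w, hwQ, hw, hwz⟩ := key z hz
    refine ⟨g' * (w * z), hwz, g' * w, hw, ?_, by ring⟩
    rw [map_mul, hwQ, val_eq_exp_ord Q hne, ← exp_add, heq, neg_add_cancel, exp_zero]

/-- residue degree one, `s` a uniformizer at `Q`, unit elsewhere -/
theorem ord_derivative_le [Algebra.IsSeparable K K'] (s : K') (hs : Q.1 s = exp (-1 : ℤ))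
    (hs' : ∀ Q', IsOver Q' P → Q' ≠ Q → Q'.1 s = 1) (hy : Algebra.adjoin K ({s} : Set K') = ⊤) :
    Q.ord (Polynomial.aeval s (Polynomial.derivative (minpoly K s))) = d := by
  classical
  letI : Algebra P.O K' := ((algebraMap K K').comp (algebraMap P.O K)).toAlgebra
  haveI : IsScalarTower P.O K K' := IsScalarTower.of_algebraMap_eq fun _ => rfl
  have hQo : IsOver Q P := ⟨e, hQ⟩
  have hsI : IsIntegral P.O s := (isIntegral_iff_mem_IntP hK s).2 (mem_IntP.2 fun Q' hQ' => by
    rcases eq_or_ne Q' Q with rfl | hne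
    · rw [hs]; exact (exp_le_exp.2 (by norm_num)).trans_eq exp_zero
    · exact (hs' Q' hQ' hne).le)
  refine le_antisymm ?_ (le_ord_derivative hK hQ hφ hψ D hsur hd s hy hsI).1
  set g' := Polynomial.aeval s (Polynomial.derivative (minpoly K s)) with hg'
  have hne : g' ≠ 0 := (Algebra.IsSeparable.isSeparable K s).aeval_derivative_ne_zero (minpoly.aeval _ _)
  -- a unit at `Q`, small at the others
  obtain ⟨h, hhA, hhQ, hhO⟩ : ∃ h ∈ Algebra.adjoin P.O ({s} : Set K'), Q.1 h = 1 ∧
      ∀ Q', IsOver Q' P → Q' ≠ Q → Q'.1 h < 1 := by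
    set f := minpoly P.O s
    have hfm : f.Monic := minpoly.monic hsI
    have hex : ∃ j, P.1 ((f.coeff j : P.O) : K) = 1 := ⟨f.natDegree, by rw [hfm.coeff_natDegree]; simp⟩
    set j := Nat.find hex
    have hj : P.1 ((f.coeff j : P.O) : K) = 1 := Nat.find_spec hex
    have hlow : ∀ i < j, P.1 ((f.coeff i : P.O) : K) < 1 := fun i hi =>
      lt_of_le_of_ne ((mem_O P).1 (f.coeff i).2) (Nat.find_min hex hi)
    set q := f /ₘ (Polynomial.X ^ j)
    have hmem : Polynomial.aeval s q ∈ Algebra.adjoin P.O ({s} : Set K') := Polynomial.aeval_mem_adjoin_singleton _ _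
    have hq : ∀ i, q.coeff i = f.coeff (i + j) := fun i => by
      have h := congrArg (fun r => r.coeff (i + j)) (Polynomial.modByMonic_add_div f (Polynomial.X ^ j))
      simp only [Polynomial.coeff_add, Polynomial.coeff_X_pow_mul] at h
      rw [Polynomial.coeff_eq_zero_of_degree_lt, zero_add] at h
      · exact h
      · refine (Polynomial.degree_modByMonic_lt f (Polynomial.monic_X_pow j)).trans_le ?_
        rw [Polynomial.degree_X_pow]
        exact_mod_cast Nat.le_add_left j i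
    refine ⟨_, hmem, ?_, fun Q' hQ' hne' => ?_⟩
    · have hsplit : Polynomial.aeval s q = algebraMap P.O K' (q.coeff 0) + s * Polynomial.aeval s q.divX := by
        conv_lhs => rw [← Polynomial.X_mul_divX_add q]
        rw [map_add, map_mul, Polynomial.aeval_X, Polynomial.aeval_C, add_comm]
      have h0 : Q.1 (algebraMap P.O K' (q.coeff 0)) = 1 := by
        rw [hq, Nat.zero_add]
        show Q.1 (algebraMap K K' ((f.coeff j : P.O) : K)) = 1
        rw [hQ, hj, one_pow]
      rw [hsplit, Valuation.map_add_eq_of_lt_left _ (by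
        rw [h0, map_mul, hs]
        refine (mul_le_mul' le_rfl (mem_IntP.1 (mem_IntP_of_mem_adjoin hK hsI
          (Polynomial.aeval_mem_adjoin_singleton _ _)) Q hQo)).trans_lt ?_
        rw [mul_one]
        exact (exp_lt_exp.2 (by norm_num)).trans_eq exp_zero), h0]
    · have h1 : Q'.1 (s ^ j * Polynomial.aeval s q) < 1 := by
        have h2 : s ^ j * Polynomial.aeval s q = - Polynomial.aeval s (f %ₘ Polynomial.X ^ j) := by
          have : Polynomial.aeval s f = 0 := minpoly.aeval P.O s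
          rw [← Polynomial.modByMonic_add_div f (Polynomial.X ^ j), map_add, map_mul, map_pow, Polynomial.aeval_X] at this
          rw [eq_neg_iff_add_eq_zero, add_comm]; exact this
        rw [h2, Valuation.map_neg, Polynomial.aeval_eq_sum_range]
        refine Valuation.map_sum_lt _ one_ne_zero fun i _ => ?_
        rw [Algebra.smul_def, map_mul, map_pow, hs' Q' hQ' hne', one_pow, mul_one]
        show Q'.1 (algebraMap K K' (((f %ₘ Polynomial.X ^ j).coeff i : P.O) : K)) < 1
        rw [val_algebraMap_lt_one_iff hQ']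
        by_cases hi : i < j
        · have : (f %ₘ Polynomial.X ^ j).coeff i = f.coeff i := by
            conv_rhs => rw [← Polynomial.modByMonic_add_div f (Polynomial.X ^ j)]
            rw [Polynomial.coeff_add, Polynomial.coeff_X_pow_mul', if_neg (by omega), add_zero]
          rw [this]; exact hlow i hi
        · rw [Polynomial.coeff_eq_zero_of_degree_lt ((Polynomial.degree_modByMonic_lt f (Polynomial.monic_X_pow j)).trans_le (by
            rw [Polynomial.degree_X_pow]; exact_mod_cast (not_lt.1 hi)))]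
          simp
      rwa [map_mul, map_pow, hs' Q' hQ' hne', one_pow, one_mul] at h1
  -- density of `O_P[s]` at `Q`
  have dense : ∀ (z : K'), Q.1 z ≤ 1 → ∀ N : ℕ, ∃ r ∈ Algebra.adjoin P.O ({s} : Set K'),
      Q.1 (z - r) ≤ exp (-(N : ℤ)) := by
    intro z hz N
    induction N with
    | zero => exact ⟨0, Subalgebra.zero_mem _, by simpa using hz⟩
    | succ N ih =>
      obtain ⟨r, hr, hrz⟩ := ih
      have hs0 : s ^ N ≠ 0 := pow_ne_zero _ (ne_zero_of_val_eq_exp Q hs)
      set y1 := (z - r) / s ^ N with hy1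
      have hy1v : Q.1 y1 ≤ 1 := by
        rw [hy1, map_div₀, map_pow, hs, ← exp_nsmul, div_le_one₀ exp_pos]
        exact hrz.trans (exp_le_exp.2 (by simp))
      obtain ⟨a, ha⟩ := hsur ((ψ y1).coeff 0)
      obtain ⟨c, hc, hca⟩ := hφ.2.1 a
      refine ⟨r + s ^ N * algebraMap P.O K' ⟨c, (mem_O P).2 hc⟩, add_mem hr (mul_mem
        (pow_mem (Algebra.self_mem_adjoin_singleton _ _) _) (Subalgebra.algebraMap_mem _ _)), ?_⟩
      have hsmall : Q.1 (y1 - algebraMap K K' c) ≤ exp (-(1 : ℤ)) := by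
        have hv : Valued.v (ψ (y1 - algebraMap K K' c)) ≤ (1 : ℤᵐ⁰) := by
          rw [hψ.1]; exact (Valuation.map_sub _ _ _).trans (max_le hy1v ((val_algebraMap_le_one_iff hQo c).2 hc))
        rw [← hψ.1, ← LR.coe_toPS hv, show (1 : ℤ) = ((1 : ℕ) : ℤ) from rfl, LR.v_coe_le_iff, pow_one,
          PowerSeries.X_dvd_iff, ← PowerSeries.coeff_zero_eq_constantCoeff_apply, LR.coeff_toPS, map_sub,
          HahnSeries.coeff_sub, Nat.cast_zero, sub_eq_zero, ← ha, D.map, ← LR.coe_toPS (f := φ c) (by rw [hφ.1]; exact hc),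
          LR.ioL_coe, show (0 : ℤ) = ((0 : ℕ) : ℤ) from rfl, coeff_coe_powerSeries, LR.io_apply]
        rw [← hca, show (0 : ℤ) = ((0 : ℕ) : ℤ) from rfl, ← LR.coeff_toPS]
        rw [← LR.io_apply (he := D.he)]
        obtain ⟨g2, hg2⟩ := LR.dvd_sub_trunc (LR.toPS (φ c)) 1
        rw [sub_eq_iff_eq_add] at hg2
        simp only [Finset.range_one, Finset.sum_singleton, pow_zero, mul_one, pow_one] at hg2
        conv_rhs => rw [hg2, map_add, map_mul, LR.io_X, LR.io_C]
        rw [map_add, PowerSeries.coeff_zero_eq_constantCoeff_apply, PowerSeries.coeff_zero_eq_constantCoeff_apply,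
          map_mul, show PowerSeries.constantCoeff (LR.sS e D.u) = 0 by simp [LR.sS, D.he.ne'], zero_mul, zero_add]
        simp
      rw [show z - (r + s ^ N * algebraMap P.O K' ⟨c, (mem_O P).2 hc⟩) = s ^ N * (y1 - algebraMap K K' c) by
        rw [hy1, mul_sub, mul_div_cancel₀ _ hs0, show algebraMap P.O K' ⟨c, (mem_O P).2 hc⟩ = algebraMap K K' c from rfl]
        ring, map_mul, map_pow, hs, ← exp_nsmul]
      refine (mul_le_mul' le_rfl hsmall).trans_eq ?_
      rw [← exp_add]; congr 1; simp; ring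
  -- conclusion
  by_contra hgt
  rw [not_le] at hgt
  have hvy : exp d < Q.1 g'⁻¹ := by
    rw [map_inv₀, val_eq_exp_ord Q hne, ← exp_neg, neg_neg, exp_lt_exp]; exact hgt
  obtain ⟨z, hz, hzO, hzt⟩ := exists_trace_gt' hK hQ hφ hψ D hsur hd g'⁻¹ hvy
  obtain ⟨M, hM⟩ : ∃ M : ℕ, ∀ Q' ∈ (finite_over (K' := K') hK P).toFinset, Q' ≠ Q →
      Q'.1 h ^ M ≤ exp (-(max (log (Q'.1 g'⁻¹)) 0)) := by
    refine ⟨(finite_over (K' := K') hK P).toFinset.sup fun Q' => (max (log (Q'.1 g'⁻¹)) 0).toNat, fun Q' hQ' hne' => ?_⟩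
    have hlt := hhO Q' ((finite_over (K' := K') hK P).mem_toFinset.1 hQ') hne'
    have hle := (lt_exp_iff (Q'.1 h) 0).1 (hlt.trans_eq exp_zero.symm)
    have hsup := Finset.le_sup (f := fun Q' => (max (log (Q'.1 g'⁻¹)) 0).toNat) hQ'
    refine (pow_le_pow_left₀ zero_le hle _).trans ?_
    rw [← exp_nsmul, exp_le_exp]
    simp only [zero_sub, nsmul_eq_mul, mul_neg, mul_one, neg_le_neg_iff]
    refine le_trans (Int.self_le_toNat _) ?_
    exact_mod_cast hsup
  have hhM : h ^ M ≠ 0 := pow_ne_zero _ fun h0 => by rw [h0, map_zero] at hhQ; exact zero_ne_one hhQ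
  have hzM : Q.1 (z / h ^ M) ≤ 1 := by
    rw [map_div₀, map_pow, hhQ, one_pow, div_one]; exact mem_IntP.1 hz Q hQo
  obtain ⟨r, hr, hrz⟩ := dense (z / h ^ M) hzM (log (Q.1 g'⁻¹) - d).toNat
  have hzr : r * h ^ M ∈ Algebra.adjoin P.O ({s} : Set K') := mul_mem hr (pow_mem hhA _)
  obtain ⟨c, hc⟩ := trace_aeval_div_derivative (O := P.O) hy hsI hzr
  refine hzt ?_
  have hdiff : P.1 (Algebra.trace K K' (g'⁻¹ * (z - r * h ^ M))) ≤ 1 := by
    refine trace_le_one' hK hQ hφ hψ D hsur hd _ ?_ fun Q' hQ' hne' => ?_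
    · rw [show z - r * h ^ M = (z / h ^ M - r) * h ^ M by field_simp, map_mul, map_mul, map_pow, hhQ, one_pow,
        mul_one]
      refine (mul_le_mul' le_rfl hrz).trans ?_
      have h0 : Q.1 g'⁻¹ ≠ 0 := by simpa using hne
      rw [← exp_log h0, ← exp_add, exp_le_exp, log_exp]
      omega
    · rw [map_mul]
      refine (mul_le_mul' le_rfl ((Valuation.map_sub _ _ _).trans (max_le (hzO Q' hQ' hne') ?_))).trans ?_
      · rw [map_mul, map_pow]
        exact (mul_le_mul' (mem_IntP.1 (mem_IntP_of_mem_adjoin hK hsI hr) Q' hQ')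
          (hM Q' ((finite_over (K' := K') hK P).mem_toFinset.2 hQ') hne')).trans_eq (one_mul _)
      · have h0 : Q'.1 g'⁻¹ ≠ 0 := by simpa using hne
        rw [← exp_log h0, ← exp_add, log_exp]
        exact (exp_le_exp.2 (by omega)).trans_eq exp_zero
  rw [show g'⁻¹ * z = g'⁻¹ * (z - r * h ^ M) + (r * h ^ M) / g' by ring, map_add, hc]
  exact Valuation.map_add_le _ hdiff ((mem_O P).1 c.2)

end Main

section Degree

/-- with residue degree one, a uniformizer which is a unit elsewhere generates -/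
lemma adjoin_eq_top_of_uniformizer (hK : IsFF k K) (hQ : IsOverWith Q P e) (hdeg : Q.deg = P.deg)
    (s : K') (hs : Q.1 s = exp (-1 : ℤ))
    (hs' : ∀ Q', IsOver Q' P → Q' ≠ Q → Q'.1 s = 1) : K⟮s⟯ = ⊤ := by
  classical
  set L := K⟮s⟯
  haveI : IsScalarTower k L K' := IsScalarTower.of_algebraMap_eq fun c => rfl
  have hL : IsFF k L := isFF_ext hK
  obtain ⟨R, hR⟩ := exists_below (K := L) hL Q
  have hRP : IsOver R P := by
    obtain ⟨P', hP'⟩ := exists_below (K := K) hK R
    have : IsOver Q P' := by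
      obtain ⟨e1, h1⟩ := hP'
      obtain ⟨e2, h2⟩ := hR
      exact ⟨e1 * e2, fun z => by rw [IsScalarTower.algebraMap_apply K L K', h2, h1, pow_mul]⟩
    rwa [isOver_unique ⟨e, hQ⟩ this]
  have hsR : R.1 (⟨s, mem_adjoin_simple_self K s⟩ : L) < 1 := by
    rw [← val_algebraMap_lt_one_iff hR]
    show Q.1 s < 1
    rw [hs]; exact (exp_lt_exp.2 (by norm_num)).trans_eq exp_zero
  have honly : ∀ Q', Q' ∈ ({Q} : Finset (Place k K')) ↔ IsOver Q' R := by
    intro Q'
    rw [Finset.mem_singleton]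
    refine ⟨fun h => h ▸ hR, fun h => ?_⟩
    by_contra hne
    have hover : IsOver Q' P := by
      obtain ⟨e1, h1⟩ := hRP
      obtain ⟨e2, h2⟩ := h
      exact ⟨e1 * e2, fun z => by rw [IsScalarTower.algebraMap_apply K L K', h2, h1, pow_mul]⟩
    have := (val_algebraMap_lt_one_iff h (⟨s, mem_adjoin_simple_self K s⟩ : L)).2 hsR
    rw [show algebraMap L K' ⟨s, mem_adjoin_simple_self K s⟩ = s from rfl, hs' Q' hover hne] at this
    exact lt_irrefl _ this
  have h1 := (fundamental (K' := K') hL R).2 _ honly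
  rw [Finset.sum_singleton] at h1
  -- ramification
  have he1 : ramIdx Q R = 1 := by
    have h2 := IsOverWith_ord (isOverWith_ramIdx hR) (⟨s, mem_adjoin_simple_self K s⟩ : L)
    rw [show algebraMap L K' ⟨s, mem_adjoin_simple_self K s⟩ = s from rfl, ord_of_val_eq Q hs] at h2
    have h3 : (ramIdx Q R : ℤ) ∣ 1 := ⟨_, by rw [← h2]; norm_num⟩
    exact_mod_cast Int.eq_one_of_dvd_one (by positivity) h3
  -- degrees
  have hle : P.deg ≤ R.deg := by
    let g0 : P.O →+* R.O := ((algebraMap K L).comp P.O.subtype).codRestrict R.O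
      fun a => (val_algebraMap_le_one_iff hRP _).2 a.2
    let g : P.O →ₐ[k] IsLocalRing.ResidueField R.O :=
      { ((IsLocalRing.residue R.O).comp g0 : P.O →+* IsLocalRing.ResidueField R.O) with
        commutes' := fun c => congrArg (IsLocalRing.residue R.O) (Subtype.ext
          (IsScalarTower.algebraMap_apply k K L c).symm) }
    let g' : IsLocalRing.ResidueField P.O →ₐ[k] IsLocalRing.ResidueField R.O :=
      Ideal.Quotient.liftₐ _ g fun a ha => (IsLocalRing.residue_eq_zero_iff _).2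
        ((mem_maximalIdeal R).2 ((val_algebraMap_lt_one_iff hRP _).2 ((mem_maximalIdeal P).1 ha)))
    haveI := finiteDimensional_residueField hL R
    exact LinearMap.finrank_le_finrank_of_injective (f := g'.toLinearMap) g'.toRingHom.injective
  rw [he1, one_mul, hdeg] at h1
  have hpos : 0 < R.deg := deg_pos hL R
  have hfin : Module.finrank L K' = 1 := by
    have h4 : 0 < Module.finrank L K' := Module.finrank_pos
    nlinarith
  exact IntermediateField.finrank_eq_one_iff_eq_top.1 hfin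

lemma deg_eq_of_surjective (hφ : LocRes.IsExpansionAt P.1 φ) (hψ : LocRes.IsExpansionAt Q.1 ψ)
    (D : LR.LiesOver φ ψ e) (hsur : Function.Surjective D.σ) : Q.deg = P.deg := by
  rw [← finrank_coeffField hφ, ← finrank_coeffField hψ]
  exact ((AlgEquiv.ofBijective D.σ ⟨D.σ.toRingHom.injective, hsur⟩).toLinearEquiv.finrank_eq).symm

lemma surjective_of_residue (hQ : IsOverWith Q P e) (hφ : LocRes.IsExpansionAt P.1 φ)
    (hψ : LocRes.IsExpansionAt Q.1 ψ) (D : LR.LiesOver φ ψ e) [P.1.HasExtension Q.1]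
    (hf : Function.Surjective (algebraMap (IsLocalRing.ResidueField P.O) (IsLocalRing.ResidueField Q.O))) :
    Function.Surjective D.σ := by
  intro c
  obtain ⟨f, hf1, hfc⟩ := hψ.2.1 c
  obtain ⟨r, hr⟩ := hf (IsLocalRing.residue Q.O ⟨f, hf1⟩)
  obtain ⟨a, rfl⟩ := IsLocalRing.residue_surjective r
  rw [Valuation.HasExtension.algebraMap_residue_eq_residue_algebraMap] at hr
  have hlt : Q.1 (algebraMap K K' (a : K) - f) < 1 :=
    (mem_maximalIdeal Q).1 ((IsLocalRing.residue_eq_zero_iff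
      (algebraMap P.O Q.O a - (⟨f, hf1⟩ : Q.O))).1 (by rw [map_sub, hr, sub_self]))
  refine ⟨(φ (a : K)).coeff 0, ?_⟩
  have h2 : Valued.v (ψ (algebraMap K K' (a : K) - f)) ≤ exp (-((1 : ℕ) : ℤ)) := by
    rw [hψ.1]; simpa using (lt_exp_iff _ 0).1 (hlt.trans_eq exp_zero.symm)
  have h2' : Valued.v (ψ (algebraMap K K' (a : K) - f)) ≤ (1 : ℤᵐ⁰) :=
    h2.trans ((exp_le_exp.2 (by norm_num)).trans_eq exp_zero)
  rw [← LR.coe_toPS h2', LR.v_coe_le_iff, pow_one, PowerSeries.X_dvd_iff,
    ← PowerSeries.coeff_zero_eq_constantCoeff_apply, LR.coeff_toPS, map_sub, HahnSeries.coeff_sub, Nat.cast_zero,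
    sub_eq_zero, hfc, D.map, ← LR.coe_toPS (f := φ (a : K)) (by rw [hφ.1]; exact a.2), LR.ioL_coe,
    show (0 : ℤ) = ((0 : ℕ) : ℤ) from rfl, coeff_coe_powerSeries] at h2
  obtain ⟨g2, hg2⟩ := LR.dvd_sub_trunc (LR.toPS (φ (a : K))) 1
  rw [sub_eq_iff_eq_add] at hg2
  simp only [Finset.range_one, Finset.sum_singleton, pow_zero, mul_one, pow_one] at hg2
  conv_lhs at h2 => rw [hg2, map_add, map_mul, LR.io_X, LR.io_C]
  rw [map_add, PowerSeries.coeff_zero_eq_constantCoeff_apply, map_mul,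
    show PowerSeries.constantCoeff (LR.sS e D.u) = 0 by simp [LR.sS, D.he.ne'], zero_mul, zero_add] at h2
  simpa using h2

lemma surjective_of_totallyRamified (hK : IsFF k K) (hQ : IsOverWith Q P e) (hφ : LocRes.IsExpansionAt P.1 φ)
    (hψ : LocRes.IsExpansionAt Q.1 ψ) (D : LR.LiesOver φ ψ e) (hn : e = Module.finrank K K') :
    Function.Surjective D.σ ∧ ∀ Q', IsOver Q' P → Q' = Q := by
  classical
  obtain ⟨hfin, hsum⟩ := fundamental (K' := K') hK P
  have h := hsum hfin.toFinset (fun Q' => hfin.mem_toFinset)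
  have hQm : Q ∈ hfin.toFinset := hfin.mem_toFinset.2 ⟨e, hQ⟩
  rw [← Finset.add_sum_erase _ _ hQm, ramIdx_eq hQ, ← hn] at h
  haveI := finiteDimensional_coeffField hK hφ
  haveI := finiteDimensional_coeffField (isFF_ext hK) hψ
  have hle : P.deg ≤ Q.deg := by
    rw [← finrank_coeffField hφ, ← finrank_coeffField hψ]
    exact LinearMap.finrank_le_finrank_of_injective (f := D.σ.toLinearMap) D.σ.toRingHom.injective
  have he := IsOverWith_pos hQ
  have hle' := Nat.mul_le_mul_left e hle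
  have hdeg : Q.deg = P.deg := Nat.eq_of_mul_eq_mul_left he (by omega)
  have h0 : ∑ Q' ∈ hfin.toFinset.erase Q, ramIdx Q' P * Q'.deg = 0 := by rw [hdeg] at h; omega
  refine ⟨?_, fun Q' hQ' => ?_⟩
  · refine (LinearMap.injective_iff_surjective_of_finrank_eq_finrank (f := D.σ.toLinearMap) ?_).1 D.σ.toRingHom.injective
    rw [finrank_coeffField hφ, finrank_coeffField hψ, hdeg]
  · by_contra hne
    have := (Finset.sum_eq_zero_iff.1 h0) Q' (Finset.mem_erase.2 ⟨hne, hfin.mem_toFinset.2 hQ'⟩)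
    rcases Nat.mul_eq_zero.1 this with h1 | h1
    · have := ramIdx_pos hQ'; omega
    · have := deg_pos (isFF_ext hK) Q'; omega

end Degree

end Groth.Agent.FF
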