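import Groth.Agent.FF.LR.Hasse

/-! Geometric function fields. -/

set_option autoImplicit false
set_option linter.style.haveILetI false
set_option linter.unusedSectionVars false

open FunFld Polynomial
open scoped TensorProduct

namespace Groth.Agent.FF

universe u v

lemma isGeometric_of_perfect {k : Type u} {K : Type v} [Field k] [Field K] [Algebra k K] [PerfectField k]
    (hK : IsFunctionField k K) : FunFld.IsGeometric k K := by
  intro k' _ _ hfin
  haveI := hfin
  haveI : Algebra.IsSeparable k k' := inferInstance
  let pb := Field.powerBasisOfFiniteOfSeparable k k'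
  have hgi : IsIntegral k pb.gen := pb.isIntegral_gen
  set f := (minpoly k pb.gen).map (algebraMap k K) with hfdef
  haveI hf : Fact (Irreducible f) := ⟨irreducible_map hK (minpoly.monic hgi) (minpoly.irreducible hgi)⟩
  let iK : K →+* k' ⊗[k] K := (Algebra.TensorProduct.includeRight : K →ₐ[k] k' ⊗[k] K).toRingHom
  have hroot : f.eval₂ iK (pb.gen ⊗ₜ[k] (1 : K)) = 0 := by
    rw [hfdef, Polynomial.eval₂_map]
    have h1 : iK.comp (algebraMap k K) =
        ((Algebra.TensorProduct.includeLeft : k' →ₐ[k] k' ⊗[k] K).toRingHom).comp (algebraMap k k') := by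
      ext c
      show Algebra.TensorProduct.includeRight (R := k) (A := k') (algebraMap k K c) =
        Algebra.TensorProduct.includeLeft (R := k) (S := k) (algebraMap k k' c)
      rw [AlgHom.commutes, AlgHom.commutes]
    rw [h1]
    show Polynomial.eval₂ _ ((Algebra.TensorProduct.includeLeft : k' →ₐ[k] k' ⊗[k] K).toRingHom pb.gen) _ = 0
    rw [← Polynomial.hom_eval₂, ← Polynomial.aeval_def, minpoly.aeval, map_zero]
  let θ : AdjoinRoot f →+* k' ⊗[k] K := AdjoinRoot.lift iK (pb.gen ⊗ₜ[k] (1 : K)) hroot
  have hsurj : Function.Surjective θ := by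
    intro z
    induction z using TensorProduct.induction_on with
    | zero => exact ⟨0, map_zero _⟩
    | add a b ha hb =>
      obtain ⟨x, rfl⟩ := ha
      obtain ⟨y, rfl⟩ := hb
      exact ⟨x + y, map_add _ _ _⟩
    | tmul a b =>
      obtain ⟨g, rfl⟩ : ∃ g : k[X], aeval pb.gen g = a := by
        have ha : a ∈ Algebra.adjoin k {pb.gen} := by rw [pb.adjoin_gen_eq_top]; trivial
        rwa [Algebra.adjoin_singleton_eq_range_aeval] at ha
      refine ⟨AdjoinRoot.mk f (C b * g.map (algebraMap k K)), ?_⟩
      rw [show θ (AdjoinRoot.mk f _) = _ from AdjoinRoot.lift_mk hroot _, eval₂_mul, eval₂_C, Polynomial.eval₂_map]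
      induction g using Polynomial.induction_on' with
      | add p q hp hq => rw [eval₂_add, mul_add, hp, hq, map_add, TensorProduct.add_tmul]
      | monomial n c =>
        rw [eval₂_monomial, aeval_monomial, RingHom.comp_apply]
        show ((1 : k') ⊗ₜ[k] b) * (((1 : k') ⊗ₜ[k] algebraMap k K c) * (pb.gen ⊗ₜ[k] (1 : K)) ^ n) = _
        rw [Algebra.TensorProduct.tmul_pow, one_pow, Algebra.TensorProduct.tmul_mul_tmul,
          Algebra.TensorProduct.tmul_mul_tmul, one_mul, one_mul, mul_one, mul_comm b,
          Algebra.algebraMap_eq_smul_one, smul_one_mul, ← TensorProduct.smul_tmul, ← Algebra.smul_def]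
  haveI : Nontrivial (k' ⊗[k] K) := by
    haveI : Module.Free k k' := inferInstance
    refine (Algebra.TensorProduct.includeRight_injective (R := k) (A := k') (B := K) ?_).nontrivial
    exact (algebraMap k k').injective
  exact MulEquiv.isField (Field.toIsField (AdjoinRoot f))
    (RingEquiv.ofBijective θ ⟨θ.injective, hsurj⟩).symm.toMulEquiv

end Groth.Agent.FF
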