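import Groth.Agent.FF.LR.Sep
import Mathlib.FieldTheory.RatFunc.Basic
import Mathlib.RingTheory.PowerSeries.Inverse

/-! Hasse families and the module of differentials. -/

set_option autoImplicit false
set_option linter.style.haveILetI false
set_option linter.unusedSectionVars false

open FunFld IntermediateField

namespace Groth.Agent.FF

universe u v

variable {k : Type u} {K : Type v} [Field k] [Field K] [Algebra k K]

/-- MacLane's criterion in every positive characteristic. -/
def Good (k K : Type*) [Field k] [Field K] [Algebra k K] : Prop :=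
  ∀ (p : ℕ) [Fact p.Prime] [CharP K p], MacLane k K p

lemma good_of_geometric (hg : FunFld.IsGeometric k K) : Good k K :=
  fun p _ _ => macLane_of_geometric p hg

lemma good_of_perfect [PerfectField k] : Good k K := fun p _ _ => macLane_of_perfect p

lemma good_of_expansion {F : Type*} [Field F] [Algebra k F] [FiniteDimensional k F]
    [Algebra.IsSeparable k F] (φ : K →ₐ[k] LaurentSeries F) : Good k K :=
  fun p _ _ => macLane_of_expansion p φ

/-- `x` is a separating variable -/
structure IsSepVar (k : Type u) {K : Type v} [Field k] [Field K] [Algebra k K] (x : K) : Prop where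
  transcendental : Transcendental k x
  finite : FiniteDimensional k⟮x⟯ K
  separable : Algebra.IsSeparable k⟮x⟯ K

lemma exists_gen_hom (x : K) (hx : Transcendental k x) :
    ∃ e : RatFunc k ≃ₐ[k] k⟮x⟯, ∀ P : Polynomial k,
      ((e (algebraMap (Polynomial k) (RatFunc k) P) : k⟮x⟯) : K) = Polynomial.aeval x P := by
  have hinj : nonZeroDivisors (Polynomial k) ≤ (nonZeroDivisors K).comap (Polynomial.aeval (R := k) x) := fun P hP => by
    rw [Submonoid.mem_comap, mem_nonZeroDivisors_iff_ne_zero]
    exact fun h => nonZeroDivisors.ne_zero hP ((transcendental_iff.1 hx) P h)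
  let f : RatFunc k →ₐ[k] K := RatFunc.liftAlgHom (Polynomial.aeval x) hinj
  have hf : ∀ P : Polynomial k, f (algebraMap (Polynomial k) (RatFunc k) P) = Polynomial.aeval x P := fun P => by
    have := RatFunc.liftAlgHom_apply_div (φ := Polynomial.aeval (R := k) x) hinj P 1
    simpa [f] using this
  have hrange : f.fieldRange = k⟮x⟯ := by
    ext z
    rw [IntermediateField.mem_adjoin_simple_iff]
    constructor
    · rintro ⟨r, rfl⟩
      induction r using RatFunc.induction_on with
      | _ P Q hQ =>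
        exact ⟨P, Q, RatFunc.liftAlgHom_apply_div (φ := Polynomial.aeval (R := k) x) hinj P Q⟩
    · rintro ⟨P, Q, rfl⟩
      exact ⟨algebraMap _ (RatFunc k) P / algebraMap _ (RatFunc k) Q, by
        show f _ = _
        rw [map_div₀, hf, hf]⟩
  refine ⟨(AlgEquiv.ofInjectiveField f).trans (IntermediateField.equivOfEq hrange), fun P => ?_⟩
  exact hf P

lemma exists_hasse {x : K} (hx : IsSepVar k x) :
    ∃ H : K →ₐ[k] PowerSeries K, LocRes.IsHasseFamily x H := by
  obtain ⟨hxt, hfin, hsep⟩ := hx
  obtain ⟨e, he⟩ := exists_gen_hom x hxt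
  have hu : ∀ y : nonZeroDivisors (Polynomial k),
      IsUnit (Polynomial.aeval (PowerSeries.C x + PowerSeries.X : PowerSeries K) (y : Polynomial k)) := fun y => by
    rw [PowerSeries.isUnit_iff_constantCoeff, isUnit_iff_ne_zero]
    intro h
    have h2 : PowerSeries.constantCoeff (Polynomial.aeval (PowerSeries.C x + PowerSeries.X : PowerSeries K) (y : Polynomial k)) =
        Polynomial.aeval x (y : Polynomial k) := by
      rw [Polynomial.aeval_def, Polynomial.hom_eval₂, Polynomial.aeval_def]
      congr 1 <;> first | (ext c; simp) | simp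
    rw [h2] at h
    exact nonZeroDivisors.ne_zero y.2 ((transcendental_iff.1 hxt) _ h)
  let ψR : RatFunc k →ₐ[k] PowerSeries K :=
    IsLocalization.liftAlgHom (M := nonZeroDivisors (Polynomial k))
      (f := Polynomial.aeval (PowerSeries.C x + PowerSeries.X : PowerSeries K)) hu
  let ψ0 : k⟮x⟯ →ₐ[k] PowerSeries K := ψR.comp e.symm.toAlgHom
  have hψP : ∀ P : Polynomial k, ψR (algebraMap _ (RatFunc k) P) =
      Polynomial.aeval (PowerSeries.C x + PowerSeries.X : PowerSeries K) P := fun P => by
    simp [ψR, IsLocalization.liftAlgHom_apply]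
  have hψx : ψ0 (⟨x, mem_adjoin_simple_self k x⟩ : k⟮x⟯) = PowerSeries.C x + PowerSeries.X := by
    have h1 : e (algebraMap _ (RatFunc k) Polynomial.X) = (⟨x, mem_adjoin_simple_self k x⟩ : k⟮x⟯) :=
      Subtype.ext (by rw [he, Polynomial.aeval_X])
    show ψR (e.symm _) = _
    rw [← h1, e.symm_apply_apply, hψP, Polynomial.aeval_X]
  have hconst0 : ∀ z : k⟮x⟯, PowerSeries.constantCoeff (ψ0 z) = (z : K) := by
    intro z
    obtain ⟨P, Q, hz⟩ := (IntermediateField.mem_adjoin_simple_iff k _).1 z.2
    let σ : k⟮x⟯ →+* K := PowerSeries.constantCoeff.comp ψ0.toRingHom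
    have hσ : ∀ P : Polynomial k, σ (e (algebraMap _ (RatFunc k) P)) = Polynomial.aeval x P := fun P => by
      show PowerSeries.constantCoeff (ψR (e.symm (e _))) = _
      rw [e.symm_apply_apply, hψP, Polynomial.aeval_def, Polynomial.hom_eval₂, Polynomial.aeval_def]
      congr 1 <;> first | (ext c; simp) | simp
    have hz' : z = e (algebraMap _ (RatFunc k) P) / e (algebraMap _ (RatFunc k) Q) := Subtype.ext (by
      rw [IntermediateField.coe_div, he, he, hz])
    show σ z = _
    conv_lhs => rw [hz']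
    rw [map_div₀, hσ, hσ, hz]
  -- primitive element and Hensel
  obtain ⟨θ, hθ⟩ := Field.exists_primitive_element k⟮x⟯ K
  have hint : IsIntegral k⟮x⟯ θ := Algebra.IsIntegral.isIntegral θ
  set m := minpoly k⟮x⟯ θ
  set f := m.map ψ0.toRingHom with hf
  have hc : ∀ (q : Polynomial k⟮x⟯) (a : K),
      PowerSeries.constantCoeff ((q.map ψ0.toRingHom).eval (PowerSeries.C a)) = Polynomial.aeval a q := by
    intro q a
    rw [Polynomial.eval_map, Polynomial.hom_eval₂, PowerSeries.constantCoeff_C, Polynomial.aeval_def]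
    congr 1
    ext z
    exact hconst0 z
  obtain ⟨r, hr, hrθ⟩ := HenselianRing.is_henselian (R := PowerSeries K)
    (I := Ideal.span {PowerSeries.X}) f ((minpoly.monic hint).map _) (PowerSeries.C θ)
    (Ideal.mem_span_singleton.2 (PowerSeries.X_dvd_iff.2 (by rw [hf, hc, minpoly.aeval])))
    (IsUnit.map _ (PowerSeries.isUnit_iff_constantCoeff.2 (isUnit_iff_ne_zero.2 (by
      rw [hf, Polynomial.derivative_map, hc]
      exact (Algebra.IsSeparable.isSeparable k⟮x⟯ θ).aeval_derivative_ne_zero (minpoly.aeval _ _)))))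
  let toK : AdjoinRoot m →+* K := AdjoinRoot.lift (algebraMap k⟮x⟯ K) θ (minpoly.aeval k⟮x⟯ θ)
  haveI : Fact (Irreducible m) := ⟨minpoly.irreducible hint⟩
  have hbij : Function.Bijective toK := by
    refine ⟨toK.injective, fun z => ?_⟩
    have hz : z ∈ k⟮x⟯⟮θ⟯ := by rw [hθ]; trivial
    obtain ⟨q, hq⟩ : ∃ q : Polynomial k⟮x⟯, Polynomial.aeval θ q = z := by
      rw [← IntermediateField.mem_toSubalgebra, IntermediateField.adjoin_simple_toSubalgebra_of_isAlgebraic hint.isAlgebraic] at hz
      rwa [Algebra.adjoin_singleton_eq_range_aeval] at hz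
    exact ⟨AdjoinRoot.mk m q, by rw [← hq]; exact AdjoinRoot.lift_mk _ q⟩
  let eK : AdjoinRoot m ≃+* K := RingEquiv.ofBijective toK hbij
  let hom : AdjoinRoot m →+* PowerSeries K := AdjoinRoot.lift ψ0.toRingHom r (by
    rw [← Polynomial.eval_map]; exact hr)
  let Hr : K →+* PowerSeries K := hom.comp eK.symm.toRingHom
  have hsymm : ∀ z : k⟮x⟯, eK.symm ((z : K)) = AdjoinRoot.of m z := fun z => by
    rw [RingEquiv.symm_apply_eq]
    exact (AdjoinRoot.lift_of (x := z) (f := m) (minpoly.aeval k⟮x⟯ θ)).symm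
  have hHr : ∀ z : k⟮x⟯, Hr (z : K) = ψ0 z := fun z => by
    show hom (eK.symm _) = _
    rw [hsymm, AdjoinRoot.lift_of]; rfl
  let H : K →ₐ[k] PowerSeries K :=
    { Hr with
      commutes' := fun c => by
        show Hr (algebraMap k K c) = _
        rw [IsScalarTower.algebraMap_apply k k⟮x⟯ K]
        exact (hHr _).trans (ψ0.commutes c) }
  refine ⟨H, ?_, fun y => ?_⟩
  · exact (hHr ⟨x, mem_adjoin_simple_self k x⟩).trans hψx
  · obtain ⟨a, rfl⟩ := eK.surjective y
    show PowerSeries.constantCoeff (hom (eK.symm (eK a))) = _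
    rw [eK.symm_apply_apply]
    induction a using AdjoinRoot.induction_on with
    | _ q =>
      show PowerSeries.constantCoeff (hom (AdjoinRoot.mk m q)) = toK (AdjoinRoot.mk m q)
      show _ = AdjoinRoot.lift (algebraMap k⟮x⟯ K) θ (minpoly.aeval k⟮x⟯ θ) (AdjoinRoot.mk m q)
      refine Eq.trans ?_ (AdjoinRoot.lift_mk (i := algebraMap k⟮x⟯ K) (a := θ) (f := m) (minpoly.aeval k⟮x⟯ θ) q).symm
      rw [AdjoinRoot.lift_mk, Polynomial.hom_eval₂]
      have hr0 : PowerSeries.constantCoeff r = θ := by
        have := PowerSeries.X_dvd_iff.1 (Ideal.mem_span_singleton.1 hrθ)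
        rwa [map_sub, PowerSeries.constantCoeff_C, sub_eq_zero] at this
      rw [hr0]
      congr 1
      ext z
      exact hconst0 z

/-- Two lifts to power series agreeing on a separating variable are equal. -/
lemma lift_unique {L : Type*} [Field L] [Algebra k L] {x : K} (hsep : Algebra.IsSeparable k⟮x⟯ K)
    (ψ₁ ψ₂ : K →ₐ[k] PowerSeries L)
    (hc : ∀ y, PowerSeries.constantCoeff (ψ₁ y) = PowerSeries.constantCoeff (ψ₂ y))
    (hx : ψ₁ x = ψ₂ x) : ψ₁ = ψ₂ := by
  have hagree : ∀ z ∈ k⟮x⟯, ψ₁ z = ψ₂ z := fun z hz => by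
    induction hz using IntermediateField.adjoin_induction with
    | mem w hw => rw [Set.mem_singleton_iff] at hw; subst hw; exact hx
    | algebraMap c => rw [ψ₁.commutes, ψ₂.commutes]
    | add a b _ _ ha hb => rw [map_add, map_add, ha, hb]
    | inv a _ ha =>
      rcases eq_or_ne a 0 with rfl | h0
      · rw [inv_zero, map_zero, map_zero]
      · have h1 : ψ₁ a * ψ₁ a⁻¹ = 1 := by rw [← map_mul, mul_inv_cancel₀ h0, map_one]
        have h2 : ψ₁ a * ψ₂ a⁻¹ = 1 := by rw [ha, ← map_mul, mul_inv_cancel₀ h0, map_one]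
        exact (IsUnit.of_mul_eq_one _ h1).mul_left_cancel (h1.trans h2.symm)
    | mul a b _ _ ha hb => rw [map_mul, map_mul, ha, hb]
  refine AlgHom.ext fun z => ?_
  let m := minpoly k⟮x⟯ z
  let ρ : k⟮x⟯ →+* PowerSeries L := ψ₁.toRingHom.comp (algebraMap k⟮x⟯ K)
  have hρ : ρ = ψ₂.toRingHom.comp (algebraMap k⟮x⟯ K) := RingHom.ext fun w => hagree _ w.2
  set f := m.map ρ
  have h1 : f.eval (ψ₁ z) = 0 := by
    rw [Polynomial.eval_map]
    have := congrArg ψ₁.toRingHom (minpoly.aeval k⟮x⟯ z)
    rwa [map_zero, Polynomial.aeval_def, Polynomial.hom_eval₂] at this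
  have h2 : f.eval (ψ₂ z) = 0 := by
    rw [Polynomial.eval_map, hρ]
    have := congrArg ψ₂.toRingHom (minpoly.aeval k⟮x⟯ z)
    rwa [map_zero, Polynomial.aeval_def, Polynomial.hom_eval₂] at this
  obtain ⟨c, hc2⟩ := Polynomial.binomExpansion f (ψ₂ z) (ψ₁ z - ψ₂ z)
  rw [add_sub_cancel, h1, h2, zero_add] at hc2
  have h3 : (ψ₁ z - ψ₂ z) * (f.derivative.eval (ψ₂ z) + c * (ψ₁ z - ψ₂ z)) = 0 := by
    rw [hc2]; ring
  refine sub_eq_zero.1 ((IsUnit.mul_left_eq_zero ?_).1 h3)
  rw [PowerSeries.isUnit_iff_constantCoeff, map_add, map_mul, map_sub, hc, sub_self, mul_zero, add_zero,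
    Polynomial.derivative_map, Polynomial.eval_map, hρ]
  show IsUnit (PowerSeries.constantCoeff (Polynomial.eval₂ _ (ψ₂.toRingHom z) _))
  rw [← Polynomial.hom_eval₂, isUnit_iff_ne_zero, ← RingHom.comp_apply]
  exact (map_ne_zero_iff _ (RingHom.injective _)).2
    ((Algebra.IsSeparable.isSeparable k⟮x⟯ z).aeval_derivative_ne_zero (minpoly.aeval _ _))

lemma hasse_unique {x : K} (hsep : Algebra.IsSeparable k⟮x⟯ K) {H H' : K →ₐ[k] PowerSeries K}
    (h : LocRes.IsHasseFamily x H) (h' : LocRes.IsHasseFamily x H') : H = H' :=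
  lift_unique hsep H H' (fun y => by rw [h.2, h'.2]) (by rw [h.1, h'.1])

section Family

variable {x : K} {H : K →ₐ[k] PowerSeries K}

lemma hasseD_zero (h : LocRes.IsHasseFamily x H) (y : K) : LocRes.hasseD H 0 y = y := by
  rw [LocRes.hasseD_apply, PowerSeries.coeff_zero_eq_constantCoeff_apply, h.2]

lemma hasseD_one_self (h : LocRes.IsHasseFamily x H) : LocRes.hasseD H 1 x = 1 := by
  rw [LocRes.hasseD_apply, h.1]; simp

lemma hasseD_mul (n : ℕ) (a b : K) : LocRes.hasseD H n (a * b) =
    ∑ ij ∈ Finset.HasAntidiagonal.antidiagonal n, LocRes.hasseD H ij.1 a * LocRes.hasseD H ij.2 b := by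
  simp only [LocRes.hasseD_apply, map_mul, PowerSeries.coeff_mul]

lemma hasseD_smul (n : ℕ) (c : k) (a : K) : LocRes.hasseD H n (c • a) = c • LocRes.hasseD H n a := by
  simp only [LocRes.hasseD_apply, map_smul]
  rw [Algebra.smul_def, Algebra.smul_def]
  show PowerSeries.coeff n (algebraMap k (PowerSeries K) c * H a) = _
  rw [show algebraMap k (PowerSeries K) c = PowerSeries.C (algebraMap k K c) from PowerSeries.algebraMap_apply, PowerSeries.coeff_C_mul]

/-- the derivation `d/dx` -/
noncomputable def dD (h : LocRes.IsHasseFamily x H) : Derivation k K K where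
  toFun y := LocRes.hasseD H 1 y
  map_add' a b := by simp [map_add]
  map_smul' c a := hasseD_smul 1 c a
  map_one_eq_zero' := by simp [map_one, PowerSeries.coeff_one]
  leibniz' a b := by
    show LocRes.hasseD H 1 (a * b) = a • LocRes.hasseD H 1 b + b • LocRes.hasseD H 1 a
    rw [hasseD_mul, show Finset.HasAntidiagonal.antidiagonal 1 = {((0 : ℕ), 1), (1, 0)} by decide,
      Finset.sum_insert (by decide), Finset.sum_singleton, hasseD_zero h, hasseD_zero h, smul_eq_mul,
      smul_eq_mul, mul_comm (LocRes.hasseD H 1 a)]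

lemma dD_apply (h : LocRes.IsHasseFamily x H) (y : K) : dD h y = LocRes.hasseD H 1 y := rfl

lemma D_ne_zero_of_hasse (h : LocRes.IsHasseFamily x H) : KaehlerDifferential.D k K x ≠ 0 := fun h0 => by
  have := congrArg (dD h).liftKaehlerDifferential h0
  rw [Derivation.liftKaehlerDifferential_comp_D, map_zero, dD_apply, hasseD_one_self h] at this
  exact one_ne_zero this

/-- `dy = (dy/dx) dx`. -/
lemma D_eq_smul (hx : IsSepVar k x) (h : LocRes.IsHasseFamily x H) (y : K) :
    KaehlerDifferential.D k K y = LocRes.hasseD H 1 y • KaehlerDifferential.D k K x := by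
  haveI := hx.finite
  haveI := hx.separable
  haveI : Algebra.FormallyUnramified k⟮x⟯ K := (Algebra.FormallyUnramified.iff_isSeparable k⟮x⟯ K).2 hx.separable
  let Δ : Derivation k K (Ω[K⁄k]) :=
    KaehlerDifferential.D k K - (LinearMap.toSpanSingleton K _ (KaehlerDifferential.D k K x)).compDer (dD h)
  have hΔ : ∀ y, Δ y = KaehlerDifferential.D k K y - LocRes.hasseD H 1 y • KaehlerDifferential.D k K x :=
    fun y => rfl
  have h0 : ∀ z ∈ k⟮x⟯, Δ z = 0 := fun z hz => by
    induction hz using IntermediateField.adjoin_induction with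
    | mem w hw => rw [Set.mem_singleton_iff] at hw; subst hw; rw [hΔ, hasseD_one_self h, one_smul, sub_self]
    | algebraMap c => exact Δ.map_algebraMap c
    | add a b _ _ ha hb => rw [map_add, ha, hb, add_zero]
    | inv a _ ha => rw [Derivation.leibniz_inv, ha, smul_zero]
    | mul a b _ _ ha hb => rw [Derivation.leibniz, ha, hb, smul_zero, smul_zero, add_zero]
  let Δ' : Derivation k⟮x⟯ K (Ω[K⁄k]) :=
    { toFun := Δ
      map_add' := map_add Δ
      map_smul' := fun c a => by
        show Δ (c • a) = c • Δ a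
        rw [Algebra.smul_def, Derivation.leibniz, show Δ (algebraMap k⟮x⟯ K c) = 0 from h0 _ c.2, smul_zero, add_zero,
          algebraMap_smul]
      map_one_eq_zero' := Δ.map_one_eq_zero
      leibniz' := Δ.leibniz }
  have : Δ' y = 0 := by
    rw [← Derivation.liftKaehlerDifferential_comp_D Δ' y, Subsingleton.elim (KaehlerDifferential.D k⟮x⟯ K y) 0,
      map_zero]
  rw [show Δ' y = Δ y from rfl, hΔ, sub_eq_zero] at this
  exact this

lemma finrank_kaehler (hx : IsSepVar k x) : Module.finrank K (Ω[K⁄k]) = 1 := by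
  obtain ⟨H, h⟩ := exists_hasse hx
  refine finrank_eq_one (KaehlerDifferential.D k K x) (D_ne_zero_of_hasse h) fun ω => ?_
  have : ω ∈ Submodule.span K {KaehlerDifferential.D k K x} := by
    have hω : ω ∈ Submodule.span K (Set.range (KaehlerDifferential.D k K)) := by
      rw [KaehlerDifferential.span_range_derivation]; trivial
    refine Submodule.span_le.2 ?_ hω
    rintro _ ⟨y, rfl⟩
    exact Submodule.mem_span_singleton.2 ⟨_, (D_eq_smul hx h y).symm⟩
  exact Submodule.mem_span_singleton.1 this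

end Family

section Criteria

variable (hK : IsFunctionField k K)
include hK

lemma isSepVar_of_separable {x : K} (hxt : Transcendental k x) (hsep : Algebra.IsSeparable k⟮x⟯ K) :
    IsSepVar k x := ⟨hxt, finite_adjoin hK.1 hxt, hsep⟩

lemma isSepVar_charZero [CharZero K] {x : K} (hxt : Transcendental k x) : IsSepVar k x := by
  haveI := finite_adjoin hK.1 hxt
  haveI : CharZero k⟮x⟯ := charZero_of_injective_ringHom (R := ℚ) (algebraMap ℚ k⟮x⟯).injective
  exact ⟨hxt, inferInstance, inferInstance⟩

lemma D_ne_zero_of_isSepVar {x : K} (hx : IsSepVar k x) : KaehlerDifferential.D k K x ≠ 0 := by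
  obtain ⟨H, h⟩ := exists_hasse hx
  exact D_ne_zero_of_hasse h

lemma D_eq_zero_of_not_transcendental {x : K} (hx : ¬ Transcendental k x) :
    KaehlerDifferential.D k K x = 0 := by
  obtain ⟨c, rfl⟩ := hK.2 x (not_not.1 hx)
  exact Derivation.map_algebraMap _ _

lemma isSepVar_iff_D_ne_zero (hG : Good k K) {x : K} :
    IsSepVar k x ↔ KaehlerDifferential.D k K x ≠ 0 := by
  refine ⟨D_ne_zero_of_isSepVar hK, fun hD => ?_⟩
  have hxt : Transcendental k x := by_contra fun h => hD (D_eq_zero_of_not_transcendental hK h)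
  obtain ⟨p, hp⟩ := CharP.exists K
  rcases CharP.char_is_prime_or_zero K p with hp' | rfl
  · haveI : Fact p.Prime := ⟨hp'⟩
    have hx : x ∉ kKp k K p := fun h => hD (D_eq_zero_of_mem p x h)
    exact ⟨hxt, finite_adjoin hK.1 hxt, isSeparable_of_notMem p hK (hG p) hx⟩
  · haveI := CharP.charP_to_charZero K
    exact isSepVar_charZero hK hxt

lemma exists_isSepVar (hG : Good k K) : ∃ x : K, IsSepVar k x := by
  obtain ⟨p, hp⟩ := CharP.exists K
  rcases CharP.char_is_prime_or_zero K p with hp' | rfl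
  · haveI : Fact p.Prime := ⟨hp'⟩
    have hne : kKp k K p ≠ ⊤ := fun h => by
      have := finrank_kKp p hK (hG p)
      rw [h, IntermediateField.finrank_top] at this
      exact hp'.one_lt.ne this
    obtain ⟨x, hx⟩ : ∃ x, x ∉ kKp k K p := by
      by_contra! h; exact hne (eq_top_iff.2 fun z _ => h z)
    exact ⟨x, transcendental_of_notMem_kKp p hK hx,
      finite_adjoin hK.1 (transcendental_of_notMem_kKp p hK hx), isSeparable_of_notMem p hK (hG p) hx⟩
  · haveI := CharP.charP_to_charZero K
    obtain ⟨x, hx⟩ := exists_transcendental hK.1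
    exact ⟨x, isSepVar_charZero hK hx⟩

end Criteria

end Groth.Agent.FF
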