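import Groth.Agent.FF.LR.LocTrace

/-! Residues of exact differentials; expansions. -/

set_option autoImplicit false
set_option linter.style.haveILetI false

open LaurentSeries HahnSeries WithZero

namespace Groth.Agent.FF.LR

variable {F : Type*} [Field F]

lemma res_zpow_mul_D_pos {y : F⸨X⸩} (hy : y ≠ 0) (hv : Valued.v y < (1 : ℤᵐ⁰)) {n : ℤ} (hn : n ≠ 0) :
    (y ^ (n - 1) * LocRes.D F y).coeff (-1) = 0 := by
  obtain ⟨a, u, hu, hyu, hva⟩ := exists_unit_form hy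
  rw [hva, ← exp_zero, exp_lt_exp] at hv
  obtain ⟨e, rfl⟩ := Int.eq_ofNat_of_zero_le (a := a) (by omega)
  have hys : y = ((sS e u : PowerSeries F) : F⸨X⸩) := by
    rw [hyu, sS, map_mul, HahnSeries.ofPowerSeries_X_pow]
  rcases lt_or_gt_of_ne hn with hneg | hpos
  · obtain ⟨q, hq⟩ := Int.eq_ofNat_of_zero_le (a := -n) (by omega)
    rw [show n - 1 = -(((q + 1 : ℕ)) : ℤ) by omega, zpow_neg, zpow_natCast, mul_comm, hys,
      LocRes.D_coe]
    exact res_pow_mul_D_eq_zero (by omega) hu (by omega)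
  · refine coeff_mul_D_eq_zero ?_ ?_
    · obtain ⟨q, hq⟩ := Int.eq_ofNat_of_zero_le (a := n - 1) (by omega)
      rw [hq, zpow_natCast, map_pow, hys]
      exact pow_le_one₀ zero_le (v_coe_le_one _)
    · rw [hys]; exact v_coe_le_one _

/-- `Res (y^(n-1) dy) = 0`. -/
lemma res_zpow_mul_D (y : F⸨X⸩) {n : ℤ} (hn : n ≠ 0) :
    (y ^ (n - 1) * LocRes.D F y).coeff (-1) = 0 := by
  rcases eq_or_ne y 0 with rfl | hy
  · rw [map_zero, mul_zero, HahnSeries.coeff_zero]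
  rcases lt_trichotomy (Valued.v y : ℤᵐ⁰) 1 with h | h | h
  · exact res_zpow_mul_D_pos hy h hn
  · refine coeff_mul_D_eq_zero ?_ h.le
    rw [map_zpow₀, h, one_zpow]
  · have hz : Valued.v (y⁻¹) < (1 : ℤᵐ⁰) := by
      rw [map_inv₀]; exact inv_lt_one_of_one_lt₀ h
    have := res_zpow_mul_D_pos (inv_ne_zero hy) hz (neg_ne_zero.2 hn)
    rw [Derivation.leibniz_inv, inv_zpow', smul_eq_mul] at this
    have e : y ^ (n - 1) * LocRes.D F y = -(y ^ (-(-n - 1)) * (-y⁻¹ ^ 2 * LocRes.D F y)) := by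
      rw [show -(-n - 1) = (n - 1) + 2 by ring, zpow_add₀ hy]
      have h2 : y ^ (2 : ℤ) * y⁻¹ ^ 2 = 1 := by
        rw [zpow_ofNat, ← mul_pow, mul_inv_cancel₀ hy, one_pow]
      calc y ^ (n - 1) * LocRes.D F y = y ^ (n - 1) * (y ^ (2 : ℤ) * y⁻¹ ^ 2) * LocRes.D F y := by
            rw [h2, mul_one]
        _ = _ := by ring
    rw [e, HahnSeries.coeff_neg, this, neg_zero]

variable {k K : Type*} [CommRing k] [Field K] [Algebra k K] [Algebra k F]
  {w : Valuation K ℤᵐ⁰} {φ : K →ₐ[k] F⸨X⸩}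

lemma resExp_inv_self (hφ : LocRes.IsExpansionAt w φ) {f : K} (hf : f ≠ 0) :
    LocRes.resExp φ f⁻¹ f = ((-WithZero.log (w f) : ℤ) : F) := by
  show (φ f⁻¹ * LocRes.D F (φ f)).coeff (-1) = _
  rw [map_inv₀, coeff_inv_mul_D, hφ.1 f]
  exact fun h => hf (φ.toRingHom.injective (by rw [map_zero]; exact h))

lemma resExp_zpow (φ : K →ₐ[k] F⸨X⸩) (f : K) {n : ℤ} (hn : n ≠ 0) :
    LocRes.resExp φ (f ^ (n - 1)) f = 0 := by
  show (φ (f ^ (n - 1)) * LocRes.D F (φ f)).coeff (-1) = 0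
  rw [map_zpow₀]
  exact res_zpow_mul_D _ hn

lemma resExp_le_one (hφ : LocRes.IsExpansionAt w φ) {y x : K} (hy : w y ≤ 1) (hx : w x ≤ 1) :
    LocRes.resExp φ y x = 0 :=
  coeff_mul_D_eq_zero (by rw [hφ.1]; exact hy) (by rw [hφ.1]; exact hx)

end Groth.Agent.FF.LR
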