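import Groth.Agent.FF.LR.DerivExp
import Groth.Agent.FF.LR.Residue

/-! Local residues: nondegeneracy. -/

set_option autoImplicit false
set_option linter.style.haveILetI false
set_option linter.unusedSectionVars false

open FunFld WithZero LaurentSeries

namespace Groth.Agent.FF

variable {k K F : Type*} [Field k] [Field K] [Algebra k K] [Field F] [Algebra k F]
  {φ : K →ₐ[k] F⸨X⸩} {P : Place k K}

/-- residue of `f dt/t` is the value of `f` -/
lemma resExp_div_uniformizer (hφ : LocRes.IsExpansionAt P.1 φ) {t : K} (ht : P.1 t = exp (-1 : ℤ))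
    {f : K} (hf : P.1 f ≤ 1) : LocRes.resExp φ (f / t) t = (φ f).coeff 0 := by
  have ht0 := ne_zero_of_val_eq_exp P ht
  obtain ⟨g, hg⟩ := LR.exists_coe (f := φ f) (by rw [hφ.1]; exact hf)
  obtain ⟨g', hg'⟩ : PowerSeries.X ∣ g - PowerSeries.C (PowerSeries.constantCoeff g) :=
    PowerSeries.X_dvd_iff.2 (by simp)
  have hL : ((φ t)⁻¹ * LocRes.D F (φ t)).coeff (-1) = 1 := by
    rw [LR.coeff_inv_mul_D (exp_ne_zero' hφ ht0), hφ.1, ht, log_exp]
    simp
  have hvL : Valued.v ((φ t)⁻¹ * LocRes.D F (φ t)) = exp (1 : ℤ) := by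
    rw [map_mul, map_inv₀, hφ.1, ht, v_D_uniformizer hφ ht, mul_one, ← exp_neg, neg_neg]
  show (φ (f / t) * LocRes.D F (φ t)).coeff (-1) = _
  rw [map_div₀, div_eq_mul_inv, mul_assoc, ← hg,
    show g = PowerSeries.C (PowerSeries.constantCoeff g) + PowerSeries.X * g' by rw [← hg']; ring,
    map_add, add_mul, HahnSeries.coeff_add, HahnSeries.ofPowerSeries_C, HahnSeries.C_mul_eq_smul,
    HahnSeries.coeff_smul, hL, smul_eq_mul, mul_one, LR.res_of_le_one (f := _ * _), add_zero]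
  · rw [HahnSeries.coeff_add, HahnSeries.C_apply, HahnSeries.coeff_single_same,
      show (((PowerSeries.X * g' : PowerSeries F) : F⸨X⸩)).coeff 0 = 0 from ?_, add_zero]
    rw [show (0 : ℤ) = ((0 : ℕ) : ℤ) from rfl, coeff_coe_powerSeries,
      PowerSeries.coeff_zero_eq_constantCoeff_apply, map_mul, PowerSeries.constantCoeff_X, zero_mul]
  · rw [map_mul, hvL, map_mul, HahnSeries.ofPowerSeries_X, map_mul, valuation_single_zpow]
    calc exp (-(1 : ℤ)) * Valued.v ((g' : F⸨X⸩)) * exp (1 : ℤ)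
        ≤ exp (-(1 : ℤ)) * 1 * exp (1 : ℤ) :=
          mul_le_mul' (mul_le_mul' le_rfl (LR.v_coe_le_one g')) le_rfl
      _ = 1 := by rw [mul_one, ← exp_add, neg_add_cancel, exp_zero]

lemma resExp_eq_mul (hφ : LocRes.IsExpansionAt P.1 φ) {t : K} (hts : IsSepVar k t)
    {H : K →ₐ[k] PowerSeries K} (hH : LocRes.IsHasseFamily t H) (u y : K) :
    LocRes.resExp φ u y = LocRes.resExp φ (u * LocRes.hasseD H 1 y) t := by
  show (φ u * LocRes.D F (φ y)).coeff (-1) = (φ (u * _) * LocRes.D F (φ t)).coeff (-1)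
  rw [D_exp φ hts hH y, map_mul, mul_assoc]

lemma exists_locRes_ne_zero [FiniteDimensional k F] [Algebra.IsSeparable k F]
    (hK : IsFunctionField k K) (hG : Good k K) (hφ : LocRes.IsExpansionAt P.1 φ) {x : K}
    (hx : KaehlerDifferential.D k K x ≠ 0) : ∃ y, LocRes.locRes φ y x ≠ 0 := by
  obtain ⟨t, ht⟩ := exists_uniformizer P
  have hts := (isSepVar_iff_D_ne_zero hK hG).2 (D_ne_zero_uniformizer hφ ht)
  obtain ⟨H, hH⟩ := exists_hasse hts
  have hx1 : LocRes.hasseD H 1 x ≠ 0 := fun h => hx (by rw [D_eq_smul hts hH x, h, zero_smul])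
  obtain ⟨a, ha⟩ : ∃ a : F, Algebra.trace k F a ≠ 0 := by
    by_contra! h
    exact Algebra.trace_ne_zero k F (LinearMap.ext h)
  obtain ⟨f, hf, hfa⟩ := hφ.2.1 a
  refine ⟨f / t / LocRes.hasseD H 1 x, ?_⟩
  rw [LocRes.locRes, resExp_eq_mul hφ hts hH, div_mul_cancel₀ _ hx1, resExp_div_uniformizer hφ ht hf, hfa]
  exact ha

end Groth.Agent.FF
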