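import Groth.Agent.FF.LR.LocTrace
import Groth.Prelude.Def_LocRes
import Mathlib.RingTheory.PowerSeries.Substitution
import Mathlib.RingTheory.Algebraic.Integral

/-! The map of completions attached to two expansions, one over the other. -/

set_option autoImplicit false
set_option linter.style.haveILetI false
set_option linter.unusedSectionVars false

open LaurentSeries WithZero

namespace Groth.Agent.FF.LR

section Aux

variable {F : Type*} [Field F]

local notation "V" => (Valued.v : Valuation F⸨X⸩ ℤᵐ⁰)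

lemma v_coe_le_iff (g : PowerSeries F) (n : ℕ) :
    V (g : F⸨X⸩) ≤ exp (-(n : ℤ)) ↔ PowerSeries.X ^ n ∣ g := by
  rw [valuation_le_iff_coeff_lt_eq_zero F, PowerSeries.X_pow_dvd_iff]
  constructor
  · intro h m hm
    have := h (m : ℤ) (by exact_mod_cast hm)
    rwa [coeff_coe_powerSeries] at this
  · intro h m hm
    rcases lt_or_ge m 0 with hm0 | hm0
    · rw [PowerSeries.coeff_coe, if_pos hm0]
    · lift m to ℕ using hm0
      rw [coeff_coe_powerSeries]
      exact h m (by exact_mod_cast hm)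

/-- the power series part of an integral Laurent series -/
noncomputable def toPS (f : F⸨X⸩) : PowerSeries F := PowerSeries.mk fun n => f.coeff (n : ℤ)

@[simp] lemma coeff_toPS (f : F⸨X⸩) (n : ℕ) : PowerSeries.coeff n (toPS f) = f.coeff (n : ℤ) :=
  PowerSeries.coeff_mk _ _

lemma toPS_coe (g : PowerSeries F) : toPS (g : F⸨X⸩) = g := by
  ext n; rw [coeff_toPS, coeff_coe_powerSeries]

lemma coe_toPS {f : F⸨X⸩} (h : V f ≤ 1) : ((toPS f : PowerSeries F) : F⸨X⸩) = f := by
  obtain ⟨g, rfl⟩ := exists_coe h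
  rw [toPS_coe]

lemma eq_of_forall_dvd {g h : PowerSeries F} (H : ∀ n : ℕ, PowerSeries.X ^ n ∣ g - h) : g = h := by
  ext n
  have := PowerSeries.X_pow_dvd_iff.1 (H (n + 1)) n (Nat.lt_succ_self n)
  rwa [map_sub, sub_eq_zero] at this

lemma dvd_sub_trunc (g : PowerSeries F) (n : ℕ) :
    PowerSeries.X ^ n ∣ g - ∑ i ∈ Finset.range n, PowerSeries.C (PowerSeries.coeff i g) * PowerSeries.X ^ i := by
  rw [PowerSeries.X_pow_dvd_iff]
  intro m hm
  rw [map_sub, map_sum, Finset.sum_eq_single m]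
  · simp
  · intro b _ hb
    rw [PowerSeries.coeff_C_mul_X_pow, if_neg (Ne.symm hb)]
  · exact fun h => absurd (Finset.mem_range.2 hm) h

/-- A power series algebraic over the coefficient field is constant. -/
lemma eq_C_of_algebraic {h : PowerSeries F} {q : Polynomial F} (hq : q ≠ 0)
    (hh : Polynomial.eval₂ (PowerSeries.C) h q = 0) :
    h = PowerSeries.C (PowerSeries.constantCoeff h) := by
  set a := PowerSeries.constantCoeff h
  obtain ⟨r, hr, hnd⟩ := Polynomial.exists_eq_pow_rootMultiplicity_mul_and_not_dvd q hq a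
  rw [hr, Polynomial.eval₂_mul, mul_eq_zero, Polynomial.eval₂_pow, Polynomial.eval₂_sub,
    Polynomial.eval₂_X, Polynomial.eval₂_C] at hh
  rcases hh with h1 | h1
  · exact sub_eq_zero.1 (eq_zero_of_pow_eq_zero h1)
  · exfalso
    apply hnd
    rw [Polynomial.dvd_iff_isRoot, Polynomial.IsRoot.def]
    have := congrArg PowerSeries.constantCoeff h1
    rw [Polynomial.hom_eval₂, map_zero,
      show (PowerSeries.constantCoeff (R := F)).comp PowerSeries.C = RingHom.id F from
        RingHom.ext fun x => PowerSeries.constantCoeff_C x] at this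
    exact this

variable {e : ℕ} {u : PowerSeries F}

lemma hasSubst_sS (he : 0 < e) : PowerSeries.HasSubst (sS e u) :=
  PowerSeries.HasSubst.of_constantCoeff_zero' (by simp [sS, he.ne'])

end Aux

section Io

variable {F F' : Type*} [Field F] [Field F'] {e : ℕ}

/-- `∑ aᵢ Xⁱ ↦ ∑ σ(aᵢ) sⁱ` -/
noncomputable def io (σ : F →+* F') (u : PowerSeries F') (he : 0 < e) :
    PowerSeries F →+* PowerSeries F' :=
  (PowerSeries.substAlgHom (hasSubst_sS (u := u) he) : PowerSeries F' →ₐ[F'] PowerSeries F').toRingHom.comp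
    (PowerSeries.map σ)

variable {σ : F →+* F'} {u : PowerSeries F'} {he : 0 < e}

lemma io_apply (g : PowerSeries F) : io σ u he g = (PowerSeries.map σ g).subst (sS e u) := by
  show (PowerSeries.substAlgHom (hasSubst_sS (u := u) he)) _ = _
  rw [PowerSeries.coe_substAlgHom]

lemma io_C (c : F) : io σ u he (PowerSeries.C c) = PowerSeries.C (σ c) := by
  rw [io_apply, PowerSeries.map_C, PowerSeries.subst_C]
  rfl

lemma io_X : io σ u he PowerSeries.X = sS e u := by
  rw [io_apply, PowerSeries.map_X, PowerSeries.subst_X (hasSubst_sS he)]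

lemma ringHom_ext {G : PowerSeries F →+* PowerSeries F'} (hC : ∀ c, G (PowerSeries.C c) = PowerSeries.C (σ c))
    (hX : G PowerSeries.X = sS e u) : G = io σ u he := by
  refine RingHom.ext fun g => eq_of_forall_dvd fun n => ?_
  obtain ⟨r, hr⟩ := dvd_sub_trunc g n
  rw [sub_eq_iff_eq_add] at hr
  have hsum : G (∑ i ∈ Finset.range n, PowerSeries.C (PowerSeries.coeff i g) * PowerSeries.X ^ i) =
      io σ u he (∑ i ∈ Finset.range n, PowerSeries.C (PowerSeries.coeff i g) * PowerSeries.X ^ i) := by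
    simp only [map_sum, map_mul, map_pow, hC, hX, io_C, io_X]
  rw [hr, map_add, map_add, hsum, add_sub_add_right_eq_sub, map_mul, map_mul, map_pow, map_pow, hX, io_X,
    ← mul_sub]
  exact Dvd.dvd.mul_right (pow_dvd_pow_of_dvd ((dvd_pow_self _ he.ne').mul_right u) n) _

lemma io_injective (hu : PowerSeries.constantCoeff u ≠ 0) : Function.Injective (io σ u he) := by
  rw [injective_iff_map_eq_zero]
  intro g hg
  by_contra hg0
  obtain ⟨n, w, hw, hn, -⟩ := exists_unit_form (f := (g : F⸨X⸩))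
    (fun h => hg0 (HahnSeries.ofPowerSeries_injective (Γ := ℤ) (h.trans (map_zero _).symm)))
  have hn0 : 0 ≤ n := by
    by_contra! h
    have h2 := congrArg (fun f : F⸨X⸩ => f.coeff n) hn
    simp only [PowerSeries.coeff_coe, if_pos h, HahnSeries.coeff_single_mul, one_mul, sub_self] at h2
    exact hw (by simpa using h2.symm)
  lift n to ℕ using hn0
  have hg2 : g = PowerSeries.X ^ n * w := by
    apply HahnSeries.ofPowerSeries_injective (Γ := ℤ)
    rw [hn, map_mul, map_pow, HahnSeries.ofPowerSeries_X, HahnSeries.single_pow]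
    simp
  rw [hg2, map_mul, map_pow, io_X] at hg
  rcases mul_eq_zero.1 hg with h | h
  · refine pow_ne_zero n ?_ h
    intro h0
    rcases mul_eq_zero.1 h0 with h1 | h1
    · exact pow_ne_zero _ PowerSeries.X_ne_zero h1
    · exact hu (by rw [h1, map_zero])
  · exact ((PowerSeries.isUnit_iff_constantCoeff.2 (isUnit_iff_ne_zero.2 hw)).map (io σ u he)).ne_zero h

/-- extension to Laurent series -/
noncomputable def ioL (hu : PowerSeries.constantCoeff u ≠ 0) : F⸨X⸩ →+* F'⸨X⸩ :=
  IsFractionRing.lift (g := (HahnSeries.ofPowerSeries ℤ F').comp (io σ u he))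
    (HahnSeries.ofPowerSeries_injective.comp (io_injective hu))

lemma ioL_coe (hu : PowerSeries.constantCoeff u ≠ 0) (g : PowerSeries F) :
    ioL (σ := σ) (he := he) hu (g : F⸨X⸩) = ((io σ u he g : PowerSeries F') : F'⸨X⸩) :=
  IsFractionRing.lift_algebraMap _ g

lemma D_io (g : PowerSeries F) :
    PowerSeries.derivative F' (io σ u he g) =
      io σ u he (PowerSeries.derivative F g) * PowerSeries.derivative F' (sS e u) := by
  rw [io_apply, io_apply, PowerSeries.derivative_subst (hasSubst_sS he)]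
  congr 2
  ext n
  simp [PowerSeries.coeff_derivative]

/-- chain rule -/
lemma D_ioL (hu : PowerSeries.constantCoeff u ≠ 0) (f : F⸨X⸩) :
    LocRes.D F' (ioL (σ := σ) (he := he) hu f) = ioL (σ := σ) (he := he) hu (LocRes.D F f) *
      ((PowerSeries.derivative F' (sS e u) : PowerSeries F') : F'⸨X⸩) := by
  obtain ⟨a, b, hb, rfl⟩ := IsFractionRing.div_surjective (A := PowerSeries F) f
  have hb0 : (b : F⸨X⸩) ≠ 0 := IsFractionRing.to_map_ne_zero_of_mem_nonZeroDivisors hb
  show LocRes.D F' (ioL (σ := σ) (he := he) hu ((a : F⸨X⸩) / (b : F⸨X⸩))) = _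
  rw [map_div₀, Derivation.leibniz_div, show algebraMap (PowerSeries F) F⸨X⸩ a = (a : F⸨X⸩) from rfl,
    show algebraMap (PowerSeries F) F⸨X⸩ b = (b : F⸨X⸩) from rfl, Derivation.leibniz_div, ioL_coe,
    ioL_coe, LocRes.D_coe, LocRes.D_coe, LocRes.D_coe, LocRes.D_coe, D_io, D_io]
  simp only [smul_eq_mul, map_mul, map_sub, map_pow, map_inv₀, ioL_coe]
  ring

end Io

/-- `φ` below, `ψ` above, with ramification index `e` -/
structure LiesOver {k K K' F F' : Type*} [CommRing k] [Field K] [Field K'] [Algebra k K] [Algebra k K']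
    [Algebra K K'] [Field F] [Field F'] [Algebra k F] [Algebra k F']
    (φ : K →ₐ[k] F⸨X⸩) (ψ : K' →ₐ[k] F'⸨X⸩) (e : ℕ) where
  σ : F →ₐ[k] F'
  u : PowerSeries F'
  hu : PowerSeries.constantCoeff u ≠ 0
  he : 0 < e
  map : ∀ a : K, ψ (algebraMap K K' a) = ioL (σ := σ.toRingHom) (he := he) hu (φ a)

section Exists

variable {k K K' F F' : Type*} [Field k] [Field K] [Field K'] [Algebra k K] [Algebra k K']
    [Algebra K K'] [IsScalarTower k K K'] [Field F] [Field F'] [Algebra k F] [Algebra k F']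
    {φ : K →ₐ[k] F⸨X⸩} {ψ : K' →ₐ[k] F'⸨X⸩} {vK : Valuation K ℤᵐ⁰} {w : Valuation K' ℤᵐ⁰} {e : ℕ}

/-- density -/
lemma exists_approx (hφ : LocRes.IsExpansionAt vK φ) (g : PowerSeries F) (n : ℕ) :
    ∃ a : K, vK a ≤ 1 ∧ PowerSeries.X ^ n ∣ toPS (φ a) - g := by
  obtain ⟨t, ht⟩ := hφ.2.2
  have htv : Valued.v (φ t) = exp (-1 : ℤ) := by rw [hφ.1, ht]
  have htV : Valued.v (φ t) ≤ (1 : ℤᵐ⁰) := by
    rw [htv, ← exp_zero, exp_le_exp]; norm_num
  set T := toPS (φ t)
  obtain ⟨T1, hT1⟩ : PowerSeries.X ∣ T := by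
    simpa using (v_coe_le_iff T 1).1 (by rw [coe_toPS htV, htv]; simp)
  have hT1u : PowerSeries.constantCoeff T1 ≠ 0 := by
    intro h
    obtain ⟨T2, hT2⟩ := PowerSeries.X_dvd_iff.2 h
    have : Valued.v ((T : PowerSeries F) : F⸨X⸩) ≤ exp (-((2 : ℕ) : ℤ)) :=
      (v_coe_le_iff T 2).2 ⟨T2, by rw [hT1, hT2]; ring⟩
    rw [coe_toPS htV, htv, exp_le_exp] at this
    norm_num at this
  induction n with
  | zero => exact ⟨0, by simp, by simp⟩
  | succ n ih =>
    obtain ⟨a, ha, r, hr⟩ := ih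
    obtain ⟨c, hc, hcc⟩ := hφ.2.1 (-(PowerSeries.constantCoeff r / PowerSeries.constantCoeff T1 ^ n))
    refine ⟨a + c * t ^ n, (vK.map_add _ _).trans (max_le ha ?_), ?_⟩
    · rw [map_mul, map_pow]
      exact mul_le_one' hc (pow_le_one₀ zero_le (by rw [ht, ← exp_zero, exp_le_exp]; norm_num))
    have hcV : Valued.v (φ c) ≤ (1 : ℤᵐ⁰) := by rw [hφ.1]; exact hc
    have e1 : toPS (φ (a + c * t ^ n)) = toPS (φ a) + toPS (φ c) * T ^ n := by
      refine (congrArg toPS ?_).trans (toPS_coe _)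
      rw [map_add, map_mul, map_pow, PowerSeries.coe_add, PowerSeries.coe_mul, PowerSeries.coe_pow,
        coe_toPS (by rw [hφ.1]; exact ha), coe_toPS hcV, coe_toPS htV]
    rw [e1, show toPS (φ a) + toPS (φ c) * T ^ n - g = (toPS (φ a) - g) + toPS (φ c) * T ^ n by ring, hr,
      hT1, mul_pow, pow_succ, show PowerSeries.X ^ n * r + toPS (φ c) * (PowerSeries.X ^ n * T1 ^ n) =
        PowerSeries.X ^ n * (r + toPS (φ c) * T1 ^ n) by ring]
    refine mul_dvd_mul_left _ (PowerSeries.X_dvd_iff.2 ?_)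
    rw [map_add, map_mul, map_pow, ← PowerSeries.coeff_zero_eq_constantCoeff_apply (toPS (φ c)), coeff_toPS,
      Nat.cast_zero, hcc, neg_mul, div_mul_cancel₀ _ (pow_ne_zero _ hT1u), add_neg_cancel]

theorem exists_liesOver [Algebra.IsAlgebraic k F] (hφ : LocRes.IsExpansionAt vK φ)
    (hψ : LocRes.IsExpansionAt w ψ) (he : 0 < e) (hw : ∀ a : K, w (algebraMap K K' a) = vK a ^ e) :
    Nonempty (LiesOver φ ψ e) := by
  classical
  choose ap hap1 hap2 using exists_approx (φ := φ) hφ
  let pf : K → PowerSeries F' := fun a => toPS (ψ (algebraMap K K' a))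
  have hint : ∀ a : K, vK a ≤ 1 → Valued.v (φ a) ≤ (1 : ℤᵐ⁰) := fun a ha => by rw [hφ.1]; exact ha
  have hint' : ∀ a : K, vK a ≤ 1 → Valued.v (ψ (algebraMap K K' a)) ≤ (1 : ℤᵐ⁰) := fun a ha => by
    rw [hψ.1, hw]; exact pow_le_one₀ zero_le ha
  have hwd : ∀ a b : K, vK a ≤ 1 → vK b ≤ 1 → ∀ n : ℕ, PowerSeries.X ^ n ∣ toPS (φ a) - toPS (φ b) →
      PowerSeries.X ^ n ∣ pf a - pf b := by
    intro a b ha hb n h
    rw [← v_coe_le_iff, PowerSeries.coe_sub, coe_toPS (hint a ha), coe_toPS (hint b hb), ← map_sub,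
      hφ.1] at h
    rw [← v_coe_le_iff, PowerSeries.coe_sub, coe_toPS (hint' a ha), coe_toPS (hint' b hb), ← map_sub,
      ← map_sub, hψ.1, hw]
    refine (pow_le_pow_left₀ zero_le h e).trans ?_
    rw [← exp_nsmul, exp_le_exp, nsmul_eq_mul]
    nlinarith
  let ι : PowerSeries F → PowerSeries F' :=
    fun g => PowerSeries.mk fun m => PowerSeries.coeff m (pf (ap g (m + 1)))
  have key : ∀ (g : PowerSeries F) (a : K) (n : ℕ), vK a ≤ 1 → PowerSeries.X ^ n ∣ toPS (φ a) - g →
      PowerSeries.X ^ n ∣ pf a - ι g := by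
    intro g a n ha h
    rw [PowerSeries.X_pow_dvd_iff]
    intro m hm
    have h2 : PowerSeries.X ^ (m + 1) ∣ toPS (φ a) - toPS (φ (ap g (m + 1))) := by
      rw [show toPS (φ a) - toPS (φ (ap g (m + 1))) =
        (toPS (φ a) - g) - (toPS (φ (ap g (m + 1))) - g) by ring]
      exact dvd_sub ((pow_dvd_pow _ hm).trans h) (hap2 g (m + 1))
    have h3 := PowerSeries.X_pow_dvd_iff.1 (hwd a _ ha (hap1 _ _) (m + 1) h2) m (Nat.lt_succ_self m)
    simpa [ι] using h3
  have exact' : ∀ a : K, vK a ≤ 1 → ι (toPS (φ a)) = pf a := fun a ha =>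
    (eq_of_forall_dvd fun n => key _ a n ha (by simp)).symm
  have hhom : ∀ (op : PowerSeries F → PowerSeries F → PowerSeries F)
      (op' : PowerSeries F' → PowerSeries F' → PowerSeries F') (opK : K → K → K),
      (∀ a b, vK a ≤ 1 → vK b ≤ 1 → vK (opK a b) ≤ 1 ∧ toPS (φ (opK a b)) = op (toPS (φ a)) (toPS (φ b)) ∧
        pf (opK a b) = op' (pf a) (pf b)) →
      (∀ n (x x' y y' : PowerSeries F), PowerSeries.X ^ n ∣ x - x' → PowerSeries.X ^ n ∣ y - y' →
        PowerSeries.X ^ n ∣ op x y - op x' y') →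
      (∀ n (x x' y y' : PowerSeries F'), PowerSeries.X ^ n ∣ x - x' → PowerSeries.X ^ n ∣ y - y' →
        PowerSeries.X ^ n ∣ op' x y - op' x' y') →
      ∀ g h, ι (op g h) = op' (ι g) (ι h) := by
    intro op op' opK hop hc hc' g h
    refine eq_of_forall_dvd fun n => ?_
    obtain ⟨h1, h2, h3⟩ := hop (ap g n) (ap h n) (hap1 _ _) (hap1 _ _)
    have e1 := key (op g h) _ n h1 (h2 ▸ hc n _ _ _ _ (hap2 g n) (hap2 h n))
    have e2 := hc' n _ _ _ _ (key g _ n (hap1 g n) (hap2 g n)) (key h _ n (hap1 h n) (hap2 h n))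
    rw [h3] at e1
    have := dvd_sub e2 e1
    rwa [show op' (pf (ap g n)) (pf (ap h n)) - op' (ι g) (ι h) - (op' (pf (ap g n)) (pf (ap h n)) - ι (op g h))
      = ι (op g h) - op' (ι g) (ι h) by ring] at this
  let ιh : PowerSeries F →+* PowerSeries F' :=
    { toFun := ι
      map_one' := by
        have := exact' 1 (by simp)
        simp only [pf] at this
        rwa [map_one, map_one, map_one, ← PowerSeries.coe_one, toPS_coe, ← PowerSeries.coe_one, toPS_coe] at this
      map_zero' := by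
        have := exact' 0 (by simp)
        simp only [pf] at this
        rwa [map_zero, map_zero, map_zero, ← PowerSeries.coe_zero, toPS_coe, ← PowerSeries.coe_zero, toPS_coe] at this
      map_add' := hhom (· + ·) (· + ·) (· + ·) (fun a b ha hb => ⟨(vK.map_add _ _).trans (max_le ha hb),
        by ext n; simp, by ext n; simp [pf]⟩)
        (fun n x x' y y' h1 h2 => by rw [add_sub_add_comm]; exact dvd_add h1 h2)
        (fun n x x' y y' h1 h2 => by rw [add_sub_add_comm]; exact dvd_add h1 h2)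
      map_mul' := hhom (· * ·) (· * ·) (· * ·) (fun a b ha hb => ⟨by rw [map_mul]; exact mul_le_one' ha hb, by
          refine (congrArg toPS ?_).trans (toPS_coe _)
          rw [PowerSeries.coe_mul, coe_toPS (hint a ha), coe_toPS (hint b hb), map_mul], by
          refine (congrArg toPS ?_).trans (toPS_coe _)
          rw [PowerSeries.coe_mul, coe_toPS (hint' a ha), coe_toPS (hint' b hb), map_mul, map_mul]⟩)
        (fun n x x' y y' h1 h2 => by
          rw [show x * y - x' * y' = x * (y - y') + (x - x') * y' by ring]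
          exact dvd_add (Dvd.dvd.mul_left h2 _) (Dvd.dvd.mul_right h1 _))
        (fun n x x' y y' h1 h2 => by
          rw [show x * y - x' * y' = x * (y - y') + (x - x') * y' by ring]
          exact dvd_add (Dvd.dvd.mul_left h2 _) (Dvd.dvd.mul_right h1 _)) }
  -- constants
  have hk : ∀ r : k, ιh (PowerSeries.C (algebraMap k F r)) = PowerSeries.C (algebraMap k F' r) := by
    intro r
    have h1 : vK (algebraMap k K r) ≤ 1 := by
      rw [← hφ.1, LocRes.map_algebraMap, ← HahnSeries.ofPowerSeries_C]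
      exact v_coe_le_one _
    have h2 := exact' _ h1
    simp only [pf] at h2
    rwa [← IsScalarTower.algebraMap_apply, LocRes.map_algebraMap, LocRes.map_algebraMap,
      ← HahnSeries.ofPowerSeries_C, ← HahnSeries.ofPowerSeries_C, toPS_coe, toPS_coe] at h2
  have hconst : ∀ c : F, ιh (PowerSeries.C c) =
      PowerSeries.C (PowerSeries.constantCoeff (ιh (PowerSeries.C c))) := by
    intro c
    obtain ⟨p, hp, hpc⟩ := Algebra.IsAlgebraic.isAlgebraic (R := k) c
    refine eq_C_of_algebraic (q := p.map (algebraMap k F')) ((Polynomial.map_ne_zero_iff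
      (algebraMap k F').injective).2 hp) ?_
    have h := congrArg ιh (congrArg PowerSeries.C hpc)
    rw [Polynomial.aeval_def, Polynomial.hom_eval₂, Polynomial.hom_eval₂, map_zero, map_zero] at h
    rw [Polynomial.eval₂_map, ← h]
    congr 1
    exact RingHom.ext fun r => (hk r).symm
  let σ : F →ₐ[k] F' :=
    { (PowerSeries.constantCoeff.comp (ιh.comp PowerSeries.C) : F →+* F') with
      commutes' := fun r => by
        show PowerSeries.constantCoeff (ιh (PowerSeries.C (algebraMap k F r))) = _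
        rw [hk, PowerSeries.constantCoeff_C] }
  -- the parameter
  obtain ⟨t, ht⟩ := hφ.2.2
  have ht1 : vK t ≤ 1 := by rw [ht, ← exp_zero, exp_le_exp]; norm_num
  obtain ⟨T1, hT1⟩ : PowerSeries.X ∣ toPS (φ t) := by
    simpa using (v_coe_le_iff (toPS (φ t)) 1).1 (by rw [coe_toPS (hint t ht1), hφ.1, ht]; simp)
  have hT1u : IsUnit T1 := by
    rw [PowerSeries.isUnit_iff_constantCoeff, isUnit_iff_ne_zero]
    intro h
    obtain ⟨T2, hT2⟩ := PowerSeries.X_dvd_iff.2 h
    have := (v_coe_le_iff (toPS (φ t)) 2).2 ⟨T2, by rw [hT1, hT2]; ring⟩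
    rw [coe_toPS (hint t ht1), hφ.1, ht, exp_le_exp] at this
    norm_num at this
  set s := ιh PowerSeries.X
  have hs_v : Valued.v ((s : PowerSeries F') : F'⸨X⸩) = exp (-(e : ℤ)) := by
    have h1 : pf t = s * ιh T1 := by
      rw [← exact' t ht1, hT1]; exact map_mul ιh _ _
    have h2 := congrArg (fun g : PowerSeries F' => Valued.v (g : F'⸨X⸩)) h1
    simp only [pf, coe_toPS (hint' t ht1), hψ.1, hw, ht, PowerSeries.coe_mul, map_mul,
      v_coe_of_constantCoeff ((PowerSeries.isUnit_iff_constantCoeff.1 (hT1u.map ιh)).ne_zero), mul_one] at h2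
    rw [← h2, ← exp_nsmul]; simp
  obtain ⟨u, hu⟩ := (v_coe_le_iff s e).1 hs_v.le
  have hu0 : PowerSeries.constantCoeff u ≠ 0 := by
    intro h
    obtain ⟨u2, hu2⟩ := PowerSeries.X_dvd_iff.2 h
    have := (v_coe_le_iff s (e + 1)).2 ⟨u2, by rw [hu, hu2]; ring⟩
    rw [hs_v, exp_le_exp] at this
    push_cast at this; omega
  have hio : ιh = io σ.toRingHom u he := ringHom_ext hconst hu
  refine ⟨⟨σ, u, hu0, he, fun a => ?_⟩⟩
  have hint_eq : ∀ a : K, vK a ≤ 1 →
      ψ (algebraMap K K' a) = ioL (σ := σ.toRingHom) (he := he) hu0 (φ a) := fun a ha => by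
    rw [← coe_toPS (hint a ha), ioL_coe, ← hio]
    show _ = (((ι (toPS (φ a)) : PowerSeries F')) : F'⸨X⸩)
    rw [exact' a ha, coe_toPS (hint' a ha)]
  by_cases ha : vK a ≤ 1
  · exact hint_eq a ha
  · have := hint_eq a⁻¹ (by rw [map_inv₀]; exact inv_le_one_of_one_le₀ (le_of_not_ge ha))
    rw [map_inv₀, map_inv₀, map_inv₀, map_inv₀] at this
    exact inv_injective this

end Exists

end Groth.Agent.FF.LR
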