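import Groth.Agent.FF.LR.LocalMap
import Mathlib.RingTheory.Trace.Basic
import Mathlib.LinearAlgebra.Matrix.NonsingularInverse
import Mathlib.LinearAlgebra.Matrix.ToLinearEquiv

/-! Trace = sum of local traces, and residues of traces. -/

set_option autoImplicit false
set_option linter.style.haveILetI false
set_option linter.unusedSectionVars false

open LaurentSeries WithZero

namespace Groth.Agent.FF.LR

section Coord

variable {F : Type*} [Field F] {e : ℕ} {u : PowerSeries F}

lemma io_id_apply (he : 0 < e) (g : PowerSeries F) :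
    io (RingHom.id F) u he g = g.subst (sS e u) := by
  rw [io_apply, PowerSeries.map_id]
  rfl

lemma constantCoeff_io_id (he : 0 < e) (g : PowerSeries F) {n : ℕ} (hn : n < e) :
    PowerSeries.coeff n (io (RingHom.id F) u he g) = if n = 0 then PowerSeries.constantCoeff g else 0 := by
  obtain ⟨r, hr⟩ := dvd_sub_trunc g 1
  rw [sub_eq_iff_eq_add] at hr
  conv_lhs => rw [hr]
  simp only [Finset.range_one, Finset.sum_singleton, pow_zero, mul_one, pow_one,
    PowerSeries.coeff_zero_eq_constantCoeff_apply, map_add, map_mul, io_X, io_C, RingHom.id_apply,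
    PowerSeries.coeff_C]
  rw [show PowerSeries.coeff n (sS e u * io (RingHom.id F) u he r) = 0 from
    PowerSeries.X_pow_dvd_iff.1 (Dvd.dvd.mul_right ((dvd_refl _).mul_right u) _) n hn, zero_add]

lemma next_sum (he : 0 < e) (hu : PowerSeries.constantCoeff u ≠ 0) (g : Fin e → PowerSeries F) :
    (∀ l : Fin e, PowerSeries.coeff (l : ℕ)
      (∑ m : Fin e, io (RingHom.id F) u he (g m) * PowerSeries.X ^ (m : ℕ)) = PowerSeries.constantCoeff (g l)) ∧
    ∀ g' : Fin e → PowerSeries F, (∀ m, g m = PowerSeries.C (PowerSeries.constantCoeff (g m)) + PowerSeries.X * g' m) →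
      next e u (∑ m : Fin e, io (RingHom.id F) u he (g m) * PowerSeries.X ^ (m : ℕ)) =
        ∑ m : Fin e, io (RingHom.id F) u he (g' m) * PowerSeries.X ^ (m : ℕ) := by
  set f := ∑ m : Fin e, io (RingHom.id F) u he (g m) * PowerSeries.X ^ (m : ℕ) with hf
  have h1 : ∀ l : Fin e, PowerSeries.coeff (l : ℕ) f = PowerSeries.constantCoeff (g l) := by
    intro l
    rw [hf, map_sum, Finset.sum_eq_single l]
    · rw [PowerSeries.coeff_mul_X_pow', if_pos le_rfl, Nat.sub_self, constantCoeff_io_id he _ he, if_pos rfl]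
    · intro m _ hm
      rw [PowerSeries.coeff_mul_X_pow']
      split_ifs with h
      · have hlt : (l : ℕ) - m < e := lt_of_le_of_lt (Nat.sub_le _ _) l.2
        rw [constantCoeff_io_id he _ hlt, if_neg]
        intro h0
        exact hm (Fin.ext (le_antisymm h (Nat.sub_eq_zero_iff_le.1 h0)))
      · rfl
    · exact fun h => absurd (Finset.mem_univ _) h
  refine ⟨h1, fun g' hg' => ?_⟩
  have hs : sS e u ≠ 0 := by
    intro h0
    rcases mul_eq_zero.1 h0 with h | h
    · exact pow_ne_zero _ PowerSeries.X_ne_zero h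
    · exact hu (by rw [h, map_zero])
  refine mul_left_cancel₀ hs ?_
  have h2 := split_low (e := e) hu f
  simp only [h1] at h2
  have h3 : f = (∑ m : Fin e, PowerSeries.C (PowerSeries.constantCoeff (g m)) * PowerSeries.X ^ (m : ℕ)) +
      sS e u * ∑ m : Fin e, io (RingHom.id F) u he (g' m) * PowerSeries.X ^ (m : ℕ) := by
    rw [hf, Finset.mul_sum, ← Finset.sum_add_distrib]
    refine Finset.sum_congr rfl fun m _ => ?_
    conv_lhs => rw [hg' m]
    rw [map_add, map_mul, io_C, io_X, RingHom.id_apply]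
    ring
  exact add_left_cancel (h2.symm.trans h3)

lemma coord_sum (he : 0 < e) (hu : PowerSeries.constantCoeff u ≠ 0) (g : Fin e → PowerSeries F) (l : Fin e) :
    coord e u (∑ m : Fin e, io (RingHom.id F) u he (g m) * PowerSeries.X ^ (m : ℕ)) l = g l := by
  ext q
  rw [coord, PowerSeries.coeff_mk]
  induction q generalizing g with
  | zero =>
    rw [Function.iterate_zero, id, (next_sum he hu g).1, PowerSeries.coeff_zero_eq_constantCoeff_apply]
  | succ q ih =>
    have hg' : ∀ m, g m = PowerSeries.C (PowerSeries.constantCoeff (g m)) +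
        PowerSeries.X * PowerSeries.mk fun n => PowerSeries.coeff (n + 1) (g m) := fun m => by
      conv_lhs => rw [PowerSeries.eq_X_mul_shift_add_const (g m)]
      rw [add_comm]
    rw [Function.iterate_succ_apply, (next_sum he hu g).2 _ hg', ih, PowerSeries.coeff_mk]

lemma sum_coord (he : 0 < e) (hu : PowerSeries.constantCoeff u ≠ 0) (f : PowerSeries F) :
    ∑ l : Fin e, io (RingHom.id F) u he (coord e u f l) * PowerSeries.X ^ (l : ℕ) = f := by
  refine eq_of_forall_dvd fun n => ?_
  have hX : (PowerSeries.X : PowerSeries F) ∣ sS e u := (dvd_pow_self _ he.ne').mul_right u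
  have key : ∀ l : Fin e, PowerSeries.X ^ n ∣ io (RingHom.id F) u he (coord e u f l) -
      ∑ q ∈ Finset.range n, PowerSeries.C (PowerSeries.coeff q (coord e u f l)) * sS e u ^ q := by
    intro l
    obtain ⟨r, hr⟩ := dvd_sub_trunc (coord e u f l) n
    have := congrArg (io (RingHom.id F) u he) hr
    simp only [map_sub, map_sum, map_mul, map_pow, io_C, io_X, RingHom.id_apply] at this
    rw [this]
    exact Dvd.dvd.mul_right (pow_dvd_pow_of_dvd hX n) _
  conv => enter [2, 2]; rw [decomp (e := e) hu f n]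
  rw [← sub_sub, Finset.sum_comm, ← Finset.sum_sub_distrib]
  refine dvd_sub (Finset.dvd_sum fun l _ => ?_) (Dvd.dvd.mul_right (pow_dvd_pow_of_dvd hX n) _)
  rw [← Finset.sum_mul, ← sub_mul]
  exact Dvd.dvd.mul_right (key l) _

lemma coord_io_mul (he : 0 < e) (hu : PowerSeries.constantCoeff u ≠ 0) (c f : PowerSeries F) (l : Fin e) :
    coord e u (io (RingHom.id F) u he c * f) l = c * coord e u f l := by
  conv_lhs => rw [← sum_coord he hu f, Finset.mul_sum]
  simp only [← mul_assoc, ← map_mul]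
  rw [coord_sum he hu]

lemma coord_finset_sum (he : 0 < e) (hu : PowerSeries.constantCoeff u ≠ 0) {ι : Type*} (s : Finset ι)
    (f : ι → PowerSeries F) (l : Fin e) : coord e u (∑ i ∈ s, f i) l = ∑ i ∈ s, coord e u (f i) l := by
  have h : ∑ i ∈ s, f i =
      ∑ m : Fin e, io (RingHom.id F) u he (∑ i ∈ s, coord e u (f i) m) * PowerSeries.X ^ (m : ℕ) := by
    simp only [map_sum, Finset.sum_mul]
    rw [Finset.sum_comm]
    exact Finset.sum_congr rfl fun i _ => (sum_coord he hu (f i)).symm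
  conv_lhs => rw [h]
  rw [coord_sum he hu]

lemma coord_mul (he : 0 < e) (hu : PowerSeries.constantCoeff u ≠ 0) (p f : PowerSeries F) (m : Fin e) :
    coord e u (p * f) m = ∑ l : Fin e, coord e u f l * coord e u (p * PowerSeries.X ^ (l : ℕ)) m := by
  conv_lhs => rw [← sum_coord he hu f, Finset.mul_sum]
  rw [coord_finset_sum he hu]
  refine Finset.sum_congr rfl fun l _ => ?_
  rw [mul_left_comm, coord_io_mul he hu]

lemma trSum_io_mul (he : 0 < e) (hu : PowerSeries.constantCoeff u ≠ 0) (c f : PowerSeries F) :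
    trSum e u (io (RingHom.id F) u he c * f) = c * trSum e u f := by
  simp only [trSum, Finset.mul_sum, mul_assoc, coord_io_mul he hu]

end Coord

section Rep

variable {F F' : Type*} [Field F] [Field F'] [Algebra F F'] {κ : Type*} [Fintype κ]
  (bf : Module.Basis κ F F')

/-- coefficientwise coordinates -/
noncomputable def repS (g : PowerSeries F') (a : κ) : PowerSeries F :=
  PowerSeries.mk fun n => bf.repr (PowerSeries.coeff n g) a

variable (F) in
/-- coefficientwise trace -/
noncomputable def trTo (g : PowerSeries F') : PowerSeries F :=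
  PowerSeries.mk fun n => Algebra.trace F F' (PowerSeries.coeff n g)

lemma trTo_sum {ι : Type*} (s : Finset ι) (f : ι → PowerSeries F') :
    trTo F (∑ i ∈ s, f i) = ∑ i ∈ s, trTo F (f i) := by
  ext n; simp [trTo]

lemma trTo_map_mul (c : PowerSeries F) (g : PowerSeries F') :
    trTo F (PowerSeries.map (algebraMap F F') c * g) = c * trTo F g := by
  ext n
  simp only [trTo, PowerSeries.coeff_mk, PowerSeries.coeff_mul, map_sum, PowerSeries.coeff_map]
  refine Finset.sum_congr rfl fun p _ => ?_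
  rw [← Algebra.smul_def, map_smul, smul_eq_mul]

lemma repS_sum {ι : Type*} (s : Finset ι) (f : ι → PowerSeries F') (a : κ) :
    repS bf (∑ i ∈ s, f i) a = ∑ i ∈ s, repS bf (f i) a := by
  ext n; simp [repS, Finsupp.finsetSum_apply]

lemma repS_map_mul (c : PowerSeries F) (g : PowerSeries F') (a : κ) :
    repS bf (PowerSeries.map (algebraMap F F') c * g) a = c * repS bf g a := by
  ext n
  simp only [repS, PowerSeries.coeff_mk, PowerSeries.coeff_mul, map_sum, PowerSeries.coeff_map,
    Finsupp.finsetSum_apply]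
  refine Finset.sum_congr rfl fun p _ => ?_
  rw [← Algebra.smul_def, map_smul, Finsupp.smul_apply, smul_eq_mul]

lemma repS_decomp (g : PowerSeries F') :
    g = ∑ a, PowerSeries.map (algebraMap F F') (repS bf g a) * PowerSeries.C (bf a) := by
  ext n
  simp only [map_sum, PowerSeries.coeff_mul_C, PowerSeries.coeff_map, repS, PowerSeries.coeff_mk,
    ← Algebra.smul_def, bf.sum_repr]

lemma repS_mul (d g : PowerSeries F') (b : κ) :
    repS bf (d * g) b = ∑ a, repS bf g a * repS bf (d * PowerSeries.C (bf a)) b := by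
  conv_lhs => rw [repS_decomp bf g, Finset.mul_sum]
  rw [repS_sum]
  refine Finset.sum_congr rfl fun a _ => ?_
  rw [mul_left_comm, repS_map_mul]

lemma sum_repS_diag [DecidableEq κ] (d : PowerSeries F') :
    ∑ a, repS bf (d * PowerSeries.C (bf a)) a = trTo F d := by
  ext n
  rw [trTo, PowerSeries.coeff_mk, map_sum, Algebra.trace_eq_matrix_trace bf, Matrix.trace]
  refine Finset.sum_congr rfl fun a _ => ?_
  rw [repS, PowerSeries.coeff_mk, PowerSeries.coeff_mul_C, Matrix.diag_apply,
    Algebra.leftMulMatrix_eq_repr_mul]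

end Rep

section Global

variable {k K K' F : Type*} [Field k] [Field K] [Field K'] [Algebra k K] [Algebra k K'] [Algebra K K']
  [Field F] [Algebra k F] {φ : K →ₐ[k] F⸨X⸩} {vK : Valuation K ℤᵐ⁰}
  {ι : Type*} [Fintype ι] [DecidableEq ι] {F' : ι → Type*} [∀ q, Field (F' q)] [∀ q, Algebra k (F' q)]
  {ψ : ∀ q, K' →ₐ[k] (F' q)⸨X⸩} {e : ι → ℕ}

/-- the hypotheses making `ψ q` the completions above `φ` -/
structure FullOver (φ : K →ₐ[k] F⸨X⸩) (vK : Valuation K ℤᵐ⁰) (ψ : ∀ q, K' →ₐ[k] (F' q)⸨X⸩)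
    (D : ∀ q, LiesOver φ (ψ q) (e q)) {J : Type*} [Fintype J] (b : Module.Basis J K K') : Prop where
  val : ∀ a, Valued.v (φ a) = vK a
  surj : ∀ a : F, ∃ f : K, vK f ≤ 1 ∧ (φ f).coeff 0 = a
  int : ∀ q j, Valued.v (ψ q (b j)) ≤ (1 : ℤᵐ⁰)
  card : Fintype.card J = ∑ q, e q *
    (letI := ((D q).σ.toRingHom).toAlgebra; Module.finrank F (F' q))
  indep : ∀ c : J → K, (∀ j, vK (c j) ≤ 1) →
    (∀ q, Valued.v (ψ q (∑ j, c j • b j)) ≤ exp (-(e q : ℤ))) → ∀ j, vK (c j) < 1

variable {D : ∀ q, LiesOver φ (ψ q) (e q)} {J : Type*} [Fintype J] [DecidableEq J] {b : Module.Basis J K K'}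

lemma toPS_sum {ι' : Type*} (s : Finset ι') (f : ι' → F⸨X⸩) :
    toPS (∑ i ∈ s, f i) = ∑ i ∈ s, toPS (f i) := by
  ext n; simp

lemma toPS_mul {f g : F⸨X⸩} (hf : Valued.v f ≤ (1 : ℤᵐ⁰)) (hg : Valued.v g ≤ (1 : ℤᵐ⁰)) :
    toPS (f * g) = toPS f * toPS g := by
  refine (congrArg toPS ?_).trans (toPS_coe _)
  rw [PowerSeries.coe_mul, coe_toPS hf, coe_toPS hg]

theorem trace_eq_sum (hD : FullOver φ vK ψ D b) (hfin : ∀ q, FiniteDimensional k (F' q))
    [∀ q, Algebra F (F' q)] [∀ q, IsScalarTower k F (F' q)]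
    (hσ : ∀ q, (D q).σ.toRingHom = algebraMap F (F' q))
    (y : K') (hy : ∀ i j, vK (b.repr (y * b j) i) ≤ 1)
    (hy' : ∀ q, Valued.v (ψ q y) ≤ (1 : ℤᵐ⁰)) :
    toPS (φ (Algebra.trace K K' y)) = ∑ q, trTo F (trSum (e q) (D q).u (toPS (ψ q y))) := by
  haveI := hfin
  haveI : ∀ q, FiniteDimensional F (F' q) := fun q => Module.Finite.of_restrictScalars_finite k F (F' q)
  let bf := fun q => Module.finBasis F (F' q)
  let I := Σ q : ι, Fin (e q) × Fin (Module.finrank F (F' q))
  let R := PowerSeries F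
  let Crd : I → K' → R := fun p z => repS (bf p.1) (coord (e p.1) (D p.1).u (toPS (ψ p.1 z)) p.2.1) p.2.2
  let T : Matrix I J R := Matrix.of fun p j => Crd p (b j)
  have hint : ∀ a : K, vK a ≤ 1 → Valued.v (φ a) ≤ (1 : ℤᵐ⁰) := fun a ha => by rw [hD.val]; exact ha
  have hmap : ∀ q (a : K), vK a ≤ 1 → toPS (ψ q (algebraMap K K' a)) =
      io (RingHom.id (F' q)) (D q).u (D q).he (PowerSeries.map (algebraMap F (F' q)) (toPS (φ a))) ∧
      Valued.v (ψ q (algebraMap K K' a)) ≤ (1 : ℤᵐ⁰) := by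
    intro q a ha
    rw [(D q).map, ← coe_toPS (hint a ha), ioL_coe, toPS_coe, toPS_coe, io_id_apply, io_apply, hσ]
    exact ⟨rfl, v_coe_le_one _⟩
  have hlin : ∀ (c : J → K), (∀ j, vK (c j) ≤ 1) → ∀ p : I,
      Crd p (∑ j, c j • b j) = ∑ j, T p j * toPS (φ (c j)) := by
    intro c hc p
    obtain ⟨q, l, a⟩ := p
    simp only [Crd, T, Matrix.of_apply, Algebra.smul_def, map_sum, map_mul, toPS_sum]
    rw [coord_finset_sum (D q).he (D q).hu, repS_sum]
    refine Finset.sum_congr rfl fun j _ => ?_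
    rw [toPS_mul (hmap q _ (hc j)).2 (hD.int q j), (hmap q _ (hc j)).1, coord_io_mul (D q).he (D q).hu,
      repS_map_mul, mul_comm]
  -- `T` is invertible
  have hcard : Fintype.card J = Fintype.card I := by
    rw [hD.card, Fintype.card_sigma]
    refine Finset.sum_congr rfl fun q _ => ?_
    rw [Fintype.card_prod, Fintype.card_fin, Fintype.card_fin]
    congr 1
    have : ((D q).σ.toRingHom).toAlgebra = (inferInstance : Algebra F (F' q)) :=
      Algebra.algebra_ext _ _ (fun r => RingHom.congr_fun (hσ q) r)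
    rw [this]
  let eqv : J ≃ I := Fintype.equivOfCardEq hcard
  let T' : Matrix I I R := T.submatrix id eqv.symm
  have hT' : IsUnit T'.det := by
    rw [PowerSeries.isUnit_iff_constantCoeff, RingHom.map_det, isUnit_iff_ne_zero]
    intro h0
    obtain ⟨lam, hlam0, hlam⟩ := Matrix.exists_mulVec_eq_zero_iff.2 h0
    choose c hc1 hc2 using fun j => hD.surj (lam (eqv j))
    have hz := hlin c hc1
    have hTP : ∀ q, Valued.v (ψ q (∑ j, c j • b j)) ≤ exp (-(e q : ℤ)) := by
      intro q
      have hv1 : Valued.v (ψ q (∑ j, c j • b j)) ≤ (1 : ℤᵐ⁰) := by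
        rw [map_sum]
        refine Valuation.map_sum_le _ fun j _ => ?_
        rw [Algebra.smul_def, map_mul, map_mul]
        exact mul_le_one' (hmap q _ (hc1 j)).2 (hD.int q j)
      rw [← coe_toPS hv1, v_coe_le_iff, PowerSeries.X_pow_dvd_iff]
      intro l hl
      have hrepr : ∀ a, (bf q).repr (PowerSeries.coeff 0 (coord (e q) (D q).u (toPS (ψ q (∑ j, c j • b j))) ⟨l, hl⟩)) a = 0 := by
        intro a
        have h1 := congrArg PowerSeries.constantCoeff (hz ⟨q, ⟨l, hl⟩, a⟩)
        have h2 := congrFun hlam ⟨q, ⟨l, hl⟩, a⟩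
        rw [Matrix.mulVec, dotProduct, ← Equiv.sum_comp eqv] at h2
        simp only [Crd, repS, ← PowerSeries.coeff_zero_eq_constantCoeff_apply, PowerSeries.coeff_mk] at h1
        rw [h1, map_sum]
        refine Eq.trans (Finset.sum_congr rfl fun j _ => ?_) h2
        simp [T', PowerSeries.coeff_zero_eq_constantCoeff_apply, map_mul, hc2 j,
          ← PowerSeries.coeff_zero_eq_constantCoeff_apply (toPS (φ (c j)))]
      have h3 : (bf q).repr (PowerSeries.coeff 0 (coord (e q) (D q).u (toPS (ψ q (∑ j, c j • b j))) ⟨l, hl⟩)) = 0 :=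
        Finsupp.ext hrepr
      rw [LinearEquiv.map_eq_zero_iff] at h3
      simpa [coord] using h3
    have hlt := hD.indep c hc1 hTP
    refine hlam0 (funext fun i => ?_)
    have h := hlt (eqv.symm i)
    rw [← hD.val] at h
    have h2 : Valued.v (φ (c (eqv.symm i))) ≤ exp (-(1 : ℤ)) := by
      rcases eq_or_ne (Valued.v (φ (c (eqv.symm i)))) 0 with h0 | h0
      · simp [h0]
      · rw [← exp_log h0, ← exp_zero, exp_lt_exp] at h
        rw [← exp_log h0, exp_le_exp]; omega
    have h3 := coeff_zero_of_lt_valuation F h2 (n := 0) (by norm_num)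
    rwa [hc2, Equiv.apply_symm_apply] at h3
  -- multiplication by `y`
  let M : Matrix J J R := Matrix.of fun i j => toPS (φ (b.repr (y * b j) i))
  let Db : Matrix I I R := Matrix.of fun p p' =>
    if h : p'.1 = p.1 then repS (bf p.1)
      (coord (e p.1) (D p.1).u (toPS (ψ p.1 y) * PowerSeries.X ^ ((h ▸ p'.2.1 : Fin (e p.1)) : ℕ)) p.2.1 *
        PowerSeries.C (bf p.1 (h ▸ p'.2.2))) p.2.2
    else 0
  have hTM : T * M = Db * T := by
    ext1 p j
    have h1 : Crd p (y * b j) = (T * M) p j := by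
      conv_lhs => rw [← b.sum_repr (y * b j)]
      rw [hlin _ (fun i => hy i j) p, Matrix.mul_apply]
      rfl
    rw [← h1, Matrix.mul_apply]
    obtain ⟨q, m, a'⟩ := p
    rw [Fintype.sum_sigma, Finset.sum_eq_single q]
    · simp only [Crd, Db, T, Matrix.of_apply, dite_true]
      rw [map_mul, toPS_mul (hy' q) (hD.int q j), coord_mul (D q).he (D q).hu, repS_sum, Fintype.sum_prod_type]
      refine Finset.sum_congr rfl fun l _ => ?_
      rw [mul_comm (coord _ _ _ l), repS_mul]
      exact Finset.sum_congr rfl fun a _ => mul_comm _ _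
    · intro q' _ hq'
      refine Finset.sum_eq_zero fun x _ => ?_
      simp only [Db, Matrix.of_apply, dif_neg hq', zero_mul]
    · exact fun h => absurd (Finset.mem_univ _) h
  have htr : M.trace = Db.trace := by
    let M' : Matrix I I R := M.submatrix eqv.symm eqv.symm
    have h1 : T' * M' = Db * T' := by
      have := congrArg (fun A : Matrix I J R => A.submatrix id eqv.symm) hTM
      rw [Matrix.submatrix_mul _ _ id eqv.symm eqv.symm eqv.symm.bijective,
        Matrix.submatrix_mul _ _ id id eqv.symm Function.bijective_id, Matrix.submatrix_id_id] at this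
      exact this
    have h2 : M'.trace = M.trace := by
      simp only [Matrix.trace, M', Matrix.diag_apply, Matrix.submatrix_apply]
      exact Equiv.sum_comp eqv.symm fun j => M j j
    rw [← h2]
    calc M'.trace = (T'⁻¹ * (T' * M')).trace := by rw [← Matrix.mul_assoc, Matrix.nonsing_inv_mul _ hT', Matrix.one_mul]
      _ = (T'⁻¹ * (Db * T')).trace := by rw [h1]
      _ = Db.trace := by rw [Matrix.trace_mul_comm, Matrix.mul_assoc, Matrix.mul_nonsing_inv _ hT', Matrix.mul_one]
  rw [Algebra.trace_eq_matrix_trace b, Matrix.trace, map_sum, toPS_sum]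
  calc ∑ i, toPS (φ ((Algebra.leftMulMatrix b y).diag i)) = M.trace := by
        simp [Matrix.trace, M, Matrix.diag_apply, Algebra.leftMulMatrix_eq_repr_mul]
    _ = Db.trace := htr
    _ = _ := by
      rw [Matrix.trace, Fintype.sum_sigma]
      refine Finset.sum_congr rfl fun q _ => ?_
      rw [trSum, trTo_sum, Fintype.sum_prod_type]
      refine Finset.sum_congr rfl fun l _ => ?_
      rw [← sum_repS_diag (bf q)]
      simp [Db]

lemma coeff_coe_div_X (g : PowerSeries F) (p : ℕ) :
    ((g : F⸨X⸩) * (((PowerSeries.X : PowerSeries F) : F⸨X⸩) ^ (p + 1))⁻¹).coeff (-1) = PowerSeries.coeff p g := by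
  rw [PowerSeries.coe_X, HahnSeries.single_pow, one_pow, HahnSeries.inv_single, inv_one, mul_comm,
    HahnSeries.coeff_single_mul, one_mul, nsmul_eq_mul]
  rw [show (-1 : ℤ) - -(((p + 1 : ℕ) : ℤ) * 1) = (p : ℤ) by push_cast; ring, coeff_coe_powerSeries]

theorem locRes_trace (hD : FullOver φ vK ψ D b) (hfin : ∀ q, FiniteDimensional k (F' q))
    [FiniteDimensional k F] (hv : ∃ t : K, vK t = exp (-1 : ℤ)) (y : K') (x : K) :
    LocRes.locRes φ (Algebra.trace K K' y) x = ∑ q, LocRes.locRes (ψ q) y (algebraMap K K' x) := by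
  letI : ∀ q, Algebra F (F' q) := fun q => ((D q).σ.toRingHom).toAlgebra
  haveI : ∀ q, IsScalarTower k F (F' q) := fun q =>
    IsScalarTower.of_algebraMap_eq fun r => ((D q).σ.commutes r).symm
  haveI := hfin
  haveI : ∀ q, FiniteDimensional F (F' q) := fun q => Module.Finite.of_restrictScalars_finite k F (F' q)
  obtain ⟨t, ht⟩ := hv
  have ht0 : t ≠ 0 := fun h => exp_ne_zero (by rw [← ht, h, map_zero])
  have h1 : ∀ a : K, ∀ᶠ N : ℕ in Filter.atTop, vK (t ^ N * a) ≤ 1 := by
    intro a
    rcases eq_or_ne a 0 with rfl | ha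
    · simp
    refine Filter.eventually_atTop.2 ⟨(log (vK a)).toNat, fun N hN => ?_⟩
    have h0 : vK a ≠ 0 := by simpa using ha
    rw [map_mul, map_pow, ht, ← exp_log h0, ← exp_nsmul, ← exp_add, ← exp_zero, exp_le_exp]
    simp; omega
  have h2 : ∀ q, ∀ᶠ N : ℕ in Filter.atTop, Valued.v (ψ q (algebraMap K K' (t ^ N) * y)) ≤ (1 : ℤᵐ⁰) := by
    intro q
    rcases eq_or_ne y 0 with rfl | hy
    · simp
    refine Filter.eventually_atTop.2 ⟨(log (Valued.v (ψ q y))).toNat, fun N hN => ?_⟩
    have h0 : Valued.v (ψ q y) ≠ (0 : ℤᵐ⁰) := by simpa using hy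
    have hle : Valued.v (ψ q (algebraMap K K' (t ^ N))) ≤ exp (-(N : ℤ)) := by
      rw [(D q).map]
      have hφt : Valued.v (φ (t ^ N)) ≤ (1 : ℤᵐ⁰) := by
        rw [hD.val, map_pow, ht, ← exp_nsmul, ← exp_zero, exp_le_exp]; simp
      rw [← coe_toPS hφt, ioL_coe, v_coe_le_iff]
      have : PowerSeries.X ^ N ∣ toPS (φ (t ^ N)) := by
        rw [← v_coe_le_iff, coe_toPS hφt, hD.val, map_pow, ht, ← exp_nsmul]; simp
      refine dvd_trans ?_ (map_dvd (io _ _ (D q).he) this)
      rw [map_pow, io_X]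
      exact pow_dvd_pow_of_dvd ((dvd_pow_self _ (D q).he.ne').mul_right _) N
    rw [map_mul, map_mul]
    refine (mul_le_mul' hle le_rfl).trans ?_
    rw [← exp_log h0, ← exp_add, ← exp_zero, exp_le_exp]
    omega
  have h3 : ∀ i j, ∀ᶠ N : ℕ in Filter.atTop, vK (b.repr (algebraMap K K' (t ^ N) * y * b j) i) ≤ 1 := by
    intro i j
    filter_upwards [h1 (b.repr (y * b j) i)] with N hN
    rwa [mul_assoc, ← Algebra.smul_def, map_smul, Finsupp.smul_apply, smul_eq_mul]
  obtain ⟨N, hN2, hN3⟩ := ((Filter.eventually_all.2 h2).and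
    (Filter.eventually_all.2 fun i => Filter.eventually_all.2 fun j => h3 i j)).exists
  set y' := algebraMap K K' (t ^ N) * y with hy'
  have htr : Algebra.trace K K' y' = t ^ N * Algebra.trace K K' y := by
    rw [hy', ← Algebra.smul_def, map_smul, smul_eq_mul]
  have hmain := trace_eq_sum hD hfin (fun q => rfl) y' hN3 hN2
  have hvtr : Valued.v (φ (Algebra.trace K K' y')) ≤ (1 : ℤᵐ⁰) := by
    rw [hD.val, Algebra.trace_eq_matrix_trace b, Matrix.trace]
    refine Valuation.map_sum_le _ fun i _ => ?_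
    rw [Matrix.diag_apply, Algebra.leftMulMatrix_eq_repr_mul]
    exact hN3 i i
  set η : F⸨X⸩ := φ (t ^ N)⁻¹ * LocRes.D F (φ x)
  obtain ⟨⟨η1, ⟨_, ⟨M0, rfl⟩⟩⟩, hη⟩ := IsLocalization.surj (Submonoid.powers (PowerSeries.X : PowerSeries F)) η
  have hX0 : ((PowerSeries.X : PowerSeries F) : F⸨X⸩) ≠ 0 := by
    rw [PowerSeries.coe_X]; exact HahnSeries.single_ne_zero one_ne_zero
  have hη' : η = ((PowerSeries.X * η1 : PowerSeries F) : F⸨X⸩) * (((PowerSeries.X : PowerSeries F) : F⸨X⸩) ^ (M0 + 1))⁻¹ := by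
    rw [eq_mul_inv_iff_mul_eq₀ (pow_ne_zero _ hX0), pow_succ, ← mul_assoc, ← map_pow, PowerSeries.coe_mul,
      mul_comm ((PowerSeries.X : PowerSeries F) : F⸨X⸩)]
    congr 1
  set η0 := PowerSeries.X * η1
  have hL : LocRes.resExp φ (Algebra.trace K K' y) x =
      PowerSeries.coeff M0 (η0 * ∑ q, trTo F (trSum (e q) (D q).u (toPS (ψ q y')))) := by
    show (φ (Algebra.trace K K' y) * LocRes.D F (φ x)).coeff (-1) = _
    rw [← hmain, ← coeff_coe_div_X]
    congr 1
    rw [PowerSeries.coe_mul, coe_toPS hvtr, mul_right_comm, ← hη', htr, map_mul, mul_comm (φ (t ^ N))]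
    simp only [η, map_inv₀]
    field_simp [show φ (t ^ N) ≠ 0 by simpa using pow_ne_zero N ht0]
    rw [mul_div_cancel_right₀ _ (show φ (t ^ N) ≠ 0 by simpa using pow_ne_zero N ht0)]
  have hR : ∀ q, LocRes.resExp (ψ q) y (algebraMap K K' x) =
      PowerSeries.coeff M0 (PowerSeries.map (algebraMap F (F' q)) η0 * trSum (e q) (D q).u (toPS (ψ q y'))) := by
    intro q
    show (ψ q y * LocRes.D (F' q) (ψ q (algebraMap K K' x))).coeff (-1) = _
    have hs : io (algebraMap F (F' q)) (D q).u (D q).he η0 =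
        io (RingHom.id (F' q)) (D q).u (D q).he (PowerSeries.map (algebraMap F (F' q)) η0) := by
      rw [io_id_apply, io_apply]
    rw [← trSum_io_mul (D q).he (D q).hu, coeff_trSum (D q).he (D q).hu, ← hs]
    congr 1
    simp only [PowerSeries.coe_mul]
    rw [(D q).map, D_ioL, coe_toPS (hN2 q)]
    have h4 : ioL (σ := (D q).σ.toRingHom) (he := (D q).he) (D q).hu (LocRes.D F (φ x)) =
        ioL (σ := (D q).σ.toRingHom) (he := (D q).he) (D q).hu (φ (t ^ N) * η) := by
      simp only [η, map_inv₀]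
      rw [← mul_assoc, mul_inv_cancel₀ (by simpa using pow_ne_zero N ht0), one_mul]
    rw [h4, hη', map_mul (ioL _), ← (D q).map, map_mul (ioL _), map_inv₀, map_pow (ioL _), ioL_coe, ioL_coe, io_X,
      hy', map_mul (ψ q)]
    show _ = ((io (D q).σ.toRingHom (D q).u (D q).he η0 : PowerSeries (F' q)) : (F' q)⸨X⸩) * _ * _ * _
    ring
  show Algebra.trace k F (LocRes.resExp φ (Algebra.trace K K' y) x) = _
  rw [hL, Finset.mul_sum, map_sum, map_sum]
  refine Finset.sum_congr rfl fun q _ => ?_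
  show _ = Algebra.trace k (F' q) _
  rw [hR q, ← trTo_map_mul, trTo, PowerSeries.coeff_mk, Algebra.trace_trace]

end Global

end Groth.Agent.FF.LR
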