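import Groth.Agent.FF.LR.TraceRes
import Groth.Agent.FF.LR.LocRes1
import Groth.Agent.FF.Linear
import Mathlib.FieldTheory.Minpoly.MinpolyDiv

/-! The residue theorem. -/

set_option autoImplicit false
set_option linter.style.haveILetI false
set_option linter.unusedSectionVars false

open FunFld WithZero LaurentSeries IntermediateField

namespace Groth.Agent.FF

section Euler

variable {L0 L : Type*} [Field L0] [Field L] [Algebra L0 L] [FiniteDimensional L0 L] [Algebra.IsSeparable L0 L]

/-- Euler's trace formula -/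
lemma trace_pow_div_derivative {x : L} (hx : Algebra.adjoin L0 {x} = ⊤) {f : Polynomial L0}
    (hf : minpoly L0 x = f) {r : ℕ} (hr : r < f.natDegree) :
    Algebra.trace L0 L (x ^ r / Polynomial.aeval x (Polynomial.derivative f)) =
      if r = f.natDegree - 1 then 1 else 0 := by
  subst hf
  let E := AlgebraicClosure L0
  have hint : IsIntegral L0 x := Algebra.IsIntegral.isIntegral x
  have hdim : r < Module.finrank L0 L := hr.trans_le (minpoly.natDegree_le x)
  have h := congrArg (fun p : Polynomial E => p.coeff ((minpoly L0 x).natDegree - 1))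
    (sum_smul_minpolyDiv_eq_X_pow E hx hdim)
  have hc : (minpolyDiv L0 x).coeff ((minpoly L0 x).natDegree - 1) = 1 := by
    rw [← natDegree_minpolyDiv]
    exact (minpolyDiv_monic hint).coeff_natDegree
  simp only [Polynomial.finsetSum_coeff, Polynomial.coeff_map, Polynomial.coeff_smul, smul_eq_mul, hc, mul_one,
    Polynomial.coeff_X_pow] at h
  apply (algebraMap L0 E).injective
  rw [trace_eq_sum_embeddings E]
  refine h.trans ?_
  simp only [apply_ite (algebraMap L0 E), map_one, map_zero, eq_comm]

end Euler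

variable {k : Type*} [Field k]

section Common

variable {K : Type*} [Field K] [Algebra k K]
  {F : Place k K → Type*} [∀ P, Field (F P)] [∀ P, Algebra k (F P)] {φ : ∀ P, K →ₐ[k] LaurentSeries (F P)}

lemma finite_support_locRes (hK : IsFF k K) (hφ : ∀ P, LocRes.IsExpansionAt P.1 (φ P)) (u v : K) :
    (Function.support fun P => LocRes.locRes (φ P) u v).Finite := by
  refine ((finite_support_ord hK u).union (finite_support_ord hK v)).subset fun P hP => ?_
  by_contra h
  simp only [Set.mem_union, Function.mem_support, not_or, not_not] at h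
  refine hP ?_
  show Algebra.trace k (F P) _ = 0
  rw [LR.resExp_le_one (hφ P) ((val_le_one_iff P u).2 h.1.ge) ((val_le_one_iff P v).2 h.2.ge), map_zero]

lemma locRes_add_left {F : Type*} [Field F] [Algebra k F] (φ : K →ₐ[k] LaurentSeries F) (a b v : K) :
    LocRes.locRes φ (a + b) v = LocRes.locRes φ a v + LocRes.locRes φ b v := by
  simp only [LocRes.locRes, LocRes.resExp, map_add, add_mul]

lemma locRes_smul_left {F : Type*} [Field F] [Algebra k F] (φ : K →ₐ[k] LaurentSeries F) (c : k) (a v : K) :
    LocRes.locRes φ (c • a) v = c * LocRes.locRes φ a v := by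
  rw [← smul_eq_mul, LocRes.locRes, LocRes.locRes, ← map_smul]
  apply congrArg
  show (φ (c • a) * LocRes.D F (φ v)).coeff (-1) = c • ((φ a * LocRes.D F (φ v)).coeff (-1))
  rw [Algebra.smul_def c a, map_mul, LocRes.map_algebraMap, mul_assoc, HahnSeries.C_mul_eq_smul,
    HahnSeries.coeff_smul, smul_eq_mul, Algebra.smul_def]

lemma locRes_zero_left {F : Type*} [Field F] [Algebra k F] (φ : K →ₐ[k] LaurentSeries F) (v : K) :
    LocRes.locRes φ 0 v = 0 := by
  simp [LocRes.locRes, LocRes.resExp]

/-- Residues of `(P(z) + c/z) dz` sum to zero. -/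
lemma sum_locRes_dlog (hK : IsFF k K) [∀ P, FiniteDimensional k (F P)]
    (hφ : ∀ P, LocRes.IsExpansionAt P.1 (φ P)) {z : K} (hz : z ≠ 0) (R : Polynomial k) (c : k) :
    ∑ᶠ P, LocRes.locRes (φ P) (Polynomial.aeval z R + c • z⁻¹) z = 0 := by
  have hP : ∀ P, LocRes.locRes (φ P) (Polynomial.aeval z R + c • z⁻¹) z =
      c * ((P.ord z * (P.deg : ℤ) : ℤ) : k) := by
    intro P
    rw [locRes_add_left, locRes_smul_left]
    have h1 : LocRes.locRes (φ P) (Polynomial.aeval z R) z = 0 := by
      induction R using Polynomial.induction_on' with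
      | add a b ha hb => rw [map_add, locRes_add_left, ha, hb, add_zero]
      | monomial n a =>
        rw [Polynomial.aeval_monomial, ← Algebra.smul_def, locRes_smul_left, LocRes.locRes,
          show z ^ n = z ^ (((n : ℤ) + 1) - 1) by simp, LR.resExp_zpow _ _ (by omega), map_zero, mul_zero]
    rw [h1, zero_add]
    congr 1
    rw [LocRes.locRes, LR.resExp_inv_self (hφ P) hz, ← map_intCast (algebraMap k (F P)),
      Algebra.trace_algebraMap, finrank_coeffField (hφ P), nsmul_eq_mul, Int.cast_mul, Int.cast_natCast,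
      mul_comm]
    rfl
  simp only [hP]
  rw [finsum_eq_sum_of_support_subset _ (s := (div k z).support) fun P hP => by
    rw [Finset.mem_coe, Finsupp.mem_support_iff, div_apply hK]
    intro h; exact hP (by simp [h])]
  rw [← Finset.mul_sum, ← Int.cast_sum]
  have := deg_div hK z
  rw [Divisor.deg, Finsupp.sum] at this
  simp only [div_apply hK] at this
  rw [this, Int.cast_zero, mul_zero]

end Common

section Down

variable {K L : Type*} [Field K] [Field L] [Algebra k K] [Algebra k L] [Algebra L K] [IsScalarTower k L K]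
  [FiniteDimensional L K]
  {F : Place k K → Type*} [∀ P, Field (F P)] [∀ P, Algebra k (F P)] [∀ P, FiniteDimensional k (F P)]
  {φ : ∀ P, K →ₐ[k] LaurentSeries (F P)}

/-- residue fields below separable places are separable -/
lemma isSeparable_below (hL : IsFF k L) (hφ : ∀ P, LocRes.IsExpansionAt P.1 (φ P))
    [∀ P, Algebra.IsSeparable k (F P)] (P : Place k L) :
    Algebra.IsSeparable k (IsLocalRing.ResidueField P.O) := by
  obtain ⟨Q, hQ⟩ := exists_over (K' := K) hL P
  obtain ⟨ι⟩ := nonempty_residueEquiv (hφ Q)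
  let g0 : P.O →+* Q.O := ((algebraMap L K).comp P.O.subtype).codRestrict Q.O
    fun a => (val_algebraMap_le_one_iff hQ _).2 a.2
  let g : P.O →ₐ[k] IsLocalRing.ResidueField Q.O :=
    { ((IsLocalRing.residue Q.O).comp g0 : P.O →+* IsLocalRing.ResidueField Q.O) with
      commutes' := fun c => congrArg (IsLocalRing.residue Q.O) (Subtype.ext
        (IsScalarTower.algebraMap_apply k L K c).symm) }
  let g' : IsLocalRing.ResidueField P.O →ₐ[k] IsLocalRing.ResidueField Q.O :=
    Ideal.Quotient.liftₐ _ g fun a ha => (IsLocalRing.residue_eq_zero_iff _).2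
      ((mem_maximalIdeal Q).2 ((val_algebraMap_lt_one_iff hQ _).2 ((mem_maximalIdeal P).1 ha)))
  exact Algebra.IsSeparable.of_algHom k (F Q) (ι.toAlgHom.comp g')

/-- push a residue sum down -/
lemma sum_locRes_trace (hL : IsFF k L) (hφ : ∀ P, LocRes.IsExpansionAt P.1 (φ P))
    {G : Place k L → Type*} [∀ P, Field (G P)] [∀ P, Algebra k (G P)] [∀ P, FiniteDimensional k (G P)]
    {ψ : ∀ P, L →ₐ[k] LaurentSeries (G P)} (hψ : ∀ P, LocRes.IsExpansionAt P.1 (ψ P)) (u : K) (x : L) :
    ∑ᶠ Q, LocRes.locRes (φ Q) u (algebraMap L K x) =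
      ∑ᶠ P, LocRes.locRes (ψ P) (Algebra.trace L K u) x := by
  classical
  choose below hbelow using exists_below (K' := K) hL
  set S : Finset (Place k L) :=
    ((finite_support_locRes (isFF_ext hL) hφ u (algebraMap L K x)).toFinset.image below) ∪
      (finite_support_locRes hL hψ (Algebra.trace L K u) x).toFinset
  have hS : ∀ Q, LocRes.locRes (φ Q) u (algebraMap L K x) ≠ 0 → below Q ∈ S := fun Q hQ =>
    Finset.mem_union_left _ (Finset.mem_image_of_mem _ ((Set.Finite.mem_toFinset _).2 hQ))
  let Qs : Place k L → Finset (Place k K) := fun P => (finite_over (K' := K) hL P).toFinset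
  have hQs : ∀ P Q, Q ∈ Qs P ↔ IsOver Q P := fun P Q => Set.Finite.mem_toFinset _
  rw [finsum_eq_sum_of_support_subset _ (s := S.biUnion Qs) fun Q hQ => by
      rw [Finset.mem_coe, Finset.mem_biUnion]
      exact ⟨below Q, hS Q hQ, (hQs _ _).2 (hbelow Q)⟩,
    finsum_eq_sum_of_support_subset _ (s := S) fun P hP =>
      Finset.mem_union_right _ ((Set.Finite.mem_toFinset _).2 hP),
    Finset.sum_biUnion fun P _ P' _ hne => Finset.disjoint_left.2 fun Q h1 h2 =>
      hne (isOver_unique ((hQs _ _).1 h1) ((hQs _ _).1 h2))]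
  exact Finset.sum_congr rfl fun P _ =>
    (locRes_trace_eq_sum hL (hψ P) (Qs P) (hQs P) φ (fun Q _ => hφ Q) u x).symm

end Down

section Rational

universe v

variable {L : Type v} [Field L] [Algebra k L]

lemma isFunctionField_sub {K : Type*} [Field K] [Algebra k K] (hK : IsFunctionField k K) {x : K}
    (hx : Transcendental k x) : IsFunctionField k k⟮x⟯ := by
  refine ⟨⟨⟨x, mem_adjoin_simple_self k x⟩, ?_, ?_⟩, fun y hy => ?_⟩
  · exact (transcendental_algebraMap_iff (A := K) (algebraMap k⟮x⟯ K).injective).1 hx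
  · have htop : k⟮(⟨x, mem_adjoin_simple_self k x⟩ : k⟮x⟯)⟯ = ⊤ := by
      apply IntermediateField.map_injective k⟮x⟯.val
      rw [IntermediateField.adjoin_map, Set.image_singleton, ← AlgHom.fieldRange_eq_map, fieldRange_val]
      rfl
    rw [htop]
    exact Module.Finite.of_surjective (Algebra.linearMap (⊤ : IntermediateField k k⟮x⟯) k⟮x⟯)
      (fun y => ⟨⟨y, trivial⟩, rfl⟩)
  · obtain ⟨c, hc⟩ := hK.2 (y : K) (hy.algebraMap (A := K))
    exact ⟨c, Subtype.ext hc⟩

lemma adjoin_val_eq_top {K : Type*} [Field K] [Algebra k K] (x : K) :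
    k⟮(⟨x, mem_adjoin_simple_self k x⟩ : k⟮x⟯)⟯ = ⊤ := by
  apply IntermediateField.map_injective k⟮x⟯.val
  rw [IntermediateField.adjoin_map, Set.image_singleton, ← AlgHom.fieldRange_eq_map, fieldRange_val]
  rfl

variable (hL : IsFunctionField k L) {x : L} (hgen : k⟮x⟯ = ⊤)
include hL hgen

lemma finrank_adjoin_aeval (B : Polynomial k) (hB : B.Monic) (hd : 0 < B.natDegree) :
    Transcendental k (Polynomial.aeval x B) ∧
      Module.finrank k⟮Polynomial.aeval x B⟯ L = B.natDegree := by
  obtain ⟨P, hdeg, hPx, hrest⟩ := exists_simple_pole_of_rational hL hgen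
  have hx0 : x ≠ 0 := fun h => by rw [h, ord_zero] at hPx; omega
  have hvx : P.1 x = exp (1 : ℤ) := by rw [val_eq_exp_ord P hx0, hPx]; norm_num
  have hvz : P.1 (Polynomial.aeval x B) = exp (B.natDegree : ℤ) := by
    conv_lhs => rw [hB.as_sum, map_add, map_pow, Polynomial.aeval_X]
    rw [Valuation.map_add_eq_of_lt_left]
    · rw [map_pow, hvx, ← exp_nsmul]; simp
    · rw [map_pow, hvx, ← exp_nsmul]
      refine lt_of_le_of_lt (b := exp ((B.natDegree : ℤ) - 1)) ?_ (by rw [exp_lt_exp]; simp)
      rw [map_sum]
      refine Valuation.map_sum_le _ fun i hi => ?_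
      rw [map_mul, Polynomial.aeval_C, map_pow, Polynomial.aeval_X, map_mul, map_pow, hvx, ← exp_nsmul]
      refine (mul_le_mul' (P.2.1 _) le_rfl).trans ?_
      rw [one_mul, exp_le_exp]
      have := Finset.mem_range.1 hi
      simp; omega
  have hord : P.ord (Polynomial.aeval x B) = -(B.natDegree : ℤ) := ord_of_val_eq P hvz
  have hother : ∀ Q : Place k L, Q ≠ P → 0 ≤ Q.ord (Polynomial.aeval x B) := by
    intro Q hQ
    rw [← val_le_one_iff, Polynomial.aeval_eq_sum_range]
    refine Valuation.map_sum_le _ fun i _ => (val_smul_le Q _ _).trans ?_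
    rw [map_pow]
    exact pow_le_one₀ zero_le ((val_le_one_iff Q x).2 (hrest Q hQ))
  have htr : Transcendental k (Polynomial.aeval x B) := transcendental_of_notMem hL fun ⟨c, hc⟩ => by
    rw [← hc, ord_const] at hord; omega
  refine ⟨htr, ?_⟩
  have := finrank_adjoin_eq_neg_ord_mul hL htr (P := P) (by omega) hother
  rw [hord, hdeg] at this
  simpa using this

/-- `∑ res (w dx) = 0` on a rational function field. -/
lemma sum_locRes_rational {G : Place k L → Type*} [∀ P, Field (G P)] [∀ P, Algebra k (G P)]
    [∀ P, FiniteDimensional k (G P)] [∀ P, Algebra.IsSeparable k (G P)]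
    {ψ : ∀ P, L →ₐ[k] LaurentSeries (G P)} (hψ : ∀ P, LocRes.IsExpansionAt P.1 (ψ P)) (w : L) :
    ∑ᶠ P, LocRes.locRes (ψ P) w x = 0 := by
  classical
  have hw : w ∈ k⟮x⟯ := by rw [hgen]; trivial
  obtain ⟨A0, B0, hw0⟩ := (IntermediateField.mem_adjoin_simple_iff k w).1 hw
  -- normalise the denominator
  obtain ⟨A, B, hB, hB', hwAB⟩ : ∃ A B : Polynomial k, B.Monic ∧ Polynomial.derivative B ≠ 0 ∧
      w = Polynomial.aeval x A / Polynomial.aeval x B := by
    obtain ⟨A1, B1, hB1, hw1⟩ : ∃ A B : Polynomial k, B.Monic ∧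
        w = Polynomial.aeval x A / Polynomial.aeval x B := by
      rcases eq_or_ne B0 0 with rfl | hB0
      · exact ⟨0, 1, Polynomial.monic_one, by simp [hw0]⟩
      refine ⟨Polynomial.C B0.leadingCoeff⁻¹ * A0, B0 * Polynomial.C B0.leadingCoeff⁻¹,
        Polynomial.monic_mul_leadingCoeff_inv hB0, ?_⟩
      rw [map_mul, map_mul, mul_comm (Polynomial.aeval x B0), mul_div_mul_left _ _ ?_, hw0]
      rw [Polynomial.aeval_C, map_ne_zero_iff _ (algebraMap k L).injective]
      exact inv_ne_zero (Polynomial.leadingCoeff_ne_zero.2 hB0)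
    by_cases h : Polynomial.derivative B1 = 0
    · refine ⟨A1 * Polynomial.X, B1 * Polynomial.X, hB1.mul Polynomial.monic_X, ?_, ?_⟩
      · rw [Polynomial.derivative_mul, h, zero_mul, zero_add, Polynomial.derivative_X, mul_one]
        exact hB1.ne_zero
      · have hxt := transcendental_of_adjoin_eq_top hL hgen
        rw [map_mul, map_mul, Polynomial.aeval_X,
          mul_div_mul_right _ _ (fun h0 : x = 0 => hxt (h0 ▸ isAlgebraic_zero)), hw1]
    · exact ⟨A1, B1, hB1, h, hw1⟩
  have hd : 0 < B.natDegree := Nat.pos_of_ne_zero fun h => hB' (Polynomial.derivative_of_natDegree_zero h)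
  obtain ⟨hzt, hrank⟩ := finrank_adjoin_aeval hL hgen B hB hd
  set z := Polynomial.aeval x B with hz
  set L0 := k⟮z⟯
  let z0 : L0 := ⟨z, mem_adjoin_simple_self k z⟩
  haveI : FiniteDimensional L0 L := FiniteDimensional.of_finrank_pos (by omega)
  have hadj : Algebra.adjoin L0 ({x} : Set L) = ⊤ := by
    rw [← IntermediateField.adjoin_simple_toSubalgebra_of_isAlgebraic (Algebra.IsAlgebraic.isAlgebraic x),
      ← IntermediateField.top_toSubalgebra]
    congr 1
    apply IntermediateField.restrictScalars_injective k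
    rw [IntermediateField.restrictScalars_adjoin, IntermediateField.restrictScalars_top, eq_top_iff, ← hgen]
    exact IntermediateField.adjoin.mono _ _ _ Set.subset_union_right
  set f : Polynomial L0 := B.map (algebraMap k L0) - Polynomial.C z0 with hf
  have hdegC : (Polynomial.C z0).degree < (B.map (algebraMap k L0)).degree := by
    rw [Polynomial.degree_map]
    exact Polynomial.degree_C_le.trans_lt (Polynomial.natDegree_pos_iff_degree_pos.1 hd)
  have hfm : f.Monic := (hB.map _).sub_of_left hdegC
  have hfd : f.natDegree = B.natDegree := by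
    rw [hf, Polynomial.natDegree_sub_C, Polynomial.natDegree_map]
  have hfx : Polynomial.aeval x f = 0 := by
    rw [hf, map_sub, Polynomial.aeval_map_algebraMap, Polynomial.aeval_C, ← hz]
    exact sub_self _
  have hmin : minpoly L0 x = f := by
    refine (Polynomial.eq_of_monic_of_dvd_of_natDegree_le (minpoly.monic (Algebra.IsIntegral.isIntegral x)) hfm
      (minpoly.dvd _ _ hfx) ?_).symm
    rw [hfd, ← hrank]
    refine le_of_eq ?_
    have h1 := IntermediateField.adjoin.finrank (K := L0) (Algebra.IsIntegral.isIntegral x)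
    have htop : IntermediateField.adjoin L0 ({x} : Set L) = ⊤ := by
      apply IntermediateField.toSubalgebra_injective
      rw [IntermediateField.top_toSubalgebra, IntermediateField.adjoin_simple_toSubalgebra_of_isAlgebraic
        (Algebra.IsAlgebraic.isAlgebraic x), hadj]
    rw [← h1, htop, IntermediateField.finrank_top']
  have hf' : Polynomial.aeval x (Polynomial.derivative f) = Polynomial.aeval x (Polynomial.derivative B) := by
    rw [hf, Polynomial.derivative_sub, Polynomial.derivative_C, sub_zero, Polynomial.derivative_map,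
      Polynomial.aeval_map_algebraMap]
  have hB'x : Polynomial.aeval x (Polynomial.derivative B) ≠ 0 := fun h =>
    hB' ((transcendental_iff.1 (transcendental_of_adjoin_eq_top hL hgen)) _ h)
  haveI : Algebra.IsSeparable L0 L := by
    have hsep : IsSeparable L0 x := by
      unfold IsSeparable
      rw [hmin]
      refine (Polynomial.separable_iff_derivative_ne_zero (hmin ▸ minpoly.irreducible (Algebra.IsIntegral.isIntegral x))).2 ?_
      intro h
      rw [h, map_zero] at hf'
      exact hB'x hf'.symm
    have h2 := (IntermediateField.isSeparable_adjoin_simple_iff_isSeparable L0 L).2 hsep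
    have htop : IntermediateField.adjoin L0 ({x} : Set L) = ⊤ := by
      apply IntermediateField.toSubalgebra_injective
      rw [IntermediateField.top_toSubalgebra, IntermediateField.adjoin_simple_toSubalgebra_of_isAlgebraic
        (Algebra.IsAlgebraic.isAlgebraic x), hadj]
    rw [htop] at h2
    exact AlgEquiv.Algebra.isSeparable (IntermediateField.topEquiv (F := L0) (E := L))
  -- the trace
  have key : ∀ A : Polynomial k, ∃ R : Polynomial k,
      Algebra.trace L0 L (Polynomial.aeval x A / Polynomial.aeval x (Polynomial.derivative B)) =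
        Polynomial.aeval z0 R := by
    intro A
    induction hn : A.natDegree using Nat.strong_induction_on generalizing A with
    | _ n ih =>
    have hlow : ∃ c : k, Algebra.trace L0 L (Polynomial.aeval x (A %ₘ B) /
        Polynomial.aeval x (Polynomial.derivative B)) = algebraMap k L0 c := by
      refine ⟨(A %ₘ B).coeff (B.natDegree - 1), ?_⟩
      have hr : (A %ₘ B).natDegree < B.natDegree :=
        Polynomial.natDegree_modByMonic_lt A hB (fun h => by rw [h] at hd; simp at hd)
      rw [Polynomial.aeval_eq_sum_range' hr, Finset.sum_div, map_sum,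
        Finset.sum_eq_single (B.natDegree - 1)]
      · rw [smul_div_assoc, ← IsScalarTower.algebraMap_smul L0, map_smul, ← hf',
          trace_pow_div_derivative hadj hmin (by omega), if_pos (by omega), smul_eq_mul, mul_one]
      · intro i hi hne
        have := Finset.mem_range.1 hi
        rw [smul_div_assoc, ← IsScalarTower.algebraMap_smul L0, map_smul, ← hf',
          trace_pow_div_derivative hadj hmin (by omega), if_neg (by omega), smul_zero]
      · intro h; exact absurd (Finset.mem_range.2 (by omega)) h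
    obtain ⟨c, hc⟩ := hlow
    have hsplit : Polynomial.aeval x A / Polynomial.aeval x (Polynomial.derivative B) =
        Polynomial.aeval x (A %ₘ B) / Polynomial.aeval x (Polynomial.derivative B) +
          z0 • (Polynomial.aeval x (A /ₘ B) / Polynomial.aeval x (Polynomial.derivative B)) := by
      conv_lhs => rw [← Polynomial.modByMonic_add_div A B]
      rw [map_add, map_mul, Algebra.smul_def, add_div, mul_div_assoc]
      rfl
    by_cases hlt : A.natDegree < B.natDegree
    · refine ⟨Polynomial.C c, ?_⟩
      rw [hsplit, (Polynomial.divByMonic_eq_zero_iff hB).2 (Polynomial.degree_lt_degree hlt), map_zero,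
        zero_div, smul_zero, add_zero, hc, Polynomial.aeval_C]
    · obtain ⟨R, hR⟩ := ih _ (by rw [Polynomial.natDegree_divByMonic A hB]; omega) (A /ₘ B) rfl
      refine ⟨Polynomial.C c + Polynomial.X * R, ?_⟩
      rw [hsplit, map_add, map_smul, hc, hR, map_add, map_mul, Polynomial.aeval_C, Polynomial.aeval_X,
        smul_eq_mul]
  obtain ⟨R, hR⟩ := key A
  -- change of variable
  have hz0 : z ≠ 0 := fun h => hzt (h ▸ isAlgebraic_zero)
  have hchange : ∀ P, LocRes.locRes (ψ P) w x =
      LocRes.locRes (ψ P) (w / Polynomial.aeval x (Polynomial.derivative B)) (algebraMap L0 L z0) := by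
    intro P
    show Algebra.trace k _ ((ψ P w * LocRes.D _ (ψ P x)).coeff (-1)) =
      Algebra.trace k _ ((ψ P _ * LocRes.D _ (ψ P z)).coeff (-1))
    congr 2
    rw [D_exp_of_D (ψ P) z x (Polynomial.aeval x (Polynomial.derivative B)) ?_, ← mul_assoc, ← map_mul,
      div_mul_cancel₀ _ hB'x]
    exact Derivation.map_aeval (KaehlerDifferential.D k L) B x
  simp only [hchange]
  have hL0 : IsFunctionField k L0 := isFunctionField_sub hL hzt
  haveI hsepG : ∀ P : Place k L0, Algebra.IsSeparable k (IsLocalRing.ResidueField P.O) :=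
    fun P => isSeparable_below (K := L) hL0.1 hψ P
  choose χ hχ using fun P : Place k L0 => exists_expansion hL0.1 P
  haveI : ∀ P : Place k L0, @FiniteDimensional k (IsLocalRing.ResidueField P.O) _ _ Algebra.toModule :=
    fun P => finiteDimensional_residueField hL0.1 P
  rw [sum_locRes_trace hL0.1 hψ hχ]
  have hT : Algebra.trace L0 L (w / Polynomial.aeval x (Polynomial.derivative B)) =
      Polynomial.aeval z0 R.divX + R.coeff 0 • z0⁻¹ := by
    have hz00 : z0 ≠ 0 := fun h => hz0 (congrArg Subtype.val h)
    have h1 : w / Polynomial.aeval x (Polynomial.derivative B) =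
        z0⁻¹ • (Polynomial.aeval x A / Polynomial.aeval x (Polynomial.derivative B)) := by
      rw [hwAB, Algebra.smul_def, map_inv₀]
      show _ = z⁻¹ * _
      field_simp
    rw [h1, map_smul, hR, smul_eq_mul]
    conv_lhs => rw [← Polynomial.X_mul_divX_add R]
    rw [map_add, map_mul, Polynomial.aeval_X, Polynomial.aeval_C, mul_add, ← mul_assoc,
      inv_mul_cancel₀ hz00, one_mul, Algebra.smul_def, mul_comm z0⁻¹]
  rw [hT]
  exact sum_locRes_dlog hL0.1 hχ (fun h => hz0 (congrArg Subtype.val h)) _ _

end Rational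

/-- The residue theorem. -/
theorem sum_locRes_eq_zero {K : Type*} [Field K] [Algebra k K] (hK : IsFunctionField k K)
    {F : Place k K → Type*} [∀ P, Field (F P)] [∀ P, Algebra k (F P)] [∀ P, FiniteDimensional k (F P)]
    {φ : ∀ P, K →ₐ[k] LaurentSeries (F P)} (hφ : ∀ P, LocRes.IsExpansionAt P.1 (φ P)) (u v : K) :
    ∑ᶠ P, LocRes.locRes (φ P) u v = 0 := by
  by_cases hsep : ∃ P, Algebra.IsSeparable k (F P)
  swap
  · refine finsum_eq_zero_of_forall_eq_zero fun P => ?_
    rw [LocRes.locRes, Algebra.trace_eq_zero_of_not_isSeparable fun h => hsep ⟨P, h⟩,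
      LinearMap.zero_apply]
  obtain ⟨P0, hP0⟩ := hsep
  have hG : Good k K := good_of_expansion (φ P0)
  haveI : ∀ P, Algebra.IsSeparable k (F P) := fun P => isSeparable_coeffField hK hG (hφ P)
  obtain ⟨x, hx⟩ := exists_isSepVar hK hG
  obtain ⟨H, hH⟩ := exists_hasse hx
  set u' := u * LocRes.hasseD H 1 v
  have h1 : ∀ P, LocRes.locRes (φ P) u v = LocRes.locRes (φ P) u' x := fun P =>
    congrArg (Algebra.trace k (F P)) (resExp_eq_mul (hφ P) hx hH u v)
  simp only [h1]
  haveI := hx.finite
  haveI := hx.separable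
  have hL : IsFunctionField k k⟮x⟯ := isFunctionField_sub hK hx.transcendental
  haveI hsepL : ∀ P : Place k k⟮x⟯, Algebra.IsSeparable k (IsLocalRing.ResidueField P.O) :=
    fun P => isSeparable_below (K := K) hL.1 hφ P
  choose ψ hψ using fun P : Place k k⟮x⟯ => exists_expansion hL.1 P
  haveI : ∀ P : Place k k⟮x⟯, @FiniteDimensional k (IsLocalRing.ResidueField P.O) _ _ Algebra.toModule :=
    fun P => finiteDimensional_residueField hL.1 P
  have h2 := sum_locRes_trace hL.1 hφ hψ u' ⟨x, mem_adjoin_simple_self k x⟩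
  rw [show algebraMap k⟮x⟯ K ⟨x, mem_adjoin_simple_self k x⟩ = x from rfl] at h2
  rw [h2]
  exact sum_locRes_rational hL (adjoin_val_eq_top x) hψ _

end Groth.Agent.FF
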