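import Groth.Prelude.Def_LocRes

/-! Laurent series toolkit: valuation, derivative, residue. -/

set_option autoImplicit false
set_option linter.style.haveILetI false

open LaurentSeries HahnSeries WithZero

namespace Groth.Agent.FF.LR

variable {F : Type*} [Field F]

local notation "v" => (Valued.v : Valuation F⸨X⸩ ℤᵐ⁰)

lemma v_coe_le_one (f : PowerSeries F) : v (f : F⸨X⸩) ≤ 1 :=
  (val_le_one_iff_eq_coe F _).2 ⟨f, rfl⟩

lemma exists_coe {f : F⸨X⸩} (h : v f ≤ 1) : ∃ g : PowerSeries F, (g : F⸨X⸩) = f :=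
  (val_le_one_iff_eq_coe F f).1 h

lemma coeff_eq_zero {f : F⸨X⸩} (h : v f ≤ 1) {n : ℤ} (hn : n < 0) : f.coeff n = 0 := by
  rw [← exp_zero, show (0 : ℤ) = -(0 : ℤ) by simp] at h
  exact coeff_zero_of_lt_valuation F h hn

lemma res_of_le_one {f : F⸨X⸩} (h : v f ≤ 1) : f.coeff (-1) = 0 := coeff_eq_zero h (by norm_num)

lemma coeff_coe_neg_one (f : PowerSeries F) : (f : F⸨X⸩).coeff (-1) = 0 :=
  res_of_le_one (v_coe_le_one f)

/-- Every nonzero series is `X^n` times a power series with nonzero constant term. -/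
lemma exists_unit_form {f : F⸨X⸩} (hf : f ≠ 0) :
    ∃ (n : ℤ) (u : PowerSeries F), PowerSeries.constantCoeff u ≠ 0 ∧
      f = single n 1 * (u : F⸨X⸩) ∧ v f = exp (-n) := by
  refine ⟨f.order, f.powerSeriesPart, ?_, (single_order_mul_powerSeriesPart f).symm, ?_⟩
  · rw [← PowerSeries.coeff_zero_eq_constantCoeff_apply, powerSeriesPart_coeff]
    simpa using (mt coeff_order_eq_zero.1 hf)
  · have h1 : v f ≤ exp (-f.order) := (valuation_le_iff_coeff_lt_eq_zero F).2 fun n hn =>
      coeff_eq_zero_of_lt_order hn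
    refine le_antisymm h1 (not_lt.1 fun hlt => ?_)
    have h0 : v f ≠ 0 := by simpa using hf
    rw [← exp_log h0, exp_lt_exp] at hlt
    have h2 : v f ≤ exp (-(f.order + 1)) := by
      rw [← exp_log h0, exp_le_exp]; omega
    exact (mt coeff_order_eq_zero.1 hf) (coeff_zero_of_lt_valuation F h2 (by omega))

lemma v_coe_of_constantCoeff {u : PowerSeries F} (hu : PowerSeries.constantCoeff u ≠ 0) :
    v (u : F⸨X⸩) = 1 := by
  refine le_antisymm (v_coe_le_one u) (not_lt.1 fun hlt => hu ?_)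
  have h2 : v (u : F⸨X⸩) ≤ exp (-(1 : ℤ)) := by
    rcases eq_or_ne (v (u : F⸨X⸩)) 0 with h0 | h0
    · simp [h0]
    · rw [← exp_log h0, ← exp_zero, exp_lt_exp] at hlt
      rw [← exp_log h0, exp_le_exp]; omega
  have := coeff_zero_of_lt_valuation F h2 (n := (0 : ℕ)) (by norm_num)
  rwa [coeff_coe_powerSeries, PowerSeries.coeff_zero_eq_constantCoeff_apply] at this

lemma v_single {s : ℤ} {c : F} (hc : c ≠ 0) : v (single s c) = exp (-s) := by
  rw [show single s c = (HahnSeries.C c : F⸨X⸩) * single s 1 by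
      rw [HahnSeries.C_apply, single_mul_single, zero_add, mul_one],
    map_mul, valuation_single_zpow, ← HahnSeries.ofPowerSeries_C]
  refine mul_eq_right₀ (exp_ne_zero) |>.2 ?_
  exact v_coe_of_constantCoeff (u := PowerSeries.C c) (by simpa using hc)

lemma D_single (n : ℤ) (c : F) : LocRes.D F (single n c) = single (n - 1) (n • c) := by
  rw [LocRes.D_apply, LaurentSeries.derivative_apply, LaurentSeries.hasseDeriv_single]
  simp

lemma v_D_le_one {f : F⸨X⸩} (h : v f ≤ 1) : v (LocRes.D F f) ≤ 1 := by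
  obtain ⟨g, rfl⟩ := exists_coe h
  rw [LocRes.D_coe]
  exact v_coe_le_one _

lemma coeff_D_neg_one (f : F⸨X⸩) : (LocRes.D F f).coeff (-1) = 0 := by
  rw [LocRes.D_coeff]; simp

lemma coeff_mul_D_eq_zero {f g : F⸨X⸩} (hf : v f ≤ 1) (hg : v g ≤ 1) :
    (f * LocRes.D F g).coeff (-1) = 0 := by
  refine res_of_le_one ?_
  rw [map_mul]
  exact mul_le_one' hf (v_D_le_one hg)

/-- The residue of a logarithmic derivative is the order. -/
lemma coeff_inv_mul_D {f : F⸨X⸩} (hf : f ≠ 0) :
    (f⁻¹ * LocRes.D F f).coeff (-1) = ((-WithZero.log (v f) : ℤ) : F) := by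
  obtain ⟨n, u, hu, rfl, hv⟩ := exists_unit_form hf
  rw [hv, log_exp, neg_neg]
  have hu0 : (u : F⸨X⸩) ≠ 0 := fun e => by
    have := v_coe_of_constantCoeff hu
    rw [e, map_zero] at this
    exact zero_ne_one this
  have e : (single n (1 : F) * (u : F⸨X⸩))⁻¹ * LocRes.D F (single n 1 * (u : F⸨X⸩)) =
      single (-1 : ℤ) (n : F) + (u : F⸨X⸩)⁻¹ * LocRes.D F (u : F⸨X⸩) := by
    rw [Derivation.leibniz, D_single, smul_eq_mul, smul_eq_mul, zsmul_one, mul_inv, inv_single, inv_one]
    have h1 : (single (-n) (1 : F)) * single n 1 = 1 := by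
      rw [single_mul_single, neg_add_cancel, mul_one]; rfl
    have h2 : (single (-n) (1 : F)) * single (n - 1) (n : F) = single (-1 : ℤ) (n : F) := by
      rw [single_mul_single, one_mul]; congr 2; ring
    calc single (-n) 1 * (u : F⸨X⸩)⁻¹ * (single n 1 * LocRes.D F (u : F⸨X⸩) + (u : F⸨X⸩) * single (n - 1) (n : F))
        = (single (-n) 1 * single n 1) * ((u : F⸨X⸩)⁻¹ * LocRes.D F (u : F⸨X⸩)) +
          (single (-n) 1 * single (n - 1) (n : F)) * ((u : F⸨X⸩)⁻¹ * (u : F⸨X⸩)) := by ring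
      _ = _ := by rw [h1, h2, inv_mul_cancel₀ hu0]; ring
  rw [e, HahnSeries.coeff_add, coeff_single_same, coeff_mul_D_eq_zero, add_zero]
  · rw [map_inv₀, v_coe_of_constantCoeff hu, inv_one]
  · exact v_coe_le_one u

/-- Kernel of the derivative in characteristic zero. -/
lemma D_eq_zero_iff [CharZero F] (f : F⸨X⸩) : LocRes.D F f = 0 ↔ f = HahnSeries.C (f.coeff 0) := by
  constructor
  · intro h
    ext n
    rcases eq_or_ne n 0 with rfl | hn
    · simp [HahnSeries.C_apply]
    · rw [HahnSeries.C_apply, coeff_single_of_ne hn]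
      have := congrArg (fun g : F⸨X⸩ => g.coeff (n - 1)) h
      simp only [LocRes.D_coeff, sub_add_cancel, HahnSeries.coeff_zero, zsmul_eq_mul] at this
      exact (mul_eq_zero.1 this).resolve_left (by exact_mod_cast hn)
  · intro h
    rw [h, LocRes.D_apply, LocRes.derivative_C]

lemma exists_D_eq_iff [CharZero F] (g : F⸨X⸩) : (∃ f, LocRes.D F f = g) ↔ g.coeff (-1) = 0 := by
  constructor
  · rintro ⟨f, rfl⟩; exact coeff_D_neg_one f
  · intro h
    have hb : BddBelow (Function.support fun n : ℤ => g.coeff (n - 1) / (n : F)) := by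
      refine ⟨g.order + 1, fun n hn => ?_⟩
      simp only [Function.mem_support, ne_eq, div_eq_zero_iff, not_or] at hn
      have := order_le_of_coeff_ne_zero hn.1
      omega
    refine ⟨ofSuppBddBelow _ hb, ?_⟩
    ext n
    rw [LocRes.D_coeff]
    simp only [ofSuppBddBelow, add_sub_cancel_right, zsmul_eq_mul]
    rcases eq_or_ne n (-1) with rfl | hn
    · simp [h]
    · rw [mul_div_cancel₀]
      exact_mod_cast (show n + 1 ≠ 0 by omega)

end Groth.Agent.FF.LR
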