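import Groth.Agent.FF.Linear
import Groth.Agent.FF.ConstExtBuild
import Groth.Agent.FF.LR.Series
import Mathlib.RingTheory.Unramified.Field
import Mathlib.RingTheory.Kaehler.Basic
import Mathlib.RingTheory.AdicCompletion.Completeness
import Mathlib.RingTheory.Henselian
import Mathlib.FieldTheory.PrimitiveElement

/-! Separating variables. -/

set_option autoImplicit false
set_option linter.style.haveILetI false
set_option linter.unusedSectionVars false

open FunFld IntermediateField LaurentSeries
open scoped TensorProduct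

namespace Groth.Agent.FF

universe u v

variable {k : Type u} {K : Type v} [Field k] [Field K] [Algebra k K]

/-- MacLane's criterion: `k`-elements independent over `k^p` stay independent over `K^p`. -/
def MacLane (k K : Type*) [Field k] [Field K] [Algebra k K] (p : ℕ) : Prop :=
  ∀ (r : ℕ) (c : Fin r → k), (∀ a : Fin r → k, ∑ m, c m * a m ^ p = 0 → a = 0) →
    ∀ g : Fin r → K, ∑ m, algebraMap k K (c m) * g m ^ p = 0 → g = 0

lemma macLane_of_geometric (p : ℕ) [hp : Fact p.Prime] [CharP K p]
    (hg : FunFld.IsGeometric k K) : MacLane k K p := by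
  classical
  intro r c hc g hgg
  haveI : CharP k p := (Algebra.charP_iff k K p).2 inferInstance
  let A := AlgebraicClosure k
  haveI : CharP A p := (Algebra.charP_iff k A p).1 inferInstance
  choose e he using fun m => IsAlgClosed.exists_pow_nat_eq (algebraMap k A (c m)) hp.out.pos
  let k' : IntermediateField k A := IntermediateField.adjoin k (Set.range e)
  haveI : FiniteDimensional k k' :=
    IntermediateField.finiteDimensional_adjoin fun x _ => Algebra.IsIntegral.isIntegral x
  let e' : Fin r → k' := fun m => ⟨e m, IntermediateField.subset_adjoin k _ ⟨m, rfl⟩⟩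
  haveI : CharP k' p := (Algebra.charP_iff k k' p).1 inferInstance
  have hind : LinearIndependent k e' := by
    refine Fintype.linearIndependent_iff.2 fun a ha => congrFun (hc a ?_)
    apply (algebraMap k k').injective
    rw [map_zero, map_sum]
    have h2 := congrArg (fun z => z ^ p) ha
    simp only [zero_pow hp.out.ne_zero, sum_pow_char] at h2
    rw [← h2]
    refine Finset.sum_congr rfl fun m _ => Subtype.ext ?_
    simp only [Algebra.smul_def, mul_pow, map_mul, map_pow]
    push_cast
    rw [he m]
    exact mul_comm _ _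
  have hfield := hg k' inferInstance
  letI : Field (k' ⊗[k] K) := hfield.toField
  let iR : K →ₐ[k] k' ⊗[k] K := Algebra.TensorProduct.includeRight
  haveI : CharP (k' ⊗[k] K) p := (charP_of_injective_ringHom iR.toRingHom.injective p)
  set s : k' ⊗[k] K := ∑ m, e' m ⊗ₜ[k] g m with hsdef
  have hs : s = 0 := by
    refine eq_zero_of_pow_eq_zero (n := p) ?_
    have h1 : ∀ m, (e' m ⊗ₜ[k] g m) ^ p = (1 : k') ⊗ₜ[k] (algebraMap k K (c m) * g m ^ p) := fun m => by
      rw [Algebra.TensorProduct.tmul_pow,
        show e' m ^ p = c m • (1 : k') from Subtype.ext (by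
          rw [IntermediateField.coe_pow, he m, IntermediateField.coe_smul, IntermediateField.coe_one,
            Algebra.algebraMap_eq_smul_one]),
        TensorProduct.smul_tmul, Algebra.smul_def]
    rw [hsdef, sum_pow_char, Finset.sum_congr rfl fun m _ => h1 m, ← TensorProduct.tmul_sum, hgg,
      TensorProduct.tmul_zero]
  have hs2 : e' = e' := rfl
  let bk := Module.Basis.extend hind.linearIndepOn_id
  funext m
  let i0 : hind.linearIndepOn_id.extend (Set.subset_univ _) :=
    ⟨e' m, Module.Basis.subset_extend _ ⟨m, rfl⟩⟩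
  have := congrArg (fun z => (TensorProduct.equivFinsuppOfBasisLeft bk z) i0) hs
  simp only [hsdef, map_sum, Finsupp.coe_finsetSum, Finset.sum_apply,
    TensorProduct.equivFinsuppOfBasisLeft_apply_tmul_apply, map_zero, Finsupp.zero_apply] at this
  rw [Finset.sum_eq_single m] at this
  · rw [show e' m = bk i0 from (Module.Basis.extend_apply_self hind.linearIndepOn_id i0).symm, bk.repr_self,
      Finsupp.single_eq_same, one_smul] at this
    exact this
  · intro j _ hj
    have hj' : e' j = bk ⟨e' j, Module.Basis.subset_extend _ ⟨j, rfl⟩⟩ :=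
      (Module.Basis.extend_apply_self hind.linearIndepOn_id ⟨e' j, Module.Basis.subset_extend _ ⟨j, rfl⟩⟩).symm
    rw [hj', bk.repr_self, Finsupp.single_apply, if_neg, zero_smul]
    intro h
    exact hj (hind.injective (congrArg Subtype.val h))
  · exact fun h => absurd (Finset.mem_univ m) h

lemma macLane_of_perfect (p : ℕ) [hp : Fact p.Prime] [CharP K p] [PerfectField k] : MacLane k K p := by
  intro r c hc g hgg
  haveI : CharP k p := (Algebra.charP_iff k K p).2 inferInstance
  haveI : PerfectRing k p := PerfectField.toPerfectRing p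
  choose d hd using fun m => surjective_frobenius k p (c m)
  simp only [frobenius_def] at hd
  rcases Nat.lt_or_ge r 2 with hr | hr
  · funext m
    have hm0 : c m ≠ 0 := fun h => by
      have := congrFun (hc (fun j => if j = m then 1 else 0) (by
        rw [Finset.sum_eq_single m] <;> simp +contextual [h, zero_pow hp.out.ne_zero])) m
      simp at this
    haveI : Subsingleton (Fin r) := Fin.subsingleton_iff_le_one.2 (by omega)
    rw [Fintype.sum_subsingleton _ m, mul_eq_zero] at hgg
    rcases hgg with h | h
    · exact absurd h (by simpa using hm0)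
    · exact eq_zero_of_pow_eq_zero h
  · exfalso
    let i : Fin r := ⟨0, by omega⟩
    let j : Fin r := ⟨1, by omega⟩
    have hij : i ≠ j := by simp [i, j]
    have h := hc (fun m => if m = i then d j else if m = j then -d i else 0) (by
      rw [Finset.sum_eq_add i j hij]
      · have e1 : (-d i) ^ p = -(d i ^ p) := by
          rw [← frobenius_def, map_neg, frobenius_def]
        simp [hij.symm, e1, hd]; ring
      · intro m _ hm
        simp [hm.1, hm.2, zero_pow hp.out.ne_zero]
      · simp
      · simp)
    have hj0 : d j = 0 := by simpa using congrFun h i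
    have := congrFun (hc (fun m => if m = j then 1 else 0) (by
      rw [Finset.sum_eq_single j] <;> simp +contextual [← hd, hj0, zero_pow hp.out.ne_zero])) j
    simp at this

/-- A Laurent expansion with separable coefficient field gives MacLane's criterion. -/
lemma macLane_of_expansion (p : ℕ) [hp : Fact p.Prime] [CharP K p] {F : Type*} [Field F] [Algebra k F]
    [FiniteDimensional k F] [Algebra.IsSeparable k F] (φ : K →ₐ[k] F⸨X⸩) : MacLane k K p := by
  classical
  intro r c hc g hgg
  haveI : CharP k p := (Algebra.charP_iff k K p).2 inferInstance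
  haveI : CharP F p := (Algebra.charP_iff k F p).1 inferInstance
  haveI : ExpChar k p := ExpChar.prime hp.out
  by_contra hne
  have hφ0 : ∀ m, φ (g m) = 0 → g m = 0 := fun m h => φ.toRingHom.injective (h.trans (map_zero φ).symm)
  let s := Finset.univ.filter fun m => g m ≠ 0
  have hsne : s.Nonempty := by
    by_contra hs
    rw [Finset.not_nonempty_iff_eq_empty, Finset.filter_eq_empty_iff] at hs
    exact hne (funext fun m => not_not.1 (hs (Finset.mem_univ m)))
  obtain ⟨m₀, hm₀, hmin⟩ := s.exists_min_image (fun m => (φ (g m)).order) hsne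
  set N := (φ (g m₀)).order with hN
  have hcoeff : ∀ m, ((φ (g m)) ^ p).coeff (p * N) = (φ (g m)).coeff N ^ p := by
    intro m
    have hval : Valued.v (φ (g m)) ≤ WithZero.exp (-N) := by
      refine (LaurentSeries.valuation_le_iff_coeff_lt_eq_zero F).2 fun n hn => ?_
      rcases eq_or_ne (g m) 0 with h0 | h0
      · rw [h0, map_zero, HahnSeries.coeff_zero]
      · exact HahnSeries.coeff_eq_zero_of_lt_order (hn.trans_le (hmin m (by simp [s, h0])))
    obtain ⟨f, hf⟩ := LR.exists_coe (f := HahnSeries.single (-N) (1 : F) * φ (g m)) (by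
      rw [map_mul, LR.v_single one_ne_zero, neg_neg]
      exact (mul_le_mul' le_rfl hval).trans_eq (by rw [← WithZero.exp_add, add_neg_cancel, WithZero.exp_zero]))
    have hgm : φ (g m) = HahnSeries.single N 1 * (f : F⸨X⸩) := by
      rw [hf, ← mul_assoc, HahnSeries.single_mul_single, add_neg_cancel, one_mul]
      exact (one_mul _).symm
    have h0 : (φ (g m)).coeff N = PowerSeries.constantCoeff f := by
      rw [hgm, HahnSeries.coeff_single_mul, one_mul, sub_self]
      rw [show (0 : ℤ) = ((0 : ℕ) : ℤ) from rfl, coeff_coe_powerSeries,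
        PowerSeries.coeff_zero_eq_constantCoeff_apply]
    rw [h0, hgm, mul_pow, HahnSeries.single_pow, one_pow, ← map_pow, nsmul_eq_mul]
    rw [HahnSeries.coeff_single_mul, one_mul, sub_self]
    rw [show (0 : ℤ) = ((0 : ℕ) : ℤ) from rfl, coeff_coe_powerSeries,
      PowerSeries.coeff_zero_eq_constantCoeff_apply, map_pow]
  have h1 := congrArg (fun z => (φ z).coeff ((p : ℤ) * N)) hgg
  simp only [map_sum, map_mul, map_pow, map_zero, HahnSeries.coeff_zero, HahnSeries.coeff_sum,
    LocRes.map_algebraMap, HahnSeries.C_mul_eq_smul, HahnSeries.coeff_smul, smul_eq_mul, hcoeff] at h1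
  -- `F = k F^p`
  set b := Module.finBasis k F
  have hb : LinearIndependent k fun i => b i ^ p := by
    have := b.linearIndependent.map_pow_expChar_pow_of_isSeparable p 1
    simpa using this
  have hexp : ∀ m, (φ (g m)).coeff N ^ p = ∑ i, (b.repr ((φ (g m)).coeff N) i) ^ p • b i ^ p := fun m => by
    conv_lhs => rw [← b.sum_repr ((φ (g m)).coeff N)]
    rw [sum_pow_char]
    exact Finset.sum_congr rfl fun i _ => smul_pow _ _ _
  simp only [hexp, Finset.mul_sum, ← Algebra.smul_def, smul_smul] at h1
  rw [Finset.sum_comm] at h1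
  simp only [← Finset.sum_smul] at h1
  have h2 := Fintype.linearIndependent_iff.1 hb _ h1
  have h3 : b.repr ((φ (g m₀)).coeff N) = 0 := Finsupp.ext fun i => congrFun (hc _ (h2 i)) m₀
  have h4 : (φ (g m₀)).coeff N = 0 := by simpa using h3
  rw [hN] at h4
  exact (Finset.mem_filter.1 hm₀).2 (hφ0 m₀ (HahnSeries.coeff_order_eq_zero.1 h4))

variable (k K) in
/-- `k K^p` -/
noncomputable def kKp (p : ℕ) : IntermediateField k K :=
  IntermediateField.adjoin k (Set.range fun y : K => y ^ p)

section CharP

variable (p : ℕ) [hp : Fact p.Prime] [CharP K p]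

lemma pow_mem_kKp (y : K) : y ^ p ∈ kKp k K p := IntermediateField.subset_adjoin k _ ⟨y, rfl⟩

lemma frob_adjoin (x y : K) (hy : y ∈ k⟮x⟯) : y ^ p ∈ k⟮x ^ p⟯ := by
  induction hy using IntermediateField.adjoin_induction with
  | mem z hz =>
    rw [Set.mem_singleton_iff] at hz
    subst hz
    exact mem_adjoin_simple_self k _
  | algebraMap c => rw [← map_pow]; exact IntermediateField.algebraMap_mem _ _
  | add a b _ _ ha hb => rw [add_pow_char]; exact add_mem ha hb
  | inv a _ ha => rw [inv_pow]; exact inv_mem ha
  | mul a b _ _ ha hb => rw [mul_pow]; exact mul_mem ha hb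

lemma finrank_adjoin_pow (hK : IsFunctionField k K) {x : K} (hx : Transcendental k x) :
    Module.finrank k⟮x ^ p⟯ K = p * Module.finrank k⟮x⟯ K := by
  have hxp : Transcendental k (x ^ p) := hx.pow hp.out.pos
  have h1 := deg_zeroDiv hK.1 hx
  have h2 := deg_zeroDiv hK.1 hxp
  have h3 : zeroDiv (k := k) (x ^ p) = (p : ℤ) • zeroDiv (k := k) x := by
    ext P
    simp only [zeroDiv, Finsupp.sup_apply, div_apply hK.1, ord_pow, Finsupp.coe_zero, Pi.zero_apply,
      Finsupp.smul_apply, smul_eq_mul]
    rcases le_total (P.ord x) 0 with h | h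
    · rw [max_eq_right (mul_nonpos_of_nonneg_of_nonpos (by positivity) h), max_eq_right h, mul_zero]
    · rw [max_eq_left (mul_nonneg (by positivity) h), max_eq_left h]
  rw [h3, deg_zsmul, h1] at h2
  exact_mod_cast h2.symm

lemma finrank_kKp (hK : IsFunctionField k K) (hM : MacLane k K p) : Module.finrank (kKp k K p) K = p := by
  classical
  obtain ⟨x, hx, hfin⟩ := hK.1
  set M := k⟮x ^ p⟯
  have hMle : M ≤ kKp k K p := adjoin_simple_le_iff.2 (pow_mem_kKp p x)
  haveI : CharP k p := (Algebra.charP_iff k K p).2 inferInstance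
  haveI : ExpChar k p := ExpChar.prime hp.out
  let b := Module.finBasis k⟮x⟯ K
  set n := Module.finrank k⟮x⟯ K
  let bp : Fin n → K := fun i => b i ^ p
  have hspan : ∀ y : K, y ^ p ∈ Submodule.span M (Set.range bp) := fun y => by
    rw [← b.sum_repr y, sum_pow_char]
    refine Submodule.sum_mem _ fun i _ => ?_
    rw [Algebra.smul_def, mul_pow]
    exact Submodule.smul_mem _ (⟨_, frob_adjoin p x _ (b.repr y i).2⟩ : M)
      (Submodule.subset_span ⟨i, rfl⟩)
  have hli : LinearIndependent M bp := by
    rw [Fintype.linearIndependent_iff]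
    intro a ha
    -- clear denominators
    have hden : ∀ i, ∃ P Q : Polynomial k, Polynomial.aeval (x ^ p) Q ≠ 0 ∧
        (a i : K) = Polynomial.aeval (x ^ p) P / Polynomial.aeval (x ^ p) Q := fun i => by
      obtain ⟨P, Q, h⟩ := (IntermediateField.mem_adjoin_simple_iff k _).1 (a i).2
      by_cases hQ : Polynomial.aeval (x ^ p) Q = 0
      · exact ⟨0, 1, by simp, by rw [h, hQ, div_zero, map_zero, zero_div]⟩
      · exact ⟨P, Q, hQ, h⟩
    choose P Q hQ haPQ using hden
    let S : Fin n → Polynomial k := fun i => P i * ∏ j ∈ Finset.univ.erase i, Q j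
    have hS : ∀ i, Polynomial.aeval (x ^ p) (S i) = (a i : K) * ∏ j, Polynomial.aeval (x ^ p) (Q j) := fun i => by
      rw [← Finset.mul_prod_erase _ _ (Finset.mem_univ i), haPQ i, map_mul, map_prod, ← mul_assoc,
        div_mul_cancel₀ _ (hQ i)]
    have hsum : ∑ i, Polynomial.aeval (x ^ p) (S i) * bp i = 0 := by
      rw [Finset.sum_congr rfl fun i _ => by rw [hS i, mul_right_comm], ← Finset.sum_mul,
        show (∑ i, (a i : K) * bp i) = 0 from ha, zero_mul]
    -- coefficients over `k^p`
    let kp : Subfield k := (frobenius k p).fieldRange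
    let β := Module.Basis.ofVectorSpace kp k
    let J : Finset (Module.Basis.ofVectorSpaceIndex kp k) := Finset.univ.biUnion fun i : Fin n =>
      (Finset.range ((S i).natDegree + 1)).biUnion fun d => (β.repr ((S i).coeff d)).support
    let eJ := J.equivFin
    let c : Fin J.card → k := fun m => β (eJ.symm m : Module.Basis.ofVectorSpaceIndex kp k)
    have hc : ∀ α : Fin J.card → k, ∑ m, c m * α m ^ p = 0 → α = 0 := by
      intro α hα
      have hli' : LinearIndependent kp c := β.linearIndependent.comp _
        (Subtype.val_injective.comp eJ.symm.injective)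
      have h0 := Fintype.linearIndependent_iff.1 hli' (fun m => ⟨α m ^ p, α m, rfl⟩) (by
        rw [← hα]
        exact Finset.sum_congr rfl fun m _ => by rw [Subfield.smul_def, smul_eq_mul, mul_comm])
      exact funext fun m => eq_zero_of_pow_eq_zero (congrArg Subtype.val (h0 m))
    have hroot : ∀ (i : Fin n) (d : ℕ), ∃ α : Fin J.card → k, (S i).coeff d = ∑ m, c m * α m ^ p := by
      intro i d
      by_cases hd : (S i).natDegree < d
      · exact ⟨0, by rw [Polynomial.coeff_eq_zero_of_natDegree_lt hd]; simp [zero_pow hp.out.ne_zero]⟩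
      choose α hα using fun m : Fin J.card => (β.repr ((S i).coeff d) (eJ.symm m)).2
      refine ⟨α, ?_⟩
      have hsub : (β.repr ((S i).coeff d)).support ⊆ J := fun l hl =>
        Finset.mem_biUnion.2 ⟨i, Finset.mem_univ _, Finset.mem_biUnion.2 ⟨d, Finset.mem_range.2 (by omega), hl⟩⟩
      conv_lhs => rw [← β.linearCombination_repr ((S i).coeff d)]
      rw [Finsupp.linearCombination_apply, Finsupp.sum_of_support_subset _ hsub _ (by simp),
        ← Finset.sum_coe_sort J, ← eJ.symm.sum_comp]
      refine Finset.sum_congr rfl fun m _ => ?_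
      rw [Subfield.smul_def, smul_eq_mul, ← hα m, frobenius_def, mul_comm]
    choose α hα using hroot
    let h : Fin J.card → Fin n → Polynomial k := fun m i =>
      ∑ d ∈ Finset.range ((S i).natDegree + 1), Polynomial.C (α i d m) * Polynomial.X ^ d
    have key : ∀ i, Polynomial.aeval (x ^ p) (S i) =
        ∑ m, algebraMap k K (c m) * Polynomial.aeval x (h m i) ^ p := fun i => by
      rw [Polynomial.aeval_eq_sum_range]
      simp only [h, map_sum, sum_pow_char, map_mul, mul_pow, map_pow, Polynomial.aeval_C,
        Polynomial.aeval_X, Finset.mul_sum]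
      rw [Finset.sum_comm]
      refine Finset.sum_congr rfl fun d _ => ?_
      rw [Algebra.smul_def, hα i d, map_sum, Finset.sum_mul]
      refine Finset.sum_congr rfl fun m _ => ?_
      rw [map_mul, map_pow, ← pow_mul, ← pow_mul, mul_comm d p]
      ring
    have hz : ∑ m, algebraMap k K (c m) * (∑ i, Polynomial.aeval x (h m i) * b i) ^ p = 0 := by
      rw [← hsum]
      simp only [key, sum_pow_char, Finset.mul_sum, Finset.sum_mul, mul_pow, bp]
      rw [Finset.sum_comm]
      refine Finset.sum_congr rfl fun i _ => Finset.sum_congr rfl fun m _ => by ring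
    have h0 := hM _ c hc _ hz
    have hh : ∀ m i, Polynomial.aeval x (h m i) = 0 := fun m => by
      have := Fintype.linearIndependent_iff.1 b.linearIndependent
        (fun i => (⟨Polynomial.aeval x (h m i), IntermediateField.algebra_adjoin_le_adjoin k _ (Polynomial.aeval_mem_adjoin_singleton k x)⟩ : k⟮x⟯))
        (congrFun h0 m)
      exact fun i => congrArg Subtype.val (this i)
    intro i
    have h3 : Polynomial.aeval (x ^ p) (S i) = 0 := by
      rw [key i]; exact Finset.sum_eq_zero fun m _ => by rw [hh m i, zero_pow hp.out.ne_zero, mul_zero]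
    rw [hS i, mul_eq_zero] at h3
    exact Subtype.ext (h3.resolve_right (Finset.prod_ne_zero_iff.2 fun j _ => hQ j))
  have hpn := finrank_adjoin_pow p hK hx
  haveI : FiniteDimensional M K := Module.finite_of_finrank_pos (by
    rw [hpn]; exact Nat.mul_pos hp.out.pos Module.finrank_pos)
  -- the span is a subalgebra
  have hclosed : ∀ u v : K, u ∈ Submodule.span M (Set.range bp) → v ∈ Submodule.span M (Set.range bp) →
      u * v ∈ Submodule.span M (Set.range bp) := fun u v hu hv => by
    induction hu using Submodule.span_induction with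
    | mem a ha =>
      induction hv using Submodule.span_induction with
      | mem b' hb' =>
        obtain ⟨i, rfl⟩ := ha
        obtain ⟨j, rfl⟩ := hb'
        show b i ^ p * b j ^ p ∈ _
        rw [← mul_pow]; exact hspan _
      | zero => simp
      | add a₁ a₂ _ _ h1 h2 => rw [mul_add]; exact Submodule.add_mem _ h1 h2
      | smul r a₁ _ h1 => rw [mul_smul_comm]; exact Submodule.smul_mem _ r h1
    | zero => simp
    | add a₁ a₂ _ _ h1 h2 => rw [add_mul]; exact Submodule.add_mem _ h1 h2
    | smul r a₁ _ h1 => rw [smul_mul_assoc]; exact Submodule.smul_mem _ r h1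
  let T : Subalgebra M K := Submodule.toSubalgebra (Submodule.span M (Set.range bp))
    (by simpa using hspan 1) hclosed
  haveI : Algebra.IsAlgebraic M K := Algebra.IsAlgebraic.of_finite M K
  let T' : IntermediateField M K := Subalgebra.IsAlgebraic.toIntermediateField
    (S := T) (fun z _ => Algebra.IsAlgebraic.isAlgebraic z)
  have hE : IntermediateField.extendScalars hMle = T' := by
    refine le_antisymm ?_ fun z hz => ?_
    · intro z hz
      have hle : kKp k K p ≤ T'.restrictScalars k :=
        IntermediateField.adjoin_le_iff.2 (by rintro _ ⟨y, rfl⟩; exact hspan y)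
      exact hle hz
    · show z ∈ kKp k K p
      refine Submodule.span_induction (p := fun z _ => z ∈ kKp k K p) ?_ (zero_mem _)
        (fun _ _ _ _ h1 h2 => add_mem h1 h2) (fun r a _ h => ?_) (show z ∈ Submodule.span M (Set.range bp) from hz)
      · rintro _ ⟨i, rfl⟩; exact pow_mem_kKp p _
      · rw [Algebra.smul_def]; exact mul_mem (hMle r.2) h
  have hrT : Module.finrank M T' = n := by
    have := finrank_span_eq_card hli
    rw [Fintype.card_fin] at this
    exact this
  have h5 := Module.finrank_mul_finrank M T' K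
  rw [hrT, hpn, ← hE] at h5
  have hn0 : 0 < n := Module.finrank_pos
  rw [mul_comm p n] at h5
  exact Nat.eq_of_mul_eq_mul_left hn0 h5

lemma adjoin_eq_top_of_notMem (hK : IsFunctionField k K) (hM : MacLane k K p) {x : K}
    (hx : x ∉ kKp k K p) : kKp k K p ⊔ k⟮x⟯ = ⊤ := by
  set E := kKp k K p
  have hfr := finrank_kKp p hK hM
  haveI : FiniteDimensional E K := Module.finite_of_finrank_pos (by rw [hfr]; exact hp.out.pos)
  have hdvd : Module.finrank (E ⊔ k⟮x⟯ : IntermediateField k K) K ∣ p := by
    refine ⟨IntermediateField.relfinrank E (E ⊔ k⟮x⟯), ?_⟩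
    rw [← hfr, ← IntermediateField.relfinrank_mul_finrank_top (le_sup_left : E ≤ E ⊔ k⟮x⟯), mul_comm]
  rcases (Nat.dvd_prime hp.out).1 hdvd with h | h
  · exact IntermediateField.finrank_eq_one_iff_eq_top.1 h
  · exfalso
    have h2 := IntermediateField.relfinrank_mul_finrank_top (le_sup_left : E ≤ E ⊔ k⟮x⟯)
    rw [h, hfr, mul_eq_right₀ hp.out.ne_zero, IntermediateField.relfinrank_eq_one_iff] at h2
    exact hx (h2 ((le_sup_right : k⟮x⟯ ≤ E ⊔ k⟮x⟯) (mem_adjoin_simple_self k x)))

lemma D_eq_zero_of_mem (x : K) (hx : x ∈ kKp k K p) : KaehlerDifferential.D k K x = 0 := by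
  induction hx using IntermediateField.adjoin_induction with
  | mem z hz =>
    obtain ⟨y, rfl⟩ := hz
    rw [Derivation.leibniz_pow, ← Nat.cast_smul_eq_nsmul K, CharP.cast_eq_zero, zero_smul]
  | algebraMap c => exact Derivation.map_algebraMap _ _
  | add a b _ _ ha hb => rw [map_add, ha, hb, add_zero]
  | inv a _ ha => rw [Derivation.leibniz_inv, ha, smul_zero]
  | mul a b _ _ ha hb => rw [Derivation.leibniz, ha, hb, smul_zero, smul_zero, add_zero]

lemma transcendental_of_notMem_kKp (hK : IsFunctionField k K) {x : K} (hx : x ∉ kKp k K p) :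
    Transcendental k x := by
  refine transcendental_of_notMem hK ?_
  rintro ⟨c, rfl⟩
  exact hx (IntermediateField.algebraMap_mem _ _)

lemma isSeparable_of_notMem (hK : IsFunctionField k K) (hM : MacLane k K p) {x : K}
    (hx : x ∉ kKp k K p) : Algebra.IsSeparable k⟮x⟯ K := by
  haveI : FiniteDimensional k⟮x⟯ K := finite_adjoin hK.1 (transcendental_of_notMem_kKp p hK hx)
  rw [← Algebra.FormallyUnramified.iff_isSeparable]
  refine ⟨?_⟩
  have htop := adjoin_eq_top_of_notMem p hK hM hx
  have hspan : (⊤ : Submodule K (Ω[K⁄k⟮x⟯])) ≤ ⊥ := by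
    rw [← KaehlerDifferential.span_range_derivation, Submodule.span_le]
    rintro _ ⟨y, rfl⟩
    have hy : y ∈ kKp k K p ⊔ k⟮x⟯ := by rw [htop]; trivial
    rw [kKp, ← IntermediateField.adjoin_union] at hy
    show KaehlerDifferential.D k⟮x⟯ K y ∈ (⊥ : Submodule K _)
    rw [Submodule.mem_bot]
    induction hy using IntermediateField.adjoin_induction with
    | mem z hz =>
      rcases hz with ⟨w, rfl⟩ | hz
      · rw [Derivation.leibniz_pow, ← Nat.cast_smul_eq_nsmul K, CharP.cast_eq_zero, zero_smul]
      · rw [Set.mem_singleton_iff] at hz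
        subst hz
        exact Derivation.map_algebraMap (KaehlerDifferential.D k⟮z⟯ K) (⟨z, mem_adjoin_simple_self k z⟩ : k⟮z⟯)
    | algebraMap c =>
      rw [IsScalarTower.algebraMap_apply k k⟮x⟯ K]
      exact Derivation.map_algebraMap _ _
    | add a b _ _ ha hb => rw [map_add, ha, hb, add_zero]
    | inv a _ ha => rw [Derivation.leibniz_inv, ha, smul_zero]
    | mul a b _ _ ha hb => rw [Derivation.leibniz, ha, hb, smul_zero, smul_zero, add_zero]
  exact (Submodule.subsingleton_iff K).1 (subsingleton_of_bot_eq_top (le_antisymm bot_le hspan))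

lemma not_isSeparable_of_mem (hK : IsFunctionField k K) (hM : MacLane k K p) {x : K}
    (hx : x ∈ kKp k K p) : ¬ Algebra.IsSeparable k⟮x⟯ K := by
  intro hsep
  set E := kKp k K p
  have hle : k⟮x⟯ ≤ E := adjoin_simple_le_iff.2 hx
  letI : Algebra k⟮x⟯ E := (IntermediateField.inclusion hle).toRingHom.toAlgebra
  haveI : IsScalarTower k⟮x⟯ E K := IsScalarTower.of_algebraMap_eq fun z => rfl
  haveI : Algebra.IsSeparable E K := Algebra.isSeparable_tower_top_of_isSeparable k⟮x⟯ E K
  have hfr := finrank_kKp p hK hM
  haveI : FiniteDimensional E K := Module.finite_of_finrank_pos (by rw [hfr]; exact hp.out.pos)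
  have hpi : IsPurelyInseparable E K := by
    haveI : CharP E p := (Algebra.charP_iff E K p).2 inferInstance
    haveI : ExpChar E p := ExpChar.prime hp.out
    rw [isPurelyInseparable_iff_pow_mem E p]
    exact fun y => ⟨1, ⟨⟨y ^ p, pow_mem_kKp p y⟩, by rw [pow_one]; rfl⟩⟩
  have hsurj := IsPurelyInseparable.surjective_algebraMap_of_isSeparable E K
  have : Module.finrank E K = 1 := finrank_eq_one (1 : K) one_ne_zero fun y => by
    obtain ⟨c, hc⟩ := hsurj y
    exact ⟨c, by rw [← hc, Algebra.smul_def, mul_one]⟩
  rw [hfr] at this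
  exact hp.out.one_lt.ne' this

end CharP

end Groth.Agent.FF
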