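import Groth.Agent.FF.LR.LocalSum
import Groth.Agent.FF.Lattice

/-! The residue of a trace is the sum of the residues above. -/

set_option autoImplicit false
set_option linter.style.haveILetI false
set_option linter.unusedSectionVars false

open FunFld WithZero LaurentSeries

namespace Groth.Agent.FF

section CoeffField

variable {k K F : Type*} [Field k] [Field K] [Algebra k K] [Field F] [Algebra k F]
  {φ : K →ₐ[k] F⸨X⸩} {P : Place k K}

/-- the residue field of the place is the coefficient field -/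
lemma nonempty_residueEquiv (hφ : LocRes.IsExpansionAt P.1 φ) :
    Nonempty (IsLocalRing.ResidueField P.O ≃ₐ[k] F) := by
  have hint : ∀ a : P.O, Valued.v (φ (a : K)) ≤ (1 : ℤᵐ⁰) := fun a => by rw [hφ.1]; exact a.2
  let g : P.O →ₐ[k] F :=
    { toFun := fun a => PowerSeries.constantCoeff (LR.toPS (φ (a : K)))
      map_one' := by
        show PowerSeries.constantCoeff (LR.toPS (φ 1)) = 1
        rw [map_one, ← PowerSeries.coe_one, LR.toPS_coe, map_one]
      map_zero' := by
        show PowerSeries.constantCoeff (LR.toPS (φ 0)) = 0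
        rw [map_zero, ← PowerSeries.coe_zero, LR.toPS_coe, map_zero]
      map_mul' := fun a b => by
        show PowerSeries.constantCoeff (LR.toPS (φ ((a : K) * b))) = _
        rw [map_mul, LR.toPS_mul (hint a) (hint b), map_mul]
      map_add' := fun a b => by
        show PowerSeries.constantCoeff (LR.toPS (φ ((a : K) + b))) = _
        rw [map_add, show LR.toPS (φ (a : K) + φ (b : K)) = LR.toPS (φ (a : K)) + LR.toPS (φ (b : K)) by ext; simp,
          map_add]
      commutes' := fun c => by
        show PowerSeries.constantCoeff (LR.toPS (φ (algebraMap k K c))) = _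
        rw [LocRes.map_algebraMap, ← HahnSeries.ofPowerSeries_C, LR.toPS_coe, PowerSeries.constantCoeff_C] }
  have hg : Function.Surjective g := fun a => by
    obtain ⟨f, hf, hfa⟩ := hφ.2.1 a
    refine ⟨⟨f, hf⟩, ?_⟩
    show PowerSeries.constantCoeff (LR.toPS (φ f)) = a
    rw [← PowerSeries.coeff_zero_eq_constantCoeff_apply, LR.coeff_toPS]
    exact hfa
  have hker : RingHom.ker g.toRingHom = IsLocalRing.maximalIdeal P.O :=
    IsLocalRing.eq_maximalIdeal (RingHom.ker_isMaximal_of_surjective g.toRingHom hg)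
  let f := RingHom.quotientKerEquivOfSurjective hg
  refine ⟨AlgEquiv.ofRingEquiv (f := (Ideal.quotEquivOfEq hker.symm).trans f) fun c => ?_⟩
  exact g.commutes c

lemma finrank_coeffField (hφ : LocRes.IsExpansionAt P.1 φ) : Module.finrank k F = P.deg := by
  obtain ⟨e⟩ := nonempty_residueEquiv hφ
  letI : Module k (IsLocalRing.ResidueField P.O) := Algebra.toModule
  exact (e.toLinearEquiv.finrank_eq).symm

end CoeffField

variable {k K K' : Type*} [Field k] [Field K] [Field K'] [Algebra k K] [Algebra K K'] [Algebra k K']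
  [IsScalarTower k K K'] [FiniteDimensional K K'] {F : Type*} [Field F] [Algebra k F] [FiniteDimensional k F]
  {φ : K →ₐ[k] F⸨X⸩} {P : Place k K}

/-- The residue of a trace is the sum of the residues above. -/
theorem locRes_trace_eq_sum (hK : IsFF k K) (hφ : LocRes.IsExpansionAt P.1 φ)
    (Qs : Finset (Place k K')) (hQs : ∀ Q, Q ∈ Qs ↔ IsOver Q P)
    {F' : Place k K' → Type*} [∀ Q, Field (F' Q)] [∀ Q, Algebra k (F' Q)] [∀ Q, FiniteDimensional k (F' Q)]
    (ψ : ∀ Q, K' →ₐ[k] (F' Q)⸨X⸩) (hψ : ∀ Q ∈ Qs, LocRes.IsExpansionAt Q.1 (ψ Q))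
    (y : K') (x : K) :
    LocRes.locRes φ (Algebra.trace K K' y) x = ∑ Q ∈ Qs, LocRes.locRes (ψ Q) y (algebraMap K K' x) := by
  classical
  have hQ : ∀ q : Qs, IsOver (q : Place k K') P := fun q => (hQs q).1 q.2
  have D0 := fun q : Qs => LR.exists_liesOver (ψ := ψ q) hφ (hψ q q.2) (ramIdx_pos (hQ q))
    (fun a => isOverWith_ramIdx (hQ q) a)
  let D := fun q => Classical.choice (D0 q)
  obtain ⟨s, b, hb⟩ := exists_local_basis (K' := K') hK P
  have hint : ∀ j, (b j) ∈ IntP K' P := fun j => (hb _).2 fun i => by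
    rw [Module.Basis.repr_self, Finsupp.single_apply]; split_ifs <;> simp
  have hD : LR.FullOver φ P.1 (fun q : Qs => ψ q) D b := by
    refine ⟨hφ.1, hφ.2.1, fun q j => ?_, ?_, ?_⟩
    · rw [(hψ q q.2).1]; exact mem_IntP.1 (hint j) q (hQ q)
    · have h1 := (fundamental (K' := K') hK P).2 Qs hQs
      rw [Module.finrank_eq_card_basis b, ← finrank_coeffField hφ] at h1
      refine Nat.eq_of_mul_eq_mul_right (Module.finrank_pos (R := k) (M := F)) ?_
      rw [← h1, Finset.sum_mul, ← Finset.sum_coe_sort Qs]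
      refine Finset.sum_congr rfl fun q _ => ?_
      letI := ((D q).σ.toRingHom).toAlgebra
      haveI : IsScalarTower k F (F' q) := IsScalarTower.of_algebraMap_eq fun r => ((D q).σ.commutes r).symm
      rw [← finrank_coeffField (hψ q q.2), ← Module.finrank_mul_finrank k F (F' q), mul_assoc,
        mul_comm (Module.finrank F (F' q))]
    · intro c hc h j
      obtain ⟨t, ht⟩ := exists_uniformizer P
      have ht0 := ne_zero_of_val_eq_exp P ht
      have hz : t⁻¹ • ∑ i, c i • b i ∈ IntP K' P := by
        rw [mem_IntP]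
        intro Q hQ'
        have h2 := h ⟨Q, (hQs Q).2 hQ'⟩
        rw [(hψ Q ((hQs Q).2 hQ')).1] at h2
        rw [Algebra.smul_def, map_mul, (isOverWith_ramIdx hQ') t⁻¹, map_inv₀, ht]
        refine (mul_le_mul' le_rfl h2).trans_eq ?_
        rw [inv_pow, ← exp_nsmul, ← exp_neg, ← exp_add]; simp
      have h3 := (hb _).1 hz j
      rw [map_smul, Finsupp.smul_apply, b.repr_sum_self, smul_eq_mul, map_mul, map_inv₀, ht, ← exp_neg,
        neg_neg] at h3
      refine lt_of_le_of_lt ?_ (show exp (-1 : ℤ) < (1 : ℤᵐ⁰) by rw [← exp_zero, exp_lt_exp]; norm_num)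
      calc P.1 (c j) = exp (-1 : ℤ) * (exp (1 : ℤ) * P.1 (c j)) := by
            rw [← mul_assoc, ← exp_add]; simp
        _ ≤ exp (-1 : ℤ) * 1 := mul_le_mul' le_rfl h3
        _ = exp (-1 : ℤ) := mul_one _
  rw [LR.locRes_trace hD (fun q => inferInstance) hφ.2.2 y x]
  exact Finset.sum_coe_sort Qs (fun Q => LocRes.locRes (ψ Q) y (algebraMap K K' x))

end Groth.Agent.FF
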