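import Groth.Agent.FF.LR.ResThm

/-! Weil differentials from residues. -/

set_option autoImplicit false
set_option linter.style.haveILetI false
set_option linter.unusedSectionVars false

open FunFld WithZero LaurentSeries

namespace Groth.Agent.FF

variable {k : Type*} {K : Type*} [Field k] [Field K] [Algebra k K]

section Local

variable {F : Type*} [Field F] [Algebra k F] {φ : K →ₐ[k] F⸨X⸩} {P : Place k K}

lemma finiteDimensional_coeffField (hK : IsFF k K) (hφ : LocRes.IsExpansionAt P.1 φ) :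
    FiniteDimensional k F := by
  obtain ⟨ι⟩ := nonempty_residueEquiv hφ
  exact @Module.Finite.equiv k (IsLocalRing.ResidueField P.O) F _ _ Algebra.toModule _ _
    (finiteDimensional_residueField hK P) ι.toLinearEquiv

lemma vDiff_mul (hφ : LocRes.IsExpansionAt P.1 φ) (a u v : K) :
    LocRes.vDiff φ (a * u) v = P.1 a * LocRes.vDiff φ u v := by
  show Valued.v (φ (a * u) * LocRes.D F (φ v)) = _
  rw [map_mul φ, mul_assoc, map_mul, hφ.1 a]
  rfl

lemma vDiff_one_mul (hφ : LocRes.IsExpansionAt P.1 φ) (u v : K) :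
    LocRes.vDiff φ u v = P.1 u * LocRes.vDiff φ 1 v := by
  rw [← vDiff_mul hφ, mul_one]

lemma vDiff_le_one_of_integral (hφ : LocRes.IsExpansionAt P.1 φ) {u v : K} (hu : P.1 u ≤ 1) (hv : P.1 v ≤ 1) :
    LocRes.vDiff φ u v ≤ 1 := by
  rw [LocRes.vDiff, map_mul, hφ.1]
  exact mul_le_one' hu (LR.v_D_le_one (by rw [hφ.1]; exact hv))

lemma locRes_eq_zero_of_vDiff_le {u v : K} (h : LocRes.vDiff φ u v ≤ 1) : LocRes.locRes φ u v = 0 := by
  show Algebra.trace k F ((φ u * LocRes.D F (φ v)).coeff (-1)) = 0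
  rw [LR.res_of_le_one h, map_zero]

variable (hK : IsFunctionField k K) (hG : Good k K) (hφ : LocRes.IsExpansionAt P.1 φ) {v : K}
  (hv : KaehlerDifferential.D k K v ≠ 0)
include hK hG hφ hv

lemma vDiff_ne_zero {u : K} (hu : u ≠ 0) : LocRes.vDiff φ u v ≠ 0 := by
  obtain ⟨t, ht⟩ := exists_uniformizer P
  have hts := (isSepVar_iff_D_ne_zero hK hG).2 (D_ne_zero_uniformizer hφ ht)
  obtain ⟨H, hH⟩ := exists_hasse hts
  rw [vDiff_eq hφ ht hts hH, map_ne_zero]
  refine mul_ne_zero hu fun h => hv ?_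
  rw [D_eq_smul hts hH v, h, zero_smul]

lemma exists_locRes_pole [Algebra.IsSeparable k F] {u : K} (hu : u ≠ 0) :
    ∃ a : K, P.1 a * LocRes.vDiff φ u v ≤ exp (1 : ℤ) ∧ LocRes.locRes φ (a * u) v ≠ 0 := by
  haveI := finiteDimensional_coeffField hK.1 hφ
  obtain ⟨t, ht⟩ := exists_uniformizer P
  have hts := (isSepVar_iff_D_ne_zero hK hG).2 (D_ne_zero_uniformizer hφ ht)
  obtain ⟨H, hH⟩ := exists_hasse hts
  have hv1 : LocRes.hasseD H 1 v ≠ 0 := fun h => hv (by rw [D_eq_smul hts hH v, h, zero_smul])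
  obtain ⟨c, hc⟩ : ∃ c : F, Algebra.trace k F c ≠ 0 := by
    by_contra! h
    exact Algebra.trace_ne_zero k F (LinearMap.ext h)
  obtain ⟨f, hf, hfc⟩ := hφ.2.1 c
  have hmul : f / (t * LocRes.hasseD H 1 v * u) * u * LocRes.hasseD H 1 v = f / t := by
    have := ne_zero_of_val_eq_exp P ht
    field_simp
  refine ⟨f / (t * LocRes.hasseD H 1 v * u), ?_, ?_⟩
  · rw [← vDiff_mul hφ, vDiff_eq hφ ht hts hH, hmul, map_div₀, ht, div_eq_mul_inv, ← exp_neg, neg_neg]
    exact (mul_le_mul' hf le_rfl).trans_eq (one_mul _)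
  · rw [LocRes.locRes, resExp_eq_mul hφ hts hH, hmul, resExp_div_uniformizer hφ ht hf, hfc]
    exact hc

end Local

section Global

variable {F : Place k K → Type*} [∀ P, Field (F P)] [∀ P, Algebra k (F P)]
  {φ : ∀ P, K →ₐ[k] LaurentSeries (F P)}

lemma finite_not_le (hK : IsFF k K) (u : K) : {P : Place k K | ¬ P.1 u ≤ 1}.Finite :=
  (finite_support_ord hK u).subset fun P hP h => hP ((val_le_one_iff P u).2 (le_of_eq (Eq.symm h)))

lemma finite_support_adele (hK : IsFF k K) (hφ : ∀ P, LocRes.IsExpansionAt P.1 (φ P))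
    (u v : K) (a : adele k K) :
    (Function.support fun P => LocRes.locRes (φ P) ((a : Place k K → K) P * u) v).Finite := by
  have h1 : {P : Place k K | ¬ P.1 ((a : Place k K → K) P) ≤ 1}.Finite := a.2
  refine ((h1.union (finite_not_le hK u)).union (finite_not_le hK v)).subset fun P hP => ?_
  by_contra h
  simp only [Set.mem_union, Set.mem_setOf_eq, not_or, not_not] at h
  refine hP (locRes_eq_zero_of_vDiff_le (vDiff_le_one_of_integral (hφ P) ?_ h.2))
  rw [map_mul]
  exact mul_le_one' h.1.1 h.1.2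

/-- the form `a ↦ ∑ res (a u dv)` -/
noncomputable def resW (hK : IsFF k K) (hφ : ∀ P, LocRes.IsExpansionAt P.1 (φ P)) (u v : K) :
    Module.Dual k (adele k K) where
  toFun a := ∑ᶠ P, LocRes.locRes (φ P) ((a : Place k K → K) P * u) v
  map_add' a b := by
    rw [← finsum_add_distrib (finite_support_adele hK hφ u v a) (finite_support_adele hK hφ u v b)]
    refine finsum_congr fun P => ?_
    rw [Submodule.coe_add, Pi.add_apply, add_mul, locRes_add_left]
  map_smul' c a := by
    rw [RingHom.id_apply, smul_finsum]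
    refine finsum_congr fun P => ?_
    rw [Submodule.coe_smul, Pi.smul_apply, smul_mul_assoc, locRes_smul_left, smul_eq_mul]

lemma resW_apply (hK : IsFF k K) (hφ : ∀ P, LocRes.IsExpansionAt P.1 (φ P)) (u v : K) (a : adele k K) :
    resW hK hφ u v a = ∑ᶠ P, LocRes.locRes (φ P) ((a : Place k K → K) P * u) v := rfl

variable (hK : IsFunctionField k K) (hG : Good k K) (hφ : ∀ P, LocRes.IsExpansionAt P.1 (φ P)) {u v : K}
  (hu : u ≠ 0) (hv : KaehlerDifferential.D k K v ≠ 0)
include hK hG hφ hu hv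

lemma resW_mem_WD_iff (E : Divisor k K) :
    resW hK.1 hφ u v ∈ WD E ↔ ∀ P, E P ≤ LocRes.ordDiff (φ P) u v := by
  classical
  haveI : ∀ P, FiniteDimensional k (F P) := fun P => finiteDimensional_coeffField hK.1 (hφ P)
  haveI : ∀ P, Algebra.IsSeparable k (F P) := fun P => isSeparable_coeffField hK hG (hφ P)
  have hvd : ∀ P, LocRes.vDiff (φ P) u v = exp (-LocRes.ordDiff (φ P) u v) := fun P => by
    rw [LocRes.ordDiff, neg_neg, exp_log (vDiff_ne_zero hK hG (hφ P) hv hu)]
  rw [mem_WD_iff hK]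
  constructor
  · intro h P
    by_contra hlt
    rw [not_le] at hlt
    obtain ⟨a, ha, hres⟩ := exists_locRes_pole hK hG (hφ P) hv hu
    have ha' : P.1 a ≤ exp (E P) := by
      rcases eq_or_ne a 0 with rfl | ha0
      · simp
      rw [val_eq_exp_ord P ha0, hvd, ← exp_add, exp_le_exp] at ha
      rw [val_eq_exp_ord P ha0, exp_le_exp]
      omega
    have hAD : (Pi.single P a : Place k K → K) ∈ AD E := by
      intro Q
      rcases eq_or_ne Q P with rfl | hne
      · rwa [Pi.single_eq_same]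
      · rw [Pi.single_eq_of_ne hne, map_zero]; exact zero_le
    have hmem : (Pi.single P a : Place k K → K) ∈ adele k K := by
      show {Q : Place k K | ¬ Q.1 ((Pi.single P a : Place k K → K) Q) ≤ 1}.Finite
      refine (Set.finite_singleton P).subset fun Q hQ => ?_
      by_contra hne
      exact hQ (by rw [Pi.single_eq_of_ne hne, map_zero]; exact zero_le)
    have h0 := h ⟨_, hmem⟩ (Submodule.mem_sup_left hAD)
    rw [resW_apply, finsum_eq_single _ P] at h0
    · simp only [Pi.single_eq_same] at h0; exact hres h0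
    · intro Q hne
      simp only [Pi.single_eq_of_ne hne, zero_mul, locRes_zero_left]
  · intro h a ha
    obtain ⟨y, hy, _, ⟨c, rfl⟩, hyc⟩ := Submodule.mem_sup.1 ha
    have hterm : ∀ P, LocRes.locRes (φ P) ((a : Place k K → K) P * u) v =
        LocRes.locRes (φ P) (c * u) v := by
      intro P
      rw [← hyc, Pi.add_apply, add_mul, locRes_add_left, locRes_eq_zero_of_vDiff_le, zero_add]
      · rfl
      · rw [vDiff_mul (hφ P), hvd]
        refine (mul_le_mul' (hy P) le_rfl).trans ?_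
        rw [← exp_add, ← exp_zero, exp_le_exp]
        have := h P
        omega
    rw [resW_apply]
    simp only [hterm]
    exact sum_locRes_eq_zero hK hφ _ _

/-- the divisor of `u dv` -/
theorem exists_divisor_resW : ∃ C : Divisor k K,
    (∀ P, C P = LocRes.ordDiff (φ P) u v) ∧ IsDivOf (resW hK.1 hφ u v) C ∧
      resW hK.1 hφ u v ≠ 0 ∧ IsWeil (resW hK.1 hφ u v) := by
  classical
  set c0 : Place k K → ℤ := fun P => min (LocRes.ordDiff (φ P) u v) 0 with hc0
  have hfin : (Function.support c0).Finite := by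
    refine ((finite_not_le hK.1 u).union (finite_not_le hK.1 v)).subset fun P hP => ?_
    by_contra h
    simp only [Set.mem_union, Set.mem_setOf_eq, not_or, not_not] at h
    refine hP ?_
    simp only [hc0, min_eq_right_iff]
    have h1 := vDiff_le_one_of_integral (hφ P) h.1 h.2
    rw [← exp_log (vDiff_ne_zero hK hG (hφ P) hv hu), ← exp_zero, exp_le_exp] at h1
    rw [LocRes.ordDiff]; omega
  let D0 : Divisor k K := Finsupp.ofSupportFinite c0 hfin
  have hW : IsWeil (resW hK.1 hφ u v) :=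
    ⟨D0, (resW_mem_WD_iff hK hG hφ hu hv D0).2 fun P => min_le_left _ _⟩
  obtain ⟨P0⟩ := nonempty_place hK.1
  have hne : resW hK.1 hφ u v ≠ 0 := fun h0 => by
    have := (resW_mem_WD_iff hK hG hφ hu hv (Finsupp.single P0 (LocRes.ordDiff (φ P0) u v + 1))).1
      (by rw [h0]; exact Submodule.zero_mem _) P0
    simp at this
  obtain ⟨C, hC⟩ := exists_isDivOf hK hW hne
  refine ⟨C, fun P => ?_, hC, hne, hW⟩
  have hle : ∀ Q, C Q ≤ LocRes.ordDiff (φ Q) u v := (resW_mem_WD_iff hK hG hφ hu hv C).1 ((hC C).2 le_rfl)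
  refine le_antisymm (hle P) ?_
  have := (hC (C.update P (LocRes.ordDiff (φ P) u v))).1
    ((resW_mem_WD_iff hK hG hφ hu hv _).2 fun Q => by
      rw [Finsupp.coe_update]
      rcases eq_or_ne Q P with rfl | hne
      · rw [Function.update_self]
      · rw [Function.update_of_ne hne]; exact hle Q) P
  rwa [Finsupp.coe_update, Function.update_self] at this

end Global

section Cor

variable {F : Place k K → Type*} [∀ P, Field (F P)] [∀ P, Algebra k (F P)]
  {φ : ∀ P, K →ₐ[k] LaurentSeries (F P)}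
  (hK : IsFunctionField k K) (hG : Good k K) (hφ : ∀ P, LocRes.IsExpansionAt P.1 (φ P)) {v : K}
  (hv : KaehlerDifferential.D k K v ≠ 0)
include hK hG hφ hv

/-- divisor of `dv` is canonical -/
theorem exists_canonical_diff : ∃ C : Divisor k K,
    (∀ P, C P = LocRes.ordDiff (φ P) 1 v) ∧ IsDivOf (resW hK.1 hφ 1 v) C ∧ IsCanonical k K C := by
  obtain ⟨C, hC, hdiv, hne, -⟩ := exists_divisor_resW hK hG hφ one_ne_zero hv
  exact ⟨C, hC, hdiv, _, hne, hdiv⟩

lemma vDiff_le_iff_mem_L {C : Divisor k K} (hC : ∀ P, C P = LocRes.ordDiff (φ P) 1 v)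
    (D : Divisor k K) (y : K) :
    (∀ P, LocRes.vDiff (φ P) y v ≤ exp (-(D P))) ↔ y ∈ L (C - D) := by
  refine forall_congr' fun P => ?_
  rw [vDiff_one_mul (hφ P), Finsupp.sub_apply, hC, LocRes.ordDiff,
    ← exp_log (vDiff_ne_zero hK hG (hφ P) hv one_ne_zero), log_exp, sub_eq_add_neg, exp_add]
  set m := log (LocRes.vDiff (φ P) 1 v)
  rw [exp_log (vDiff_ne_zero hK hG (hφ P) hv one_ne_zero), ← exp_log (vDiff_ne_zero hK hG (hφ P) hv one_ne_zero)]
  constructor
  · intro h
    calc P.1 y = P.1 y * exp m * exp (-m) := by rw [mul_assoc, ← exp_add, add_neg_cancel, exp_zero, mul_one]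
      _ ≤ exp (-(D P)) * exp (-m) := mul_le_mul' h le_rfl
      _ = _ := mul_comm _ _
  · intro h
    calc P.1 y * exp m ≤ exp (-m) * exp (-(D P)) * exp m := mul_le_mul' h le_rfl
      _ = exp (-(D P)) := by
        rw [mul_comm (exp (-m)), mul_assoc, ← exp_add, neg_add_cancel, exp_zero, mul_one]

lemma finrank_span_vDiff_le (D : Divisor k K) :
    Module.finrank k (Submodule.span k {y : K | ∀ P, LocRes.vDiff (φ P) y v ≤ exp (-(D P))}) =
      Module.finrank k (WD D) := by
  obtain ⟨C, hC, hdiv, -⟩ := exists_canonical_diff hK hG hφ hv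
  have hset : {y : K | ∀ P, LocRes.vDiff (φ P) y v ≤ exp (-(D P))} = (L (C - D) : Set K) :=
    Set.ext fun y => vDiff_le_iff_mem_L hK hG hφ hv hC D y
  rw [hset, Submodule.span_eq, WD_eq_map hK hdiv D,
    ← (Submodule.equivMapOfInjective _ (mulWHom_injective hK (ne_zero_of_isDivOf hK hdiv)) _).finrank_eq]

lemma existsUnique_resW (ω : Module.Dual k (adele k K)) (hω : IsWeil ω) :
    ∃! u : K, ∀ a : adele k K,
      (Function.support fun P => LocRes.locRes (φ P) ((a : Place k K → K) P * u) v).Finite ∧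
        ω a = ∑ᶠ P, LocRes.locRes (φ P) ((a : Place k K → K) P * u) v := by
  obtain ⟨C, -, hdiv, -⟩ := exists_canonical_diff hK hG hφ hv
  obtain ⟨x, hx⟩ := exists_mulW_eq hK (isWeil_of_isDivOf hdiv) (ne_zero_of_isDivOf hK hdiv) hω
  have key : ∀ (z : K) (a : adele k K), mulWHom hK (resW hK.1 hφ 1 v) z a =
      ∑ᶠ P, LocRes.locRes (φ P) ((a : Place k K → K) P * z) v := by
    intro z a
    refine finsum_congr fun P => ?_
    show LocRes.locRes (φ P) ((z • (a : Place k K → K)) P * 1) v = _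
    rw [Pi.smul_apply, smul_eq_mul, mul_one, mul_comm]
  refine ⟨x, fun a => ⟨finite_support_adele hK.1 hφ x v a, by rw [← hx, key]⟩, fun y hy => ?_⟩
  refine mulWHom_injective hK (ne_zero_of_isDivOf hK hdiv) ?_
  rw [hx]
  exact LinearMap.ext fun a => by rw [key, (hy a).2]

lemma exists_vDiff_eq_one (h1 : genus k K = 1) :
    (∃ u : K, u ≠ 0 ∧ ∀ P, LocRes.vDiff (φ P) u v = 1) ∧
      ∀ u u' : K, u ≠ 0 → (∀ P, LocRes.vDiff (φ P) u v = 1) → (∀ P, LocRes.vDiff (φ P) u' v = 1) →
        ∃ c : k, u' = c • u := by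
  obtain ⟨C, hC, hdiv, hcan⟩ := exists_canonical_diff hK hG hφ hv
  haveI := finiteDimensional_L hK.1 C
  have hl : Module.finrank k (L C) = 1 := (ell_canonical hK hcan).trans h1
  have hdeg : C.deg = 0 := by rw [deg_canonical hK hcan, h1]; norm_num
  have hmem : ∀ y, (∀ P, LocRes.vDiff (φ P) y v ≤ 1) ↔ y ∈ L C := fun y => by
    have := vDiff_le_iff_mem_L hK hG hφ hv hC 0 y
    simpa using this
  refine ⟨?_, fun u u' hu0 hu hu' => ?_⟩
  · obtain ⟨u, hu, hu0⟩ := Submodule.exists_mem_ne_zero_of_ne_bot (p := L C)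
      (fun h => by rw [h, finrank_bot] at hl; exact zero_ne_one hl)
    refine ⟨u, hu0, fun P => ?_⟩
    have hE : 0 ≤ C + div k u := (mem_L_iff hK.1 hu0).1 hu
    have hE0 : C + div k u = 0 := by
      by_contra hne
      obtain ⟨Q, hQ⟩ : ∃ Q, (C + div k u) Q ≠ 0 := by
        by_contra! h; exact hne (Finsupp.ext h)
      have h2 : Finsupp.single Q 1 ≤ C + div k u := by
        intro R
        classical
        rw [Finsupp.single_apply]
        have := hE R
        split_ifs with hR
        · subst hR; simp only [Finsupp.coe_zero, Pi.zero_apply] at this; omega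
        · simpa using this
      have h3 := deg_mono h2
      rw [deg_single, deg_add, hdeg, deg_div hK.1] at h3
      have := deg_pos hK.1 Q
      omega
    have h4 := DFunLike.congr_fun hE0 P
    rw [Finsupp.add_apply, hC, div_apply hK.1, Finsupp.coe_zero, Pi.zero_apply, LocRes.ordDiff] at h4
    rw [vDiff_one_mul (hφ P), val_eq_exp_ord P hu0,
      ← exp_log (vDiff_ne_zero hK hG (hφ P) hv one_ne_zero), ← exp_add, ← exp_zero]
    congr 1; omega
  · obtain ⟨c, hc⟩ := (finrank_eq_one_iff_of_nonzero' (⟨u, (hmem u).1 fun P => (hu P).le⟩ : L C)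
      (fun h => hu0 (congrArg Subtype.val h))).1 hl ⟨u', (hmem u').1 fun P => (hu' P).le⟩
    exact ⟨c, (congrArg Subtype.val hc).symm⟩

end Cor

end Groth.Agent.FF
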